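import Cfsg.Agent.Lib.Grp.PolarRec.Lines

/-! The lines have three or five points. -/

set_option autoImplicit false
set_option linter.unusedSectionVars false

namespace Cfsg.Agent.Grp.PolarRec

open Cfsg Cfsg.Agent.Spor.ThreeTrans
open Cfsg.Agent.Spor.ThreeTrans renaming mul_self → dsq

variable {G : Type*} [Group G] [Finite G] {D : Set G}

/-- Commuting with all members around `x`. -/
def Cent (D : Set G) (x g : G) : Prop := ∀ f ∈ perp D x, Commute f g

variable (C : Ctx D)
include C

theorem line_card {a b a' b' : G} (ha : a ∈ D) (hb : b ∈ perp D a) (ha' : a' ∈ D)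
    (hb' : b' ∈ perp D a') : (line D a b).ncard = (line D a' b').ncard := by
  obtain ⟨g, rfl⟩ := transitive C.h ha ha'
  have hgb : g * b * g⁻¹ ∈ perp D (g * a * g⁻¹) := by
    rw [perp_conj C.h]; exact ⟨b, hb, rfl⟩
  obtain ⟨k, hk, rfl⟩ := transitive_perp C.H ha' hgb hb'
  have hka : Commute k (g * a * g⁻¹) :=
    localGroup_commute (Subgroup.closure_mono (Set.subset_insert _ _) hk)
  rw [← Set.ncard_image_of_injective (line D a b) (f := fun e => (k * g) * e * (k * g)⁻¹)
    (fun u v e => by simpa using e)]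
  congr 1
  have e₁ : (k * g) * a * (k * g)⁻¹ = g * a * g⁻¹ := by
    conv_rhs => rw [← conj_self_eq hka]
    simp [mul_assoc]
  have e₂ : (k * g) * b * (k * g)⁻¹ = k * (g * b * g⁻¹) * k⁻¹ := by simp [mul_assoc]
  ext c
  constructor
  · rintro ⟨u, hu, rfl⟩
    have := line_conj C.h (k * g) hu
    rwa [e₁, e₂] at this
  · intro hc
    refine ⟨(k * g)⁻¹ * c * (k * g)⁻¹⁻¹, ?_, by group⟩
    have := line_conj C.h (k * g)⁻¹ hc
    rw [← e₁, ← e₂] at this
    convert this using 2 <;> group

theorem cls_card {x p x' p' : G} (hx : x ∈ D) (hp : p ∈ perp D x) (hx' : x' ∈ D)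
    (hp' : p' ∈ perp D x') : (cls D x p).ncard = (cls D x' p').ncard := by
  rw [cls, cls, Set.ncard_sdiff_singleton_of_mem (left_mem_line hx),
    Set.ncard_sdiff_singleton_of_mem (left_mem_line hx'), line_card C hx hp hx' hp']

theorem exists_apart_comm {x p : G} (hx : x ∈ D) (hp : p ∈ perp D x) :
    ∃ y ∈ apart D x, Commute y p := by
  by_contra hno
  push Not at hno
  have h := C.h
  have hsub : {e : G | e ∈ D ∧ Commute p e} ⊆ {e : G | e ∈ D ∧ Commute x e} := fun e he =>
    ⟨he.1, by_contra fun k => hno e ⟨he.1, fun k' => k k'.symm⟩ he.2.symm⟩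
  have heq := Set.eq_of_subset_of_ncard_le hsub
    (Block.FischerTypes.ncard_commute_eq h hx hp.1).le (Set.toFinite _)
  exact hp.2.1 (C.tf p x ⟨hp.1, hx, fun e he => by
    have := Set.ext_iff.mp heq e
    simpa [he] using this⟩)

/-- Every member of a class is a translate of a given one. -/
theorem exists_pair {x p f f' : G} (hx : x ∈ D) (hp : p ∈ perp D x) (hf : f ∈ perp D x)
    (hfp : ¬ Commute f p) (hf' : f' ∈ cls D x f) :
    ∃ a ∈ cls D x p, f' = p * a * f * (p * a)⁻¹ := by
  have h := C.h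
  let φ : G → G := fun a => p * a * f * (p * a)⁻¹
  have hmaps : ∀ a ∈ cls D x p, φ a ∈ cls D x f := by
    intro a ha
    by_cases hap : a = p
    · subst hap
      simp only [φ, dsq h.1 hp.1, inv_one, mul_one, one_mul]
      exact self_mem_cls hf
    · exact (pair_moves C hx hp (self_mem_cls hp) ha (Ne.symm hap) hf hfp).1
  have hinj : Set.InjOn φ (cls D x p) := by
    intro a ha b hb e
    by_contra hne
    have haP := cls_perp C hx hp ha
    have hbP := cls_perp C hx hp hb
    have hfa : ¬ Commute f a := fun k => hfp (cls_same C hx hp ha (self_mem_cls hp) hf k)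
    refine (pair_moves C hx hp ha hb hne hf hfa).2 ?_
    have e' := congrArg (fun z => p * a * ((p * b)⁻¹ * z * (p * b))⁻¹) e
    have e1 : (p * b)⁻¹ * φ a * (p * b) = b * a * f * (b * a)⁻¹ := by
      simp [φ, mul_assoc, inv_eq h.1 hp.1, inv_eq h.1 haP.1, inv_eq h.1 hbP.1,
        mul_self_mul h.1 hp.1]
    have e2 : (p * b)⁻¹ * φ b * (p * b) = f := by simp [φ, mul_assoc]
    have e3 : b * a * f * (b * a)⁻¹ = f := by rw [← e1, show φ a = φ b from e, e2]
    rwa [(line_pair hx hp hb.1 ha.1).eq] at e3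
  have hsurj : φ '' cls D x p = cls D x f :=
    Set.eq_of_subset_of_ncard_le (by rintro _ ⟨a, ha, rfl⟩; exact hmaps a ha)
      (by rw [Set.ncard_image_of_injOn hinj, cls_card C hx hp hx hf]) (Set.toFinite _)
  obtain ⟨a, ha, e⟩ := (hsurj.symm ▸ hf' : f' ∈ φ '' cls D x p)
  exact ⟨a, ha, e.symm⟩

omit [Finite G] C in
theorem sq_mul {u v : G} (hu : u * u = 1) (hv : v * v = 1) (hc : Commute u v) :
    (u * v) * (u * v) = 1 := by
  rw [mul_assoc, ← mul_assoc v u v, hc.symm.eq, mul_assoc u v v, hv, mul_one, hu]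

/-- The product of a star and its fourth point centralizes the centre of the star. -/
theorem quint_comm {x a b y : G} (hx : x ∈ D) (ha : a ∈ D) (hb : b ∈ D) (hy : y ∈ D)
    (hxa : Commute x a) (hxb : Commute x b) (hab : Commute a b) (hyx : ¬ Commute y x)
    (hya : ¬ Commute y a) (hyb : ¬ Commute y b) :
    Commute y (x * a * b * (star x a y * b * (star x a y)⁻¹)) := by
  have h := C.h
  obtain ⟨hc, -⟩ := star_conj C hx ha hy hxa hyx hya
  set u := x * a with hu
  have eu : u * u = 1 := sq_mul (dsq h.1 hx) (dsq h.1 ha) hxa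
  have hub : Commute u b := hxb.mul_left hab
  have ey := dsq h.1 hy
  have rb : b * y * b = y * b * y := braid h.1 hb hy fun k => hyb k.symm
  have hw : x * a * y * a * x = u * y * u := by
    rw [hu, hxa.eq]; simp only [mul_assoc]
  rw [hw] at hc
  set g := star x a y with hg
  have hg1 : g = y * u * y * u := by rw [hg, star, hw]; simp only [mul_assoc]
  have hg2 : g = u * y * u * y := by
    rw [hg, star, hw, hc.eq]
  have hgi : g⁻¹ = g := by
    refine inv_eq_of_mul_eq_one_right ?_
    rw [hg, star, hw]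
    exact sq_mul ey (by
      calc u * y * u * (u * y * u) = u * y * (u * u) * y * u := by simp [mul_assoc]
        _ = 1 := by rw [eu, mul_one, mul_assoc u y y, ey, mul_one, eu]) hc
  have hgy : Commute g y := by
    rw [hg, star, hw]; exact (Commute.refl y).mul_left hc.symm
  rw [hgi]
  have e : u * b * (g * b * g) = g * b * y * u * y * b := by
    calc u * b * (g * b * g) = u * b * ((y * u * y * u) * b * (u * y * u * y)) := by
          conv_lhs => arg 2; arg 2; rw [hg2]
          conv_lhs => arg 2; arg 1; arg 1; rw [hg1]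
      _ = u * b * y * u * y * (u * b * u) * y * u * y := by simp [mul_assoc]
      _ = u * b * y * u * (y * b * y) * u * y := by
          rw [show u * b * u = b by rw [hub.eq, mul_assoc, eu, mul_one]]; simp [mul_assoc]
      _ = u * b * y * (u * b) * y * (b * u) * y := by rw [← rb]; simp [mul_assoc]
      _ = u * (b * y * b) * (u * y * u) * b * y := by
          rw [hub.eq, ← hub.eq]; nth_rw 2 [hub.eq]; simp [mul_assoc]
      _ = u * y * b * (y * (u * y * u)) * b * y := by rw [rb]; simp [mul_assoc]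
      _ = u * y * (b * u) * y * (u * (y * b * y)) := by rw [hc.eq]; simp [mul_assoc]
      _ = u * y * (u * b) * y * (u * (b * y * b)) := by rw [hub.eq, rb]
      _ = u * y * u * (b * y * (u * b)) * y * b := by simp [mul_assoc]
      _ = u * y * u * (b * y * b) * u * y * b := by rw [hub.eq]; simp [mul_assoc]
      _ = (u * y * u * y) * b * y * u * y * b := by rw [rb]; simp [mul_assoc]
      _ = _ := by rw [← hg2]
  show y * (u * b * (g * b * g)) = u * b * (g * b * g) * y
  rw [e]
  calc y * (g * b * y * u * y * b) = (y * g) * (b * y * u * y * b) := by simp [mul_assoc]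
    _ = g * (y * b * y) * (u * y * b) := by rw [← hgy.eq]; simp [mul_assoc]
    _ = g * b * y * (b * u) * y * b := by rw [← rb]; simp [mul_assoc]
    _ = g * b * y * u * (b * y * b) := by rw [← hub.eq]; simp [mul_assoc]
    _ = _ := by rw [rb]; simp [mul_assoc]

/-- The fourth point of a star and the point seen by its centre complete a quad. -/
theorem star_quad {x a b p y : G} (hx : x ∈ D) (hp : p ∈ perp D x) (ha : a ∈ cls D x p)
    (hb : b ∈ cls D x p) (hap : a ≠ p) (hbp : b ≠ p) (hab : a ≠ b) (hy : y ∈ apart D x)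
    (hyp : Commute y p) :
    star x a y * b * (star x a y)⁻¹ ∈ cls D x p ∧ star x a y * b * (star x a y)⁻¹ ≠ a ∧
    star x a y * b * (star x a y)⁻¹ ≠ b ∧ star x a y * b * (star x a y)⁻¹ ≠ p ∧
    Cent D x (a * b * (star x a y * b * (star x a y)⁻¹) * p) := by
  have h := C.h
  have hnc : ∀ v ∈ cls D x p, v ≠ p → ¬ Commute y v := fun v hv hne k =>
    hne ((exists_unique_cls C hx hp hy).unique ⟨hv, k⟩ ⟨self_mem_cls hp, hyp⟩)
  have haP := cls_perp C hx hp ha
  have hbP := cls_perp C hx hp hb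
  have hya := hnc a ha hap
  have hyb := hnc b hb hbp
  have hxa : Commute x a := haP.2.2
  have hyx : ¬ Commute y x := hy.2
  obtain ⟨hyw, e1⟩ := star_conj C hx haP.1 hy.1 hxa hyx hya
  obtain ⟨-, e2⟩ := star_conj C haP.1 hx hy.1 hxa.symm hya hyx
  have hsym : star a x y = star x a y := by
    simp only [star]; congr 1
    rw [← hxa.eq, mul_assoc (x * a * y) x a, hxa.eq, ← mul_assoc]
  rw [hsym] at e2
  set g := star x a y with hg
  have hgp : Commute g p := by
    have hpx : Commute x p := hp.2.2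
    have hpa : Commute a p := line_pair hx hp ha.1 (right_mem_line hp.1)
    exact hyp.mul_left ((((hpx.mul_left hpa).mul_left hyp).mul_left hpa).mul_left hpx)
  set e := g * b * g⁻¹ with he
  have hel : e ∈ line D x p := by
    have := line_conj h g ((cls_line_eq C hx hp ha).symm ▸ hb.1 : b ∈ line D x a)
    rwa [e1, e2, ← line_symm C x a, cls_line_eq C hx hp ha] at this
  have hex : e ≠ x := fun k => hab (by
    have : g * b * g⁻¹ = g * a * g⁻¹ := k.trans e2.symm
    simpa using this.symm)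
  have hea : e ≠ a := fun k => hb.2 (by
    have : g * b * g⁻¹ = g * x * g⁻¹ := k.trans e1.symm
    show b = x
    simpa using this)
  have hep : e ≠ p := fun k => hbp (by
    have : g * b * g⁻¹ = g * p * g⁻¹ := k.trans (by rw [hgp.eq, mul_inv_cancel_right])
    simpa using this)
  have heb : e ≠ b := fun k => by
    have hwD : x * a * y * a * x ∈ D := by
      have : x * a * y * a * x = x * (a * y * a) * x := by simp [mul_assoc]
      rw [this]; exact conj'_mem h hx (conj'_mem h haP.1 hy.1)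
    have hne : y ≠ x * a * y * a * x := fun k' => by
      refine hyx ((commute_mul_iff h.1 hx haP.1 hy.1 (Ne.symm ha.2) hxa).mp ?_).1
      show y * (x * a) = x * a * y
      conv_lhs => rw [k']
      simp [mul_assoc, mul_self_mul h.1 hx, dsq h.1 haP.1]
    exact hyb ((commute_mul_iff h.1 hy.1 hwD hbP.1 hne hyw).mp
      (mul_inv_eq_iff_eq_mul.mp k).symm).1.symm
  refine ⟨⟨hel, hex⟩, hea, heb, hep, ?_⟩
  have heK : e ∈ cls D x p := ⟨hel, hex⟩
  have heP := cls_perp C hx hp heK
  have hcomm : ∀ u ∈ cls D x p, ∀ v ∈ cls D x p, Commute u v := fun u hu v hv =>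
    line_pair hx hp hu.1 hv.1
  have hpK := self_mem_cls hp
  set w0 := a * b * e * p with hw0
  intro f hf
  by_cases hfa : Commute f a
  · exact ((hfa.mul_right (cls_same C hx hp ha hb hf hfa)).mul_right
      (cls_same C hx hp ha heK hf hfa)).mul_right (cls_same C hx hp ha hpK hf hfa)
  obtain ⟨f₀, ⟨hf₀, hyf₀⟩, huniq⟩ := exists_unique_cls C hx hf hy
  have hf₀P := cls_perp C hx hf hf₀
  have hf₀a : ¬ Commute f₀ a := fun k =>
    hfa (line_two C hx hf (left_mem_line hx) hf₀.1 (Ne.symm hf₀.2) haP.1 haP.2.2.symm k.symm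
      (right_mem_line hf.1)).symm
  have hwy : Commute y (x * w0) := by
    have := (quint_comm C hx haP.1 hbP.1 hy.1 hxa hbP.2.2 (hcomm a ha b hb) hyx hya hyb).mul_right hyp
    simpa [w0, he, hg, mul_assoc] using this
  have hxw : Commute x w0 := ((hxa.mul_right hbP.2.2).mul_right heP.2.2).mul_right hp.2.2
  have hmove : w0 * f₀ * w0⁻¹ ∈ cls D x f := by
    have hf₀e : ¬ Commute f₀ e := fun k => hf₀a (cls_same C hx hp heK ha hf₀P k)
    obtain ⟨h1, -⟩ := pair_moves C hx hp heK hpK hep hf₀P hf₀e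
    have h1P := cls_perp C hx hf₀P h1
    have hne : ¬ Commute (e * p * f₀ * (e * p)⁻¹) a := fun k =>
      hf₀a (line_two C hx hf₀P (left_mem_line hx) h1.1 (Ne.symm h1.2) haP.1 haP.2.2.symm k.symm
        (right_mem_line hf₀P.1)).symm
    obtain ⟨h2, -⟩ := pair_moves C hx hp ha hb hab h1P hne
    rw [cls_eq C hx hf₀P h1, cls_eq C hx hf hf₀] at h2
    simpa [w0, mul_assoc] using h2
  have hfix : w0 * f₀ * w0⁻¹ = f₀ := by
    refine huniq _ ⟨hmove, ?_⟩
    have := (commute_conj_iff (x * w0) y f₀).mpr hyf₀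
    rw [conj_self_eq hwy.symm, show x * w0 * f₀ * (x * w0)⁻¹ = x * (w0 * f₀ * w0⁻¹) * x⁻¹ by group,
      conj_self_eq (cls_perp C hx hf hmove).2.2] at this
    exact this
  have hw₀ : Commute f₀ w0 := (mul_inv_eq_iff_eq_mul.mp hfix).symm
  obtain ⟨a', ha', hfe⟩ := exists_pair C hx hp hf₀P
    (fun k => hf₀a (cls_same C hx hp hpK ha hf₀P k))
    ((cls_eq C hx hf hf₀).symm ▸ self_mem_cls hf : f ∈ cls D x f₀)
  have hq : Commute (p * a') w0 := by
    have hc : ∀ u ∈ cls D x p, Commute u w0 := fun u hu =>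
      (((hcomm u hu a ha).mul_right (hcomm u hu b hb)).mul_right (hcomm u hu e heK)).mul_right
        (hcomm u hu p hpK)
    exact (hc p hpK).mul_left (hc a' ha')
  rw [hfe]
  exact (hq.mul_left hw₀).mul_left hq.inv_left

/-- A quad: four members of a class whose product is invisible around `x`. -/
structure Quad (D : Set G) (x a b c e : G) : Prop where
  perpA : a ∈ perp D x
  memB : b ∈ cls D x a
  memC : c ∈ cls D x a
  memE : e ∈ cls D x a
  ab : a ≠ b
  ac : a ≠ c
  ae : a ≠ e
  bc : b ≠ c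
  be : b ≠ e
  ce : c ≠ e
  cent : Cent D x (a * b * c * e)

theorem cent_unique {x p e e' s : G} (hx : x ∈ D) (hp : p ∈ perp D x) (he : e ∈ cls D x p)
    (he' : e' ∈ cls D x p) (hs : s * s = 1) (hse : Commute s e) (h1 : Cent D x (s * e))
    (h2 : Cent D x (s * e')) : e = e' := by
  by_contra hne
  obtain ⟨f, hf, hfe⟩ := exists_noncomm_perp C hx (cls_perp C hx hp he)
  refine (pair_moves C hx hp he he' hne hf hfe).2 ?_
  have := (h1 f hf).mul_right (h2 f hf)
  rw [show s * e * (s * e') = e * e' by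
    rw [hse.eq, mul_assoc, ← mul_assoc s, hs, one_mul]] at this
  rw [← this.eq, mul_inv_cancel_right]

theorem Quad.exists_fourth {x a b p : G} (hx : x ∈ D) (ha : a ∈ perp D x) (hb : b ∈ cls D x a)
    (hp : p ∈ cls D x a) (hab : a ≠ b) (hap : a ≠ p) (hbp : b ≠ p) :
    ∃ c, Quad D x a b c p := by
  have hpP := cls_perp C hx ha hp
  obtain ⟨y, hy, hyp⟩ := exists_apart_comm C hx hpP
  have e := cls_eq C hx ha hp
  obtain ⟨h1, h2, h3, h4, h5⟩ := star_quad C hx hpP (e ▸ self_mem_cls ha) (e ▸ hb) hap hbp hab hy hyp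
  exact ⟨_, ha, hb, e ▸ h1, hp, hab, Ne.symm h2, hap, Ne.symm h3, hbp, h4, h5⟩

/-- The base point of a quad can be exchanged. -/
theorem Quad.exchange {x a b c p : G} (hx : x ∈ D) (q : Quad D x a b c p) : Quad D a x b c p := by
  obtain ⟨haP, hb, hc, hp, hab, hac, hap, hbc, hbp, hcp, hw⟩ := q
  have h := C.h
  have hpP := cls_perp C hx haP hp
  have e := cls_eq C hx haP hp
  obtain ⟨y, hy, hyp⟩ := exists_apart_comm C hx hpP
  obtain ⟨h1, h2, h3, h4, h5⟩ :=
    star_quad C hx hpP (e ▸ self_mem_cls haP) (e ▸ hb) hap hbp hab hy hyp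
  set e₁ := star x a y * b * (star x a y)⁻¹
  have hcomm : ∀ u ∈ cls D x a, ∀ v ∈ cls D x a, Commute u v := fun u hu v hv =>
    line_pair hx haP hu.1 hv.1
  have haK := self_mem_cls (D := D) haP
  have h1' : e₁ ∈ cls D x a := e ▸ h1
  have hs : (a * b * p) * (a * b * p) = 1 :=
    sq_mul (sq_mul (dsq h.1 haP.1) (dsq h.1 hb.1.1) (hcomm a haK b hb)) (dsq h.1 hp.1.1)
      ((hcomm a haK p hp).mul_left (hcomm b hb p hp))
  have hc' : c = e₁ := by
    refine cent_unique C hx haP hc h1' hs
      (((hcomm a haK c hc).mul_left (hcomm b hb c hc)).mul_left (hcomm p hp c hc)) ?_ ?_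
    · rwa [mul_assoc _ p c, (hcomm p hp c hc).eq, ← mul_assoc]
    · rwa [mul_assoc _ p e₁, (hcomm p hp e₁ h1').eq, ← mul_assoc]
  subst hc'
  -- the same star, seen from `a`
  have hxa' : x ∈ perp D a := ⟨hx, Ne.symm haP.2.1, haP.2.2.symm⟩
  have hl : line D a x = line D x a := (line_symm C x a).symm
  have hpa : p ∈ perp D a := ⟨hp.1.1, Ne.symm hap, hcomm a haK p hp⟩
  have hclsap : ∀ {v}, v ∈ line D x a → v ≠ a → v ∈ cls D a x := fun hv hne => ⟨hl ▸ hv, hne⟩
  have epa : cls D a p = cls D a x := cls_eq C haP.1 hxa' (hclsap hp.1 (Ne.symm hap))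
  have hya : y ∈ apart D a := ⟨hy.1, fun k => hap ((exists_unique_cls C hx hpP hy).unique
    ⟨e ▸ haK, k⟩ ⟨self_mem_cls hpP, hyp⟩)⟩
  obtain ⟨-, -, -, -, g5⟩ := star_quad C haP.1 hpa (epa ▸ self_mem_cls hxa')
    (epa ▸ hclsap hb.1 (Ne.symm hab)) (Ne.symm hp.2) hbp (Ne.symm hb.2) hya hyp
  have hsym : star a x y = star x a y := by
    simp only [star]; congr 1
    rw [← haP.2.2.eq, mul_assoc (x * a * y) x a, haP.2.2.eq, ← mul_assoc]
  rw [hsym] at g5
  exact ⟨hxa', hclsap hb.1 (Ne.symm hab), hclsap h1'.1 h2, hclsap hp.1 (Ne.symm hap),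
    Ne.symm hb.2, Ne.symm h1'.2, Ne.symm hp.2, hbc, hbp, hcp, g5⟩

/-- Classes have two or four members. -/
theorem cls_size {x p : G} (hx : x ∈ D) (hp : p ∈ perp D x) :
    (cls D x p).ncard = 2 ∨ (cls D x p).ncard = 4 := by
  have h := C.h
  obtain ⟨d, hd, hdx, hdp⟩ := exists_third C hx hp
  have hdK : d ∈ cls D x p := ⟨hd, hdx⟩
  have h2 : 2 ≤ (cls D x p).ncard :=
    (Set.one_lt_ncard (Set.toFinite _)).mpr ⟨d, hdK, p, self_mem_cls hp, hdp⟩
  obtain ⟨r, hr⟩ := cls_even C hx hp
  by_contra hno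
  push Not at hno
  have h6 : 6 ≤ (cls D x p).ncard := by omega
  -- three members and their quad
  obtain ⟨b, hb, hb'⟩ : ∃ b ∈ cls D x p, b ∉ ({p} : Set G) := ⟨d, hdK, hdp⟩
  rw [Set.mem_singleton_iff] at hb'
  obtain ⟨e, he, he'⟩ : ∃ e ∈ cls D x p, e ∉ ({p, b} : Set G) := by
    refine Set.exists_mem_notMem_of_ncard_lt_ncard (lt_of_le_of_lt (Set.ncard_insert_le _ _) ?_)
    rw [Set.ncard_singleton]; omega
  simp only [Set.mem_insert_iff, Set.mem_singleton_iff, not_or] at he'
  obtain ⟨c, q1⟩ := Quad.exists_fourth C hx hp hb he (Ne.symm hb') (Ne.symm he'.1) (Ne.symm he'.2)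
  obtain ⟨u, hu, hu'⟩ : ∃ u ∈ cls D x p, u ∉ ({p, b, c, e} : Set G) := by
    refine Set.exists_mem_notMem_of_ncard_lt_ncard (lt_of_le_of_lt
      ((Set.ncard_insert_le _ _).trans (add_le_add_left ((Set.ncard_insert_le _ _).trans
        (add_le_add_left (Set.ncard_insert_le _ _) 1)) 1)) ?_)
    rw [Set.ncard_singleton]; omega
  simp only [Set.mem_insert_iff, Set.mem_singleton_iff, not_or] at hu'
  obtain ⟨v, q2⟩ := Quad.exists_fourth C hx hp hb hu (Ne.symm hb') (Ne.symm hu'.1) (Ne.symm hu'.2.1)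
  have hcomm : ∀ s ∈ cls D x p, ∀ t ∈ cls D x p, Commute s t := fun s hs t ht =>
    line_pair hx hp hs.1 ht.1
  have pK := self_mem_cls (D := D) hp
  have ep := dsq h.1 hp.1
  have eb := dsq h.1 hb.1.1
  have ec := dsq h.1 q1.memC.1.1
  have ee := dsq h.1 he.1.1
  have eu := dsq h.1 hu.1.1
  have ev := dsq h.1 q2.memC.1.1
  -- uniqueness keeps the second quad off the first
  have hvc : v ≠ c := fun k => hu'.2.2.2 (by
    refine cent_unique C hx hp hu he (sq_mul (sq_mul ep eb (hcomm p pK b hb)) ec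
      ((hcomm p pK c q1.memC).mul_left (hcomm b hb c q1.memC)))
      (((hcomm p pK u hu).mul_left (hcomm b hb u hu)).mul_left (hcomm c q1.memC u hu)) ?_ q1.cent
    have := q2.cent
    rwa [k] at this)
  have hve : v ≠ e := fun k => hu'.2.2.1 (by
    have hec := hcomm e he c q1.memC
    refine cent_unique C hx hp hu q1.memC (sq_mul (sq_mul ep eb (hcomm p pK b hb)) ee
      ((hcomm p pK e he).mul_left (hcomm b hb e he)))
      (((hcomm p pK u hu).mul_left (hcomm b hb u hu)).mul_left (hcomm e he u hu)) ?_ ?_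
    · have := q2.cent
      rwa [k] at this
    · rw [mul_assoc _ e c, hec.eq, ← mul_assoc]; exact q1.cent)
  -- both bases
  have r1 := q1.exchange C hx
  have r2 := q2.exchange C hx
  have rel : ∀ {z w : G}, w ∈ perp D z → (z ∈ D) → Quad D z w b c e → Quad D z w b v u →
      Quad D z c e u v := by
    intro z w hw hz t1 t2
    have hcl := cls_eq C hz hw t1.memC
    have hcm : ∀ s ∈ cls D z w, ∀ t ∈ cls D z w, Commute s t := fun s hs t ht =>
      line_pair hz hw hs.1 ht.1
    have wK := self_mem_cls (D := D) hw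
    refine ⟨cls_perp C hz hw t1.memC, hcl ▸ t1.memE, hcl ▸ t2.memE, hcl ▸ t2.memC, t1.ce,
      Ne.symm hu'.2.2.1, Ne.symm hvc, Ne.symm hu'.2.2.2, Ne.symm hve, Ne.symm t2.ce, fun f hf => ?_⟩
    have hs : Commute (w * b) (c * e) :=
      ((hcm w wK c t1.memC).mul_left (hcm b t1.memB c t1.memC)).mul_right
        ((hcm w wK e t1.memE).mul_left (hcm b t1.memB e t1.memE))
    have hwb : w * b * (w * b) = 1 :=
      sq_mul (dsq h.1 hw.1) (dsq h.1 t1.memB.1.1) (hcm w wK b t1.memB)
    have := (t1.cent f hf).mul_right (t2.cent f hf)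
    rw [show w * b * c * e * (w * b * v * u) = c * e * u * v by
      calc w * b * c * e * (w * b * v * u) = (w * b * (c * e)) * (w * b) * (v * u) := by
            simp [mul_assoc]
        _ = c * e * ((w * b) * (w * b)) * (v * u) := by rw [hs.eq]; simp [mul_assoc]
        _ = c * e * u * v := by
            rw [hwb, mul_one, (hcm v t2.memC u t2.memE).eq]; simp [mul_assoc]] at this
    exact this
  have s1 := (rel hp hx q1 q2).exchange C hx
  have s2 := (rel ⟨hx, Ne.symm hp.2.1, hp.2.2.symm⟩ hp.1 r1 r2).exchange C hp.1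
  refine hp.2.1 ?_
  have hxc : x ∈ perp D c := s1.perpA
  have k1 : cls D c x = cls D c p := by
    have h1 : p ∈ line D c x := by
      rw [← line_symm C x c, cls_line_eq C hx hp q1.memC]; exact right_mem_line hp.1
    exact (cls_eq C q1.memC.1.1 hxc ⟨h1, q1.ac⟩).symm
  have hcm : ∀ s ∈ cls D c x, ∀ t ∈ cls D c x, Commute s t := fun s hs t ht =>
    line_pair q1.memC.1.1 hxc hs.1 ht.1
  refine (cent_unique C q1.memC.1.1 hxc (self_mem_cls hxc) (k1 ▸ self_mem_cls s2.perpA)
    (sq_mul (sq_mul ee eu (hcm e s1.memB u s1.memC)) ev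
      ((hcm e s1.memB v s1.memE).mul_left (hcm u s1.memC v s1.memE)))
    (((hcm e s1.memB x (self_mem_cls hxc)).mul_left (hcm u s1.memC x (self_mem_cls hxc))).mul_left
      (hcm v s1.memE x (self_mem_cls hxc))) (fun f hf => ?_) fun f hf => ?_).symm
  · have := s1.cent f hf
    rwa [show x * e * u * v = e * u * v * x by
      rw [mul_assoc x, mul_assoc x]
      exact ((hcm x (self_mem_cls hxc) e s1.memB).mul_right (hcm x (self_mem_cls hxc) u s1.memC)
        ).mul_right (hcm x (self_mem_cls hxc) v s1.memE)] at this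
  · have := s2.cent f hf
    have hcm' : ∀ s ∈ cls D c p, ∀ t ∈ cls D c p, Commute s t := k1 ▸ hcm
    have pc := self_mem_cls (D := D) s2.perpA
    rwa [show p * e * u * v = e * u * v * p by
      rw [mul_assoc p, mul_assoc p]
      exact ((hcm' p pc e s2.memB).mul_right (hcm' p pc u s2.memC)).mul_right
        (hcm' p pc v s2.memE)] at this

/-- With four members in a class their product is invisible around `x`. -/
theorem four_quad {x a b : G} (hx : x ∈ D) (ha : a ∈ perp D x) (hb : b ∈ cls D x a) {c : G}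
    (hc : c ∈ cls D x a) (hab : a ≠ b) (hac : a ≠ c) (hbc : b ≠ c) (h4 : (cls D x a).ncard = 4)
    {e : G} (he : e ∈ cls D x a) (hea : e ≠ a) (heb : e ≠ b) (hec : e ≠ c) :
    Cent D x (a * b * e * c) := by
  obtain ⟨z, q⟩ := Quad.exists_fourth C hx ha hb hc hab hac hbc
  by_contra hne
  have hze : z ≠ e := fun k => hne (k ▸ q.cent)
  have hsub : ({a, b, z, c, e} : Set G) ⊆ cls D x a := by
    intro w hw
    simp only [Set.mem_insert_iff, Set.mem_singleton_iff] at hw
    rcases hw with rfl | rfl | rfl | rfl | rfl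
    exacts [self_mem_cls ha, hb, q.memC, hc, he]
  have := Set.ncard_le_ncard hsub (Set.toFinite _)
  rw [h4, Set.ncard_insert_of_notMem (by simp [hab, q.ac, hac, Ne.symm hea]),
    Set.ncard_insert_of_notMem (by simp [q.bc, hbc, Ne.symm heb]),
    Set.ncard_insert_of_notMem (by simp [q.ce, hze]),
    Set.ncard_insert_of_notMem (by simp [Ne.symm hec]), Set.ncard_singleton] at this
  omega

end Cfsg.Agent.Grp.PolarRec
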