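import Cfsg.Agent.Lib.Grp.PolarRec.Iso
import Cfsg.Agent.Lib.Grp.PolarRec.Five
import Cfsg.Agent.Lib.Spor.SympClassTwo
import Cfsg.Agent.Lib.Classical.SympBlocks

/-! Lines of three points: the symplectic group over the field of two elements. -/

set_option autoImplicit false
set_option linter.unusedSectionVars false
set_option linter.style.haveILetI false

namespace Cfsg.Agent.Grp.PolarRec

open Cfsg Cfsg.Agent.Spor.ThreeTrans Matrix
open Cfsg.Agent.Spor.ThreeTrans renaming mul_self → dsq

variable {G : Type*} [Group G] [Finite G] {D : Set G}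

/-- The noncommuting indicator. -/
noncomputable def row (D : Set G) (a e : G) : ZMod 2 := by
  classical exact if e ∈ D ∧ ¬ Commute a e then 1 else 0

omit [Finite G] in
theorem row_outside {a e : G} (he : e ∉ D) : row D a e = 0 := by simp [row, he]

omit [Finite G] in
theorem row_comm {a e : G} (hc : Commute a e) : row D a e = 0 := by simp [row, hc]

omit [Finite G] in
theorem row_nc {a e : G} (he : e ∈ D) (hc : ¬ Commute a e) : row D a e = 1 := by simp [row, he, hc]

variable (C : Ctx D) (hk : ∀ x ∈ D, ∀ p ∈ perp D x, (cls D x p).ncard = 2)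
include C

theorem conj_commute_left {a b f : G} (ha : a ∈ D) (hb : b ∈ D) (hfa : Commute f a)
    (hfb : Commute f b) : Commute f (a * b * a) := (hfa.mul_right hfb).mul_right hfa

theorem only_one {a b f : G} (ha : a ∈ D) (hb : b ∈ D) (hab : ¬ Commute a b)
    (hfa : Commute f a) (hfb : ¬ Commute f b) : ¬ Commute f (a * b * a) := fun k => hfb (by
  have := (hfa.mul_right k).mul_right hfa
  simpa [mul_assoc, mul_self_mul C.h.1 ha, dsq C.h.1 ha] using this)

omit C in
include C in
theorem ncm_card (a b a' b' : G) (ha : a ∈ D) (hb : b ∈ apart D a) (ha' : a' ∈ D)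
    (hb' : b' ∈ apart D a') : (cm D a b).ncard = (cm D a' b').ncard := by
  obtain ⟨g, rfl⟩ := transitive C.h ha ha'
  have hgb : g * b * g⁻¹ ∈ apart D (g * a * g⁻¹) :=
    ⟨conj_mem C.h g hb.1, fun k => hb.2 ((commute_conj_iff g b a).mp k)⟩
  obtain ⟨k, hk', rfl⟩ := transitive_apart C.H ha' hgb hb'
  have hka : Commute k (g * a * g⁻¹) := localGroup_commute hk'
  have e : (cm D (g * a * g⁻¹) (k * (g * b * g⁻¹) * k⁻¹)) =
      cm D (k * (g * a * g⁻¹) * k⁻¹) (k * (g * b * g⁻¹) * k⁻¹) := by rw [conj_self_eq hka]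
  rw [e, cm_conj C.h, cm_conj C.h, Set.ncard_image_of_injective _ fun u v e => by simpa using e,
    Set.ncard_image_of_injective _ fun u v e => by simpa using e]

include hk

theorem line_three {a b c : G} (ha : a ∈ D) (hb : b ∈ perp D a) (hc : c ∈ line D a b)
    (hca : c ≠ a) (hcb : c ≠ b) : ∀ u ∈ line D a b, u = a ∨ u = b ∨ u = c := by
  intro u hu
  by_contra hno
  push Not at hno
  have hsub : ({b, c, u} : Set G) ⊆ cls D a b := by
    intro w hw
    simp only [Set.mem_insert_iff, Set.mem_singleton_iff] at hw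
    rcases hw with rfl | rfl | rfl
    exacts [self_mem_cls hb, ⟨hc, hca⟩, ⟨hu, hno.1⟩]
  have := Set.ncard_le_ncard hsub (Set.toFinite _)
  rw [hk a ha b hb, Set.ncard_insert_of_notMem (by simp [Ne.symm hcb, Ne.symm hno.2.1]),
    Set.ncard_pair (Ne.symm hno.2.2)] at this
  omega

theorem row_line {a b c : G} (ha : a ∈ D) (hb : b ∈ perp D a) (hc : c ∈ line D a b)
    (hca : c ≠ a) (hcb : c ≠ b) (f : G) : row D a f + row D b f + row D c f = 0 := by
  by_cases hf : f ∈ D
  swap
  · simp [row_outside hf]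
  have la := left_mem_line (b := b) ha
  have lb := right_mem_line (a := a) hb.1
  obtain ⟨p, hp, hfp⟩ := exists_on_line C ha hb hf
  rcases line_three C hk ha hb hc hca hcb p hp with rfl | rfl | rfl
  · by_cases h1 : Commute b f
    · rw [row_comm hfp.symm, row_comm h1,
        row_comm (line_two C ha hb la lb (Ne.symm hb.2.1) hf hfp h1.symm hc).symm]; rfl
    · rw [row_comm hfp.symm, row_nc hf h1, row_nc hf fun k =>
        h1 (line_two C ha hb la hc (Ne.symm hca) hf hfp k.symm lb).symm]; rfl
  · by_cases h1 : Commute a f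
    · rw [row_comm hfp.symm, row_comm h1,
        row_comm (line_two C ha hb la lb (Ne.symm hb.2.1) hf h1.symm hfp hc).symm]; rfl
    · rw [row_comm hfp.symm, row_nc hf h1, row_nc hf fun k =>
        h1 (line_two C ha hb lb hc (Ne.symm hcb) hf hfp k.symm la).symm]; rfl
  · by_cases h1 : Commute a f
    · rw [row_comm hfp.symm, row_comm h1,
        row_comm (line_two C ha hb la hc (Ne.symm hca) hf h1.symm hfp lb).symm]; rfl
    · rw [row_comm hfp.symm, row_nc hf h1, row_nc hf fun k =>
        h1 (line_two C ha hb hc lb hcb hf hfp k.symm la).symm]; rfl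

theorem no_bad {a b f : G} (ha : a ∈ D) (hb : b ∈ D) (hab : ¬ Commute a b) (hf : f ∈ D)
    (hfa : ¬ Commute f a) (hfb : ¬ Commute f b) : Commute f (a * b * a) := by
  by_contra hfc
  have h := C.h
  have hcD : a * b * a ∈ D := conj'_mem h ha hb
  -- a common neighbour of a bad member and `a` sees `b`, and the third point of their line is bad
  have main : ∀ {f : G}, f ∈ D → ¬ Commute f a → ¬ Commute f b → ¬ Commute f (a * b * a) →
      ∀ d ∈ D, Commute d f → Commute d a → Commute d b ∧
        ∃ f' ∈ line D f d, f' ≠ f ∧ f' ≠ d ∧ ¬ Commute f' a ∧ ¬ Commute f' b ∧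
          ¬ Commute f' (a * b * a) := by
    intro f hf h1 h2 h3 d hd hdf hda
    have hne : d ≠ f := fun k => h1 (k ▸ hda)
    have hdP : d ∈ perp D f := ⟨hd, hne, hdf.symm⟩
    obtain ⟨f', hf', hf'f, hf'd⟩ := exists_third C hf hdP
    have lf := left_mem_line (b := d) hf
    have ld := right_mem_line (a := f) hd
    have e : ∀ g ∈ D, ¬ Commute f g → (Commute f' g ↔ ¬ Commute d g) := by
      intro g hg hfg
      have := row_line C hk hf hdP hf' hf'f hf'd g
      rw [row_nc hg hfg] at this
      constructor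
      · intro k kd
        rw [row_comm k, row_comm kd] at this
        exact absurd this (by decide)
      · intro kd
        by_contra k
        rw [row_nc hg kd, row_nc hg k] at this
        exact absurd this (by decide)
    have hdb : Commute d b := by
      by_contra kd
      have hdc := only_one C ha hb hab hda kd
      -- `f'` then sees `b` and its conjugate, but not `a`
      have k1 := (e b hb h2).mpr kd
      have k2 := (e _ hcD h3).mpr hdc
      refine (e a ha h1).mp ?_ hda
      have h4 := (k1.mul_right k2).mul_right k1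
      rwa [show b * (a * b * a) * b = a by
        rw [braid h.1 ha hb hab]
        simp [mul_assoc, mul_self_mul h.1 hb, dsq h.1 hb]] at h4
    exact ⟨hdb, f', hf', hf'f, hf'd, fun k => (e a ha h1).mp k hda, fun k => (e b hb h2).mp k hdb,
      fun k => (e _ hcD h3).mp k (conj_commute_left C ha hb hda hdb)⟩
  have heq : ∀ {f : G}, f ∈ D → ¬ Commute f a → ¬ Commute f b → ¬ Commute f (a * b * a) →
      cm D a f = cm D a b := by
    intro f hf h1 h2 h3
    refine Set.eq_of_subset_of_ncard_le (fun d hd => ⟨hd.1, hd.2.1,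
      ((main hf h1 h2 h3 d hd.1 hd.2.2.symm hd.2.1.symm).1).symm⟩) ?_ (Set.toFinite _)
    exact (ncm_card C a b a f ha ⟨hb, fun k => hab k.symm⟩ ha ⟨hf, h1⟩).le
  have hclique : ∀ d ∈ cm D a b, ∀ d₂ ∈ cm D a b, Commute d d₂ := by
    intro d hd d₂ hd₂
    have hd' := (heq hf hfa hfb hfc).symm ▸ hd
    have hd₂' := (heq hf hfa hfb hfc).symm ▸ hd₂
    obtain ⟨-, f', hf', hf'f, hf'd, k1, k2, k3⟩ :=
      main hf hfa hfb hfc d hd.1 hd'.2.2.symm hd.2.1.symm
    have hd₂'' := (heq hf'.1 k1 k2 k3).symm ▸ hd₂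
    have hdP : d ∈ perp D f := ⟨hd.1, fun k => hfa (k ▸ hd.2.1.symm), hd'.2.2⟩
    exact (line_two C hf hdP (left_mem_line hf) hf' (Ne.symm hf'f) hd₂.1 hd₂'.2.2.symm
      hd₂''.2.2.symm (right_mem_line hd.1)).symm
  -- two classes at `a` that do not commute give two such neighbours
  obtain ⟨d, hd⟩ := perp_nonempty C.H ha
  obtain ⟨e, he, hed⟩ := exists_noncomm_perp C ha hd
  have hba : b ∈ apart D a := ⟨hb, fun k => hab k.symm⟩
  obtain ⟨d₀, ⟨hd₀, hbd⟩, -⟩ := exists_unique_cls C ha hd hba
  obtain ⟨e₀, ⟨he₀, hbe⟩, -⟩ := exists_unique_cls C ha he hba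
  have hd₀P := cls_perp C ha hd hd₀
  have he₀P := cls_perp C ha he he₀
  have k := hclique d₀ ⟨hd₀P.1, hd₀P.2.2, hbd⟩ e₀ ⟨he₀P.1, he₀P.2.2, hbe⟩
  have k2 : Commute e d₀ := (cls_same C ha he he₀ (self_mem_cls he) hd₀P k).symm
  exact hed (cls_same C ha hd hd₀ (self_mem_cls hd) he k2)

theorem row_conj {a b : G} (ha : a ∈ D) (hb : b ∈ D) (hab : ¬ Commute a b) (f : G) :
    row D a f + row D b f + row D (a * b * a) f = 0 := by
  by_cases hf : f ∈ D
  swap
  · simp [row_outside hf]
  by_cases h1 : Commute a f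
  · by_cases h2 : Commute b f
    · rw [row_comm h1, row_comm h2,
        row_comm (conj_commute_left C ha hb h1.symm h2.symm).symm]; rfl
    · rw [row_comm h1, row_nc hf h2,
        row_nc hf fun k => only_one C ha hb hab h1.symm (fun k' => h2 k'.symm) k.symm]; rfl
  · by_cases h2 : Commute b f
    · have := only_one C hb ha (fun k => hab k.symm) h2.symm (fun k => h1 k.symm)
      rw [← braid C.h.1 ha hb hab] at this
      rw [row_comm h2, row_nc hf h1, row_nc hf fun k => this k.symm]; rfl
    · rw [row_nc hf h1, row_nc hf h2,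
        row_comm (no_bad C hk ha hb hab hf (fun k => h1 k.symm) fun k => h2 k.symm).symm]; rfl

omit [Finite G] C hk in
theorem zero_two_sum {u v w : G → ZMod 2} (h : ∀ f, u f + v f + w f = 0) : u + v = w := by
  funext f
  have := h f
  simp only [Pi.add_apply]
  revert this
  generalize u f = s; generalize v f = t; generalize w f = r
  revert s t r
  decide

theorem row_inj {a b : G} (ha : a ∈ D) (hb : b ∈ D) (e : row D a = row D b) : a = b := by
  refine C.tf a b ⟨ha, hb, fun f hf => ?_⟩
  have := congrFun e f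
  constructor
  · intro k; by_contra k'; rw [row_comm k, row_nc hf k'] at this; exact zero_ne_one this
  · intro k; by_contra k'; rw [row_comm k, row_nc hf k'] at this; exact one_ne_zero this

theorem row_ne_zero {a : G} (ha : a ∈ D) : row D a ≠ 0 := fun e => by
  obtain ⟨f, hf⟩ := apart_nonempty C.H ha
  have := congrFun e f
  rw [row_nc hf.1 fun k => hf.2 k.symm] at this
  exact one_ne_zero this

/-- The space of rows. -/
noncomputable def rowSpace (D : Set G) : Submodule (ZMod 2) (G → ZMod 2) :=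
  Submodule.span (ZMod 2) (row D '' D)

theorem rowSpace_mem {w : G → ZMod 2} (hw : w ∈ rowSpace D) :
    w = 0 ∨ ∃ a ∈ D, row D a = w := by
  induction hw using Submodule.span_induction with
  | mem w hw => obtain ⟨a, ha, rfl⟩ := hw; exact Or.inr ⟨a, ha, rfl⟩
  | zero => exact Or.inl rfl
  | add u v _ _ hu hv =>
    rcases hu with rfl | ⟨a, ha, rfl⟩
    · simpa using hv
    rcases hv with rfl | ⟨b, hb, rfl⟩
    · exact Or.inr ⟨a, ha, by simp⟩
    by_cases hne : a = b
    · subst hne
      exact Or.inl (funext fun f => by simp [CharTwo.add_self_eq_zero])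
    by_cases hab : Commute a b
    · have hbP : b ∈ perp D a := ⟨hb, Ne.symm hne, hab⟩
      obtain ⟨c, hc, hca, hcb⟩ := exists_third C ha hbP
      exact Or.inr ⟨c, hc.1, (zero_two_sum (row_line C hk ha hbP hc hca hcb)).symm⟩
    · exact Or.inr ⟨_, conj'_mem C.h ha hb, (zero_two_sum (row_conj C hk ha hb hab)).symm⟩
  | smul c u _ hu =>
    rcases (show c = 0 ∨ c = 1 by revert c; decide) with rfl | rfl
    · exact Or.inl (zero_smul _ _)
    · simpa using hu

omit [Finite G] C hk in
theorem row_swap {a b : G} (ha : a ∈ D) (hb : b ∈ D) : row D a b = row D b a := by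
  by_cases h : Commute a b
  · rw [row_comm h, row_comm h.symm]
  · rw [row_nc hb h, row_nc ha fun k => h k.symm]

/-- Lines of three points give the symplectic group. -/
theorem exists_symplectic (hG : Subgroup.center G = ⊥) :
    ∃ (m : ℕ) (τ : G ≃* Matrix.symplecticGroup (Fin m) (ZMod 2)), 2 ≤ m ∧
      τ '' D = {g | ∃ v, v ≠ 0 ∧ g = Spor.SympTwo.tv v} := by
  classical
  haveI : Fact (Nat.Prime 2) := ⟨Nat.prime_two⟩
  haveI := Fintype.ofFinite G
  have h := C.h
  let V := rowSpace D
  let pick : V → G := fun u => if hu : (u : G → ZMod 2) = 0 then 1 else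
    ((rowSpace_mem C hk u.2).resolve_left hu).choose
  have hpick : ∀ u : V, (u : G → ZMod 2) ≠ 0 → pick u ∈ D ∧ row D (pick u) = u := fun u hu => by
    simp only [pick, dif_neg hu]
    exact ((rowSpace_mem C hk u.2).resolve_left hu).choose_spec
  let β : V → V → ZMod 2 := fun u w =>
    if (u : G → ZMod 2) = 0 then 0 else (w : G → ZMod 2) (pick u)
  have hadd_right : ∀ u w w', β u (w + w') = β u w + β u w' := fun u w w' => by
    simp only [β]; split_ifs <;> simp
  have hsymm : ∀ u w, β u w = β w u := by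
    intro u w
    by_cases hu : (u : G → ZMod 2) = 0 <;> by_cases hw : (w : G → ZMod 2) = 0
    · simp [β, hu, hw]
    · obtain rfl : u = 0 := Subtype.ext hu
      simp [β]
    · obtain rfl : w = 0 := Subtype.ext hw
      simp [β]
    · simp only [β, if_neg hu, if_neg hw]
      obtain ⟨h1, h2⟩ := hpick u hu
      obtain ⟨h3, h4⟩ := hpick w hw
      rw [← congrFun h4 (pick u), ← congrFun h2 (pick w), row_swap h3 h1]
  have hsmul_right : ∀ (c : ZMod 2) u w, β u (c • w) = c • β u w := fun c u w => by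
    simp only [β]; split_ifs <;> simp
  let B : LinearMap.BilinForm (ZMod 2) V := LinearMap.mk₂ (ZMod 2) β
    (fun u u' w => by rw [hsymm, hadd_right, hsymm w u, hsymm w u'])
    (fun c u w => by rw [hsymm, hsmul_right, hsymm w u]) hadd_right hsmul_right
  have hB : ∀ u w, B u w = β u w := fun u w => rfl
  have hA : B.IsAlt := fun u => by
    rw [hB]
    by_cases hu : (u : G → ZMod 2) = 0
    · simp [β, hu]
    · simp only [β, if_neg hu]
      rw [← congrFun (hpick u hu).2 (pick u), row_comm (Commute.refl _)]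
  let vv : ∀ a, a ∈ D → V := fun a ha => ⟨row D a, Submodule.subset_span ⟨a, ha, rfl⟩⟩
  have hne : ∀ a ha, ((vv a ha : V) : G → ZMod 2) ≠ 0 := fun a ha => row_ne_zero C hk ha
  have hpv : ∀ a ha, pick (vv a ha) = a := fun a ha =>
    row_inj C hk (hpick _ (hne a ha)).1 ha (hpick _ (hne a ha)).2
  have hBv : ∀ a ha w, B (vv a ha) w = (w : G → ZMod 2) a := fun a ha w => by
    rw [hB]; simp only [β, if_neg (hne a ha), hpv]
  have hnd : ∀ u, (∀ w, B u w = 0) → u = 0 := by
    intro u hu
    by_contra h0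
    have h0' : (u : G → ZMod 2) ≠ 0 := fun k => h0 (Subtype.ext k)
    obtain ⟨h1, h2⟩ := hpick u h0'
    obtain ⟨f, hf⟩ := apart_nonempty C.H h1
    have := hu (vv f hf.1)
    rw [hB, hsymm, ← hB, hBv f hf.1, ← h2, row_nc hf.1 fun k => hf.2 k.symm] at this
    exact one_ne_zero this
  obtain ⟨m, hm⟩ : ∃ m, Module.finrank (ZMod 2) V = 2 * m := by
    obtain ⟨m, k, x, y, r, hmk, -, -, -, -, -, hr, hspan⟩ :=
      Classical.exists_symplectic_family B hA _ ⊤ (finrank_top (ZMod 2) V)
    refine ⟨m, le_antisymm ?_ (by omega)⟩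
    have hr0 : ∀ j, r j = 0 := fun j => hnd _ fun w => hr j w trivial
    have hle : (⊤ : Submodule (ZMod 2) V) ≤ Submodule.span (ZMod 2) (Set.range (Sum.elim x y)) := by
      refine hspan.trans (Submodule.span_le.mpr ?_)
      rintro z ((⟨i, rfl⟩ | ⟨i, rfl⟩) | ⟨j, rfl⟩)
      · exact Submodule.subset_span ⟨Sum.inl i, rfl⟩
      · exact Submodule.subset_span ⟨Sum.inr i, rfl⟩
      · rw [hr0]; exact Submodule.zero_mem _
    have := Submodule.finrank_mono hle
    rw [finrank_top] at this
    refine this.trans ((finrank_range_le_card _).trans ?_)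
    simp [two_mul]
  obtain ⟨L, hL⟩ := Classical.exists_symp_coords B hA hnd hm
  -- at least four dimensions
  have hm2 : 2 ≤ m := by
    obtain ⟨a, ha, b, hb, hab⟩ := C.H.nc
    obtain ⟨d, hd⟩ := perp_nonempty C.H ha
    have hcard : Nat.card V = 2 ^ (2 * m) := by
      rw [Module.natCard_eq_pow_finrank (K := ZMod 2), hm, Nat.card_zmod]
    have h4 : 4 < Nat.card V := by
      obtain ⟨c, hc, hca, hcd⟩ := exists_third C ha hd
      have hbd : b ≠ d := fun k => hab (k ▸ hd.2.2)
      have hbc : b ≠ c := fun k => hab (k ▸ (line_comm ha hd.2.2 hc).symm)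
      have hba : b ≠ a := fun k => hab (k ▸ Commute.refl a)
      have hinj : ∀ {u v : G} (hu : u ∈ D) (hv : v ∈ D), u ≠ v → vv u hu ≠ vv v hv :=
        fun hu hv huv k => huv (row_inj C hk hu hv (congrArg Subtype.val k))
      have hs : ({0, vv a ha, vv b hb, vv c hc.1, vv d hd.1} : Set V).ncard = 5 := by
        have z : ∀ u hu, (0 : V) ≠ vv u hu := fun u hu k => hne u hu (congrArg Subtype.val k).symm
        rw [Set.ncard_insert_of_notMem (by simp [z]),
          Set.ncard_insert_of_notMem (by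
            simp [hinj ha hb (Ne.symm hba), hinj ha hc.1 (Ne.symm hca), hinj ha hd.1 (Ne.symm hd.2.1)]),
          Set.ncard_insert_of_notMem (by simp [hinj hb hc.1 hbc, hinj hb hd.1 hbd]),
          Set.ncard_pair (hinj hc.1 hd.1 hcd)]
      have := Set.ncard_le_ncard (Set.subset_univ ({0, vv a ha, vv b hb, vv c hc.1, vv d hd.1} : Set V))
      rw [hs, Set.ncard_univ] at this
      omega
    by_contra hlt
    rw [hcard] at h4
    interval_cases m <;> norm_num at h4
  -- the map
  let coord : G → (Fin m ⊕ Fin m → ZMod 2) := fun a => if ha : a ∈ D then L.symm (vv a ha) else 0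
  have hcoord : ∀ a (ha : a ∈ D), L (coord a) = vv a ha := fun a ha => by simp [coord, ha]
  have hcne : ∀ a ∈ D, coord a ≠ 0 := fun a ha k => hne a ha (by
    rw [← hcoord a ha, k, map_zero]; rfl)
  let φ : G → Matrix.symplecticGroup (Fin m) (ZMod 2) := fun a => Spor.SympTwo.tv (coord a)
  have hform : ∀ a (ha : a ∈ D) b (hb : b ∈ D), sympForm m (ZMod 2) (coord b) (coord a) = row D a b :=
    fun a ha b hb => by rw [← hL, hcoord a ha, hcoord b hb, hBv b hb]
  have hE := Spor.SympTwo.sympClass (m := m) (by omega)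
  rw [show {g : Matrix.symplecticGroup (Fin m) (ZMod 2) |
    ((g : Matrix (Fin m ⊕ Fin m) (Fin m ⊕ Fin m) (ZMod 2)) - 1).rank = 1} =
      {g | ∃ v, v ≠ 0 ∧ g = Spor.SympTwo.tv v} from Set.ext Spor.SympTwo.rank_one_iff] at hE
  have hX : Subgroup.center (Matrix.symplecticGroup (Fin m) (ZMod 2)) = ⊥ := by
    refine (Subgroup.eq_bot_iff_forall _).mpr fun g hg => ?_
    refine Subtype.ext (Matrix.ext_of_mulVec_single fun i => ?_)
    set v : Fin m ⊕ Fin m → ZMod 2 := Pi.single i 1
    have hv : v ≠ 0 := fun k => by simpa [v] using congrFun k i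
    have e := Classical.sympTv_conj g v (1 : ZMod 2)
    have hc := Subgroup.mem_center_iff.mp hg (Classical.sympTv v 1)
    rw [← hc, mul_inv_cancel_right] at e
    rw [OneMemClass.coe_one, Matrix.one_mulVec]
    exact (Spor.SympTwo.tv_injective hv e).symm
  have hsurj : ∀ e ∈ {g : Matrix.symplecticGroup (Fin m) (ZMod 2) | ∃ v, v ≠ 0 ∧ g = Spor.SympTwo.tv v},
      ∃ d ∈ D, φ d = e := by
    rintro _ ⟨v, hv, rfl⟩
    have h0 : ((L v : V) : G → ZMod 2) ≠ 0 := fun k => hv (L.injective (by
      rw [map_zero]; exact Subtype.ext k))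
    obtain ⟨h1, h2⟩ := hpick _ h0
    refine ⟨pick (L v), h1, congrArg Spor.SympTwo.tv (L.injective ?_)⟩
    rw [hcoord _ h1]; exact Subtype.ext h2
  obtain ⟨τ, hτ⟩ := iso_of_equivariant hE hX (by
      obtain ⟨a, ha, b, hb, hab⟩ := C.H.nc
      refine ⟨φ a, ⟨_, hcne a ha, rfl⟩, φ b, ⟨_, hcne b hb, rfl⟩, fun e => hab ?_⟩
      have := Spor.SympTwo.tv_injective (hcne a ha) e
      have e2 : row D a = row D b := congrArg Subtype.val
        ((hcoord a ha).symm.trans ((congrArg L this).trans (hcoord b hb)))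
      rw [row_inj C hk ha hb e2])
    C.H hG φ (fun d hd => ⟨_, hcne d hd, rfl⟩) hsurj subset_rfl h.2.2 fun s hs b hb => by
      have ei : (Spor.SympTwo.tv (coord s))⁻¹ = Spor.SympTwo.tv (coord s) :=
        inv_eq_of_mul_eq_one_right (Spor.SympTwo.tv_mul_self _)
      have key := Spor.SympTwo.tv_conj_tv (coord s) (coord b)
      rw [ei] at key
      show Spor.SympTwo.tv (coord (s * b * s)) = _
      rw [key, hform s hs b hb]
      congr 1
      have hmem := conj'_mem h hs hb
      apply L.injective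
      rw [hcoord _ hmem, map_add, map_smul, hcoord s hs, hcoord b hb]
      apply Subtype.ext
      show row D (s * b * s) = row D b + row D s b • row D s
      by_cases hc : Commute s b
      · rw [row_comm hc, zero_smul, add_zero, hc.eq, mul_assoc, dsq h.1 hs, mul_one]
      · rw [row_nc hb hc, one_smul, add_comm]
        exact (zero_two_sum (row_conj C hk hs hb hc)).symm
  refine ⟨m, τ, hm2, Set.Subset.antisymm ?_ ?_⟩
  · rintro _ ⟨d, hd, rfl⟩
    exact ⟨_, hcne d hd, hτ d hd⟩
  · intro e he
    obtain ⟨d, hd, rfl⟩ := hsurj e he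
    exact ⟨d, hd, hτ d hd⟩

end Cfsg.Agent.Grp.PolarRec
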