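import Cfsg.Agent.Lib.Grp.PolarRec.Unit
import Cfsg.Agent.Lib.Grp.PolarRec.Symp
import Cfsg.Agent.Lib.Spor.FischerTrichotomy
import Cfsg.Agent.Lib.Spor.FischerPrimitive
import Cfsg.Agent.Lib.Spor.ThreeTransFiveHom
import Mathlib.FieldTheory.Finite.GaloisField

/-! A noncentral 2-core below a transposition gives a symplectic or unitary group; the solvable case. -/

set_option autoImplicit false
set_option linter.unusedSectionVars false
set_option linter.style.haveILetI false

namespace Cfsg.Agent.Grp.PolarRec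

open Cfsg Cfsg.Agent.Spor.ThreeTrans
open Cfsg.Agent.Spor.ThreeTrans renaming mul_self → dsq
open Cfsg.Agent.Block.FischerTypes.U6 (root roots root_commute)

variable {G : Type*} [Group G] [Finite G] {D : Set G}

/-- The members seen from `x`, inside the group they generate. -/
def localClass (D : Set G) (x : G) : Set ↥(Subgroup.closure (perp D x)) := {g | (g : G) ∈ perp D x}

theorem localClass_class (H : Hyp D) {x : G} (hx : x ∈ D) :
    IsThreeTranspositionClass (localClass D x) := by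
  have h := H.cls
  refine ⟨⟨fun g hg => ?_, fun a ha b hb => ?_⟩, ?_, Subgroup.closure_closure_coe_preimage⟩
  · exact (Subgroup.orderOf_coe g).symm.trans (h.1.1 _ hg.1)
  · rcases h.1.2 _ ha.1 _ hb.1 with e | e
    · exact Or.inl (Subtype.ext e)
    · exact Or.inr (Subtype.ext e)
  · obtain ⟨d, hd⟩ := perp_nonempty H hx
    refine ⟨⟨d, Subgroup.subset_closure hd⟩, hd, Set.ext fun g => ⟨fun hg => ?_, fun hg => ?_⟩⟩
    · obtain ⟨k, hk, e⟩ := transitive_perp H hx hd hg
      exact isConj_iff.mpr ⟨⟨k, hk⟩, Subtype.ext e⟩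
    · obtain ⟨k, rfl⟩ := isConj_iff.mp hg
      exact perp_conj' h (localGroup_commute (Subgroup.closure_mono (Set.subset_insert _ _) k.2)) hd

theorem twinFree (H : Hyp D) : Block.FischerTypes.TwinFree D := fun a b hab => by
  refine sys_trivial H (isSys_perpTwo H.cls) ?_ hab
  obtain ⟨u, hu, v, hv, huv⟩ := H.nc
  exact ⟨u, hu, v, hv, fun e => huv (perpTwo_commute e)⟩

theorem localClass_two (H : Hyp D) {x : G} (hx : x ∈ D) :
    ∃ a ∈ localClass D x, ∃ b ∈ localClass D x, a ≠ b := by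
  obtain ⟨d, hd⟩ := perp_nonempty H hx
  obtain ⟨f, hf, hfd⟩ := Block.FischerTypes.exists_noncentral H.cls (twinFree H) hx hd
  refine ⟨⟨f, Subgroup.subset_closure hf⟩, hf, ⟨d, Subgroup.subset_closure hd⟩, hd, fun e => hfd ?_⟩
  rw [show f = d from congrArg Subtype.val e]

/-- A noncentral 2-core gives a thick line. -/
theorem ctx_of_core (H : Hyp D) {x : G} (hx : x ∈ D)
    (hc : ¬ pCore 2 ↥(Subgroup.closure (perp D x)) ≤ Subgroup.center ↥(Subgroup.closure (perp D x))) :
    Ctx D := by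
  have hP := localClass_class H hx
  obtain ⟨d₀, hd₀⟩ := perp_nonempty H hx
  set d : ↥(Subgroup.closure (perp D x)) := ⟨d₀, Subgroup.subset_closure hd₀⟩
  have hd : d ∈ localClass D x := hd₀
  obtain ⟨n, hn, hne⟩ := Spor.FischerStr.exists_moved hP hc hd
  have hd' : n * d * n⁻¹ ∈ localClass D x := Spor.FischerStr.conj_mem hP n hd
  haveI : (pCore 2 ↥(Subgroup.closure (perp D x))).Normal := Grp.pCore_isNormal
  have htwin := perpTwo_of_core hP hd hd' (Spor.FischerStr.mul_conj_mem hP.1 _ hd hn)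
  have hcm : Commute d₀ ((n * d * n⁻¹ : ↥(Subgroup.closure (perp D x))) : G) :=
    (Spor.FischerStr.commute_two hP hd hn).map (Subgroup.subtype _)
  refine ⟨H, x, hx, d₀, hd₀, _, ⟨hd'.1, fun e he => ?_⟩, hd'.2.1, fun e => hne (Subtype.ext e)⟩
  by_cases hex : e = x
  · rw [hex]; exact hd'.2.2.symm
  have heP : e ∈ perp D x := ⟨he.1, hex, he.2.1⟩
  have hed : Commute d (⟨e, Subgroup.subset_closure heP⟩ : ↥(Subgroup.closure (perp D x))) :=
    Subtype.ext he.2.2.eq
  exact ((htwin.2.2 _ heP).mp hed).map (Subgroup.subtype _)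

/-- The two families. -/
theorem models (C : Ctx D) (hG : Subgroup.center G = ⊥) :
    (∃ (m : ℕ) (τ : G ≃* Matrix.symplecticGroup (Fin m) (ZMod 2)), 2 ≤ m ∧
      τ '' D = {g | ∃ v, v ≠ 0 ∧ g = Spor.SympTwo.tv v}) ∨
    ∃ (F : Type) (_ : Field F) (_ : Fintype F) (h4 : Fintype.card F = 4) (n : ℕ) (τ : G ≃* PSU n F 2),
      4 ≤ n ∧ τ '' D = roots h4 n := by
  classical
  by_cases hk : ∀ a ∈ D, ∀ p ∈ perp D a, (cls D a p).ncard = 2
  · exact Or.inl (exists_symplectic C hk hG)
  push Not at hk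
  obtain ⟨a, ha, p, hp, hne⟩ := hk
  have four : ∀ a' ∈ D, ∀ b ∈ perp D a', (cls D a' b).ncard = 4 := fun a' ha' b hb =>
    (cls_card C ha' hb ha hp).trans ((cls_size C ha hp).resolve_left hne)
  obtain ⟨y, hy⟩ := apart_nonempty C.H ha
  let B : Base D a y := ⟨C, four, ha, hy⟩
  haveI : Fintype (GaloisField 2 2) := Fintype.ofFinite _
  have h4 : Fintype.card (GaloisField 2 2) = 4 := by
    rw [← Nat.card_eq_fintype_card, GaloisField.card 2 2 (by norm_num)]; norm_num
  obtain ⟨Φ⟩ := exists_frame B h4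
  obtain ⟨n, τ, hn, hτ⟩ := Φ.exists_unitary B h4 hG
  exact Or.inr ⟨GaloisField 2 2, inferInstance, inferInstance, h4, n, τ, hn, hτ⟩

/-- A path of four inside the perpendicular forces a symmetric group of degree five there. -/
theorem not_solvable_of_path (h : IsThreeTranspositionClass D) {x a b c d : G}
    (ha : a ∈ D) (hb : b ∈ D) (hc : c ∈ D) (hd : d ∈ D)
    (hxa : Commute x a) (hxb : Commute x b) (hxc : Commute x c) (hxd : Commute x d)
    (hab : ¬ Commute a b) (hbc : ¬ Commute b c) (hcd : ¬ Commute c d)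
    (hac : Commute a c) (had : Commute a d) (hbd : Commute b d) :
    ¬ Group.IsSolvable ↥(Subgroup.closure (perp D x)) := by
  intro hs
  obtain ⟨φ, hinj, e0, e1, e2, e3⟩ := Spor.FiveHom.exists_hom_s5 h.1 ha hb hc hd hab hbc hcd hac had hbd
    fun e => hcd (e ▸ had)
  set L := Subgroup.closure (perp D x)
  have key : ∀ u v : G, u ∈ D → Commute x u → Commute x v → ¬ Commute u v → u ∈ L := fun u v hu hxu hxv huv =>
    Subgroup.subset_closure ⟨hu, fun e => huv (by rw [e]; exact hxv), hxu⟩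
  have hrange : ∀ σ, φ σ ∈ L := by
    intro σ
    have : Submonoid.closure (Set.range fun i : Fin 4 => Equiv.swap i.castSucc i.succ) ≤
        (L.comap φ).toSubmonoid := by
      rw [Submonoid.closure_le]
      rintro _ ⟨i, rfl⟩
      show φ _ ∈ L
      fin_cases i
      · exact e0 ▸ key a b ha hxa hxb hab
      · exact e1 ▸ key b c hb hxb hxc hbc
      · exact e2 ▸ key c d hc hxc hxd hcd
      · exact e3 ▸ key d c hd hxd hxc fun k => hcd k.symm
    rw [Equiv.Perm.mclosure_swap_castSucc_succ] at this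
    exact this (Submonoid.mem_top σ)
  refine Equiv.Perm.not_isSolvable_fin_5 ?_
  exact Group.isSolvable_of_isSolvable_injective (f := φ.codRestrict L hrange)
    fun u v e => hinj (congrArg Subtype.val e)

/-- Solvability below one member passes to all. -/
theorem solvable_all (h : IsThreeTranspositionClass D) {x x' : G} (hx : x ∈ D) (hx' : x' ∈ D)
    (hs : Group.IsSolvable ↥(Subgroup.closure (perp D x))) :
    Group.IsSolvable ↥(Subgroup.closure (perp D x')) := by
  obtain ⟨g, rfl⟩ := transitive h hx hx'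
  have e : (Subgroup.closure (perp D x)).map (MulAut.conj g).toMonoidHom =
      Subgroup.closure (perp D (g * x * g⁻¹)) := by
    rw [MonoidHom.map_closure, perp_conj h]
    rfl
  rw [← e]
  exact Group.isSolvable_of_surjective (f := (MulAut.conj g).toMonoidHom.subgroupMap _)
    (MonoidHom.subgroupMap_surjective _ _)

/-- A symplectic model with solvable perpendiculars has rank two. -/
theorem symp_small (h : IsThreeTranspositionClass D) {x : G} (hx : x ∈ D)
    (hs : Group.IsSolvable ↥(Subgroup.closure (perp D x))) {m : ℕ}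
    (τ : G ≃* Matrix.symplecticGroup (Fin m) (ZMod 2))
    (hτ : τ '' D = {g | ∃ v, v ≠ 0 ∧ g = Spor.SympTwo.tv v}) : m ≤ 2 := by
  classical
  by_contra hm
  obtain ⟨k, rfl⟩ : ∃ k, m = k + 3 := ⟨m - 3, by omega⟩
  set pt : (Fin (k + 3) ⊕ Fin (k + 3) → ZMod 2) → G := fun v => τ.symm (Spor.SympTwo.tv v) with hpt
  have hmem : ∀ v, v ≠ 0 → pt v ∈ D := fun v hv => by
    obtain ⟨d, hd, e⟩ : Spor.SympTwo.tv v ∈ τ '' D := by rw [hτ]; exact ⟨v, hv, rfl⟩
    simpa [hpt, ← e] using hd
  have hcomm : ∀ u v, u ≠ 0 → v ≠ 0 →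
      (Commute (pt u) (pt v) ↔ sympForm (k + 3) (ZMod 2) v u = 0) := fun u v hu hv => by
    rw [← Spor.SympTwo.commute_iff hu hv]
    refine ⟨fun c => ?_, fun c => c.map τ.symm.toMonoidHom⟩
    have := c.map τ.toMonoidHom
    simpa [hpt] using this
  let e : Fin (k + 3) → Fin (k + 3) ⊕ Fin (k + 3) → ZMod 2 := fun i => Pi.single (Sum.inl i) 1
  let f : Fin (k + 3) → Fin (k + 3) ⊕ Fin (k + 3) → ZMod 2 := fun i => Pi.single (Sum.inr i) 1
  have n1 : e 0 ≠ 0 := by simp [e]
  have n2 : e 1 ≠ 0 := by simp [e]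
  have n3 : f 1 ≠ 0 := by simp [f]
  have n4 : e 1 + e 2 ≠ 0 := fun k' => by
    have := congrFun k' (Sum.inl 1)
    simp [e, Fin.ext_iff, Fin.val_one', Pi.single_apply, Nat.mod_eq_of_lt] at this
  have n5 : f 2 ≠ 0 := by simp [f]
  have h12 : (1 : Fin (k + 3)) ≠ 2 := by simp [Fin.ext_iff, Nat.mod_eq_of_lt]
  have h01 : (0 : Fin (k + 3)) ≠ 1 := by simp [Fin.ext_iff, Nat.mod_eq_of_lt]
  have h02 : (0 : Fin (k + 3)) ≠ 2 := by simp [Fin.ext_iff, Nat.mod_eq_of_lt]
  refine not_solvable_of_path h (hmem _ n2) (hmem _ n3) (hmem _ n4) (hmem _ n5) (x := pt (e 0))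
    ((hcomm _ _ n1 n2).mpr ?_) ((hcomm _ _ n1 n3).mpr ?_) ((hcomm _ _ n1 n4).mpr ?_) ((hcomm _ _ n1 n5).mpr ?_)
    (mt (hcomm _ _ n2 n3).mp ?_) (mt (hcomm _ _ n3 n4).mp ?_) (mt (hcomm _ _ n4 n5).mp ?_)
    ((hcomm _ _ n2 n4).mpr ?_) ((hcomm _ _ n2 n5).mpr ?_) ((hcomm _ _ n3 n5).mpr ?_)
    (solvable_all h hx (hmem _ n1) hs)
  all_goals simp [sympForm, e, f, Matrix.J, Matrix.mulVec_add, add_dotProduct, dotProduct_add,
    Matrix.fromBlocks, h12, h12.symm, h01, h01.symm, h02, h02.symm]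

/-- Vectors supported on the first six coordinates. -/
def pad {F : Type} [Zero F] {k : ℕ} (u : Fin 6 → F) : Fin (6 + k) → F := Fin.append u 0

/-- A unitary model with solvable perpendiculars has degree at most five. -/
theorem unit_small (h : IsThreeTranspositionClass D) {x : G} (hx : x ∈ D)
    (hs : Group.IsSolvable ↥(Subgroup.closure (perp D x))) {F : Type} [Field F] [Fintype F]
    (h4 : Fintype.card F = 4) {n : ℕ} (τ : G ≃* PSU n F 2) (hτ : τ '' D = roots h4 n) : n ≤ 5 := by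
  classical
  by_contra hn
  obtain ⟨k, rfl⟩ : ∃ k, n = 6 + k := ⟨n - 6, by omega⟩
  have h0 : ∀ u v : Fin 6 → F, hermForm (6 + k) F 2 (pad u) (pad v) = hermForm 6 F 2 u v := fun u v => by
    simp [hermForm, pad, Fin.sum_univ_add]
  obtain ⟨w, hw0, hw1, hww, -, -⟩ := Block.FischerTypes.U6.exists_omega h4
  have h2 := Spor.UnitTwo.add_self h4
  have two : ∀ a : F, 2 * a = 0 := fun a => by rw [two_mul, h2]
  let v0 : Fin 6 → F := ![1, 1, 0, 0, 0, 0]
  let va : Fin 6 → F := ![0, 0, 1, 1, 0, 0]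
  let vb : Fin 6 → F := ![0, 0, w, w + 1, 0, 0]
  let vc : Fin 6 → F := ![0, 0, 1, 1, 1, 1]
  let vd : Fin 6 → F := ![0, 0, 0, 0, w, w + 1]
  set pt : (Fin (6 + k) → F) → G := fun v =>
    if hv : hermForm (6 + k) F 2 v v = 0 then τ.symm (root h4 hv) else 1 with hpt
  have hmem : ∀ u : Fin 6 → F, u ≠ 0 → hermForm 6 F 2 u u = 0 → pt (pad u) ∈ D := fun u hu hz => by
    have hz' : hermForm (6 + k) F 2 (pad u) (pad u) = 0 := by rw [h0]; exact hz
    have hu' : pad (k := k) u ≠ 0 := fun e => hu (funext fun i => by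
      simpa [pad] using congrFun e (Fin.castAdd k i))
    obtain ⟨d, hd, e⟩ : root h4 hz' ∈ τ '' D := by rw [hτ]; exact ⟨_, hu', hz', rfl⟩
    simpa [hpt, dif_pos hz', ← e] using hd
  have hcomm : ∀ u v : Fin 6 → F, u ≠ 0 → hermForm 6 F 2 u u = 0 → v ≠ 0 → hermForm 6 F 2 v v = 0 →
      (Commute (pt (pad u)) (pt (pad v)) ↔ hermForm 6 F 2 u v = 0) := fun u v hu zu hv zv => by
    have zu' : hermForm (6 + k) F 2 (pad u) (pad u) = 0 := by rw [h0]; exact zu
    have zv' : hermForm (6 + k) F 2 (pad v) (pad v) = 0 := by rw [h0]; exact zv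
    have hu' : pad (k := k) u ≠ 0 := fun e => hu (funext fun i => by
      simpa [pad] using congrFun e (Fin.castAdd k i))
    have hv' : pad (k := k) v ≠ 0 := fun e => hv (funext fun i => by
      simpa [pad] using congrFun e (Fin.castAdd k i))
    rw [← h0, ← root_commute h4 (by omega) zu' zv' hu' hv']
    simp only [hpt, dif_pos zu', dif_pos zv']
    exact ⟨fun c => by simpa using c.map τ.toMonoidHom, fun c => c.map τ.symm.toMonoidHom⟩
  have z0 : hermForm 6 F 2 v0 v0 = 0 := by simp [hermForm, v0, Fin.sum_univ_six, h2]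
  have za : hermForm 6 F 2 va va = 0 := by simp [hermForm, va, Fin.sum_univ_six, h2]
  have zb : hermForm 6 F 2 vb vb = 0 := by
    simp [hermForm, vb, Fin.sum_univ_six]
    linear_combination hww + two (w ^ 3 + w ^ 2 + 2 * w + 1)
  have zc : hermForm 6 F 2 vc vc = 0 := by simp [hermForm, vc, Fin.sum_univ_six, h2]
  have zd : hermForm 6 F 2 vd vd = 0 := by
    simp [hermForm, vd, Fin.sum_univ_six]
    linear_combination hww + two (w ^ 3 + w ^ 2 + 2 * w + 1)
  have n0 : v0 ≠ 0 := fun e => by simpa [v0] using congrFun e 0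
  have na : va ≠ 0 := fun e => by simpa [va] using congrFun e 2
  have nb : vb ≠ 0 := fun e => by simpa [vb, hw0] using congrFun e 2
  have nc : vc ≠ 0 := fun e => by simpa [vc] using congrFun e 2
  have nd : vd ≠ 0 := fun e => by simpa [vd, hw0] using congrFun e 4
  refine not_solvable_of_path h (hmem _ na za) (hmem _ nb zb) (hmem _ nc zc) (hmem _ nd zd)
    ((hcomm v0 va n0 z0 na za).mpr ?_) ((hcomm v0 vb n0 z0 nb zb).mpr ?_)
    ((hcomm v0 vc n0 z0 nc zc).mpr ?_) ((hcomm v0 vd n0 z0 nd zd).mpr ?_)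
    (mt (hcomm va vb na za nb zb).mp ?_) (mt (hcomm vb vc nb zb nc zc).mp ?_)
    (mt (hcomm vc vd nc zc nd zd).mp ?_) ((hcomm va vc na za nc zc).mpr ?_)
    ((hcomm va vd na za nd zd).mpr ?_) ((hcomm vb vd nb zb nd zd).mpr ?_)
    (solvable_all h hx (hmem _ n0 z0) hs)
  all_goals simp [hermForm, v0, va, vb, vc, vd, Fin.sum_univ_six, h2]
  all_goals intro e; apply one_ne_zero (α := F)
  all_goals first | linear_combination e - two w | linear_combination e - two w - two (w ^ 2)

/-- A solvable group has no layer. -/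
theorem layer_eq_bot {K : Type*} [Group K] [Finite K] [Group.IsSolvable K] : layer K = ⊥ := by
  refine sSup_eq_bot.mpr fun L hL => ?_
  exact Grp.eq_bot_of_perfect_of_solvable (Spor.FischerStr.perfect_of_quasisimple hL.2) inferInstance

theorem pCore_three_le_oddCore {K : Type*} [Group K] [Finite K] : pCore 3 K ≤ oddCore K := by
  haveI : Fact (Nat.Prime 3) := ⟨Nat.prime_three⟩
  refine le_sSup ⟨Grp.pCore_isNormal, ?_⟩
  obtain ⟨j, hj⟩ := IsPGroup.iff_card.mp (Grp.pCore_isPGroup (p := 3) (G := K))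
  rw [hj]
  exact Nat.Coprime.pow_left _ (by norm_num)

theorem center_eq_bot (hsol : ∀ N : Subgroup G, N.Normal → Group.IsSolvable ↥N → N = ⊥) :
    Subgroup.center G = ⊥ :=
  hsol _ inferInstance (Group.isSolvable_of_comm fun a b =>
    Subtype.ext (Subgroup.mem_center_iff.mp b.2 a.1))

end Cfsg.Agent.Grp.PolarRec
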