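import Cfsg.Agent.Lib.Spor.ThreeTransRank
import Cfsg.Agent.Lib.Spor.ThreeTransPerp

/-! A conjugation-preserving map between two classes of 3-transpositions gives an isomorphism. -/

set_option autoImplicit false

namespace Cfsg.Agent.Grp.PolarRec

open Cfsg Cfsg.Agent.Spor.ThreeTrans
open Cfsg.Agent.Spor.ThreeTrans renaming mul_self → dsq

variable {G : Type*} [Group G] [Finite G] {D : Set G}

/-- A map respecting conjugation by a generating set respects conjugation by every member. -/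
theorem equivariant_all {X : Type*} [Group X] {E : Set X} (hE : IsThreeTranspositionClass E)
    (h : IsThreeTranspositionClass D) (φ : G → X) (hφ : ∀ d ∈ D, φ d ∈ E) {S : Set G} (hS : S ⊆ D)
    (hgen : Subgroup.closure S = ⊤)
    (heq : ∀ s ∈ S, ∀ b ∈ D, φ (s * b * s) = φ s * φ b * φ s) :
    ∀ d ∈ D, ∀ b ∈ D, φ (d * b * d) = φ d * φ b * φ d := by
  have key : ∀ g : G, ∃ k : X, ∀ b ∈ D, φ (g * b * g⁻¹) = k * φ b * k⁻¹ := by
    intro g
    have hg : g ∈ Subgroup.closure S := hgen ▸ Subgroup.mem_top g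
    induction hg using Subgroup.closure_induction_left with
    | one => exact ⟨1, fun b _ => by simp⟩
    | mul_left s hs y _ ih =>
      obtain ⟨k, hk⟩ := ih
      refine ⟨φ s * k, fun b hb => ?_⟩
      have := heq s hs _ (conj_mem h y hb)
      rw [hk b hb] at this
      simpa [mul_assoc, inv_eq h.1 (hS hs), inv_eq hE.1 (hφ s (hS hs))] using this
    | inv_mul_cancel s hs y _ ih =>
      obtain ⟨k, hk⟩ := ih
      refine ⟨φ s * k, fun b hb => ?_⟩
      have := heq s hs _ (conj_mem h y hb)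
      rw [hk b hb] at this
      simpa [mul_assoc, inv_eq h.1 (hS hs), inv_eq hE.1 (hφ s (hS hs))] using this
  intro d hd b hb
  obtain ⟨a, ha, -⟩ := h.2.1
  obtain ⟨s, hs⟩ : S.Nonempty := by
    rw [Set.nonempty_iff_ne_empty]
    rintro rfl
    rw [Subgroup.closure_empty] at hgen
    have : a = 1 := by
      have := hgen.symm ▸ Subgroup.mem_top a
      simpa using this
    exact ne_one h.1 ha this
  obtain ⟨g, rfl⟩ := transitive h (hS hs) hd
  obtain ⟨k, hk⟩ := key g
  set b₁ := g⁻¹ * b * g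
  have hb₁ : b₁ ∈ D := by simpa [b₁] using conj_mem h g⁻¹ hb
  have e : g * s * g⁻¹ * b * (g * s * g⁻¹) = g * (s * b₁ * s) * g⁻¹ := by simp [b₁, mul_assoc]
  have e₂ : b = g * b₁ * g⁻¹ := by simp [b₁, mul_assoc]
  rw [e, hk _ (conj'_mem h (hS hs) hb₁), heq s hs b₁ hb₁, hk s (hS hs)]
  conv_rhs => rw [e₂, hk b₁ hb₁]
  simp [mul_assoc]

/-- A surjective map of classes respecting conjugation by generators is induced by an isomorphism. -/
theorem iso_of_equivariant {X : Type*} [Group X] {E : Set X} (hE : IsThreeTranspositionClass E)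
    (hX : Subgroup.center X = ⊥) (hEnc : ∃ a ∈ E, ∃ b ∈ E, a ≠ b) (H : Hyp D)
    (hG : Subgroup.center G = ⊥) (φ : G → X) (hφ : ∀ d ∈ D, φ d ∈ E)
    (hsurj : ∀ e ∈ E, ∃ d ∈ D, φ d = e) {S : Set G} (hS : S ⊆ D)
    (hgen : Subgroup.closure S = ⊤)
    (heq : ∀ s ∈ S, ∀ b ∈ D, φ (s * b * s) = φ s * φ b * φ s) :
    ∃ τ : G ≃* X, ∀ d ∈ D, τ d = φ d := by
  have h := H.cls
  have hall := equivariant_all hE h φ hφ hS hgen heq
  -- the fibres form a system
  let R : G → G → Prop := fun a b => a ∈ D ∧ b ∈ D ∧ φ a = φ b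
  have hcomm : ∀ a ∈ D, ∀ e ∈ D, φ e ≠ φ a → (Commute e a ↔ Commute (φ e) (φ a)) := by
    intro a ha e he hne
    constructor
    · intro hc
      have h1 := hall e he a ha
      rw [hc.eq, mul_assoc, dsq h.1 he, mul_one] at h1
      show φ e * φ a = φ a * φ e
      conv_rhs => rw [h1, mul_assoc _ (φ e) (φ e), dsq hE.1 (hφ e he), mul_one]
    · intro hc
      by_contra hnc
      apply hne
      have h1 := hall e he a ha
      have h2 := hall a ha e he
      have x1 : φ e * φ a * φ e = φ a := by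
        rw [hc.eq, mul_assoc, dsq hE.1 (hφ e he), mul_one]
      have x2 : φ a * φ e * φ a = φ e := by
        rw [← hc.eq, mul_assoc, dsq hE.1 (hφ a ha), mul_one]
      rw [braid h.1 he ha hnc, h2, x1, x2] at h1
      exact h1
  have hcj : ∀ g : G, ∃ k : X, ∀ b ∈ D, φ (g * b * g⁻¹) = k * φ b * k⁻¹ := by
    intro g
    have hg : g ∈ Subgroup.closure D := h.2.2 ▸ Subgroup.mem_top g
    induction hg using Subgroup.closure_induction with
    | mem d hd =>
      exact ⟨φ d, fun b hb => by rw [inv_eq h.1 hd, inv_eq hE.1 (hφ d hd)]; exact hall d hd b hb⟩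
    | one => exact ⟨1, fun b _ => by simp⟩
    | mul u v _ _ hu hv =>
      obtain ⟨k, hk⟩ := hu
      obtain ⟨l, hl⟩ := hv
      refine ⟨k * l, fun b hb => ?_⟩
      have e := hk _ (conj_mem h v hb)
      rw [hl b hb] at e
      simpa [mul_assoc] using e
    | inv u _ hu =>
      obtain ⟨k, hk⟩ := hu
      refine ⟨k⁻¹, fun b hb => ?_⟩
      have e := hk _ (conj_mem h u⁻¹ hb)
      rw [show u * (u⁻¹ * b * u⁻¹⁻¹) * u⁻¹ = b by group] at e
      rw [e]; simp [mul_assoc]
  have hR : IsSys D R :=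
    { refl := fun a ha => ⟨ha, ha, rfl⟩
      symm := fun e => ⟨e.2.1, e.1, e.2.2.symm⟩
      trans := fun e f => ⟨e.1, f.2.1, e.2.2.trans f.2.2⟩
      inv := fun g {a b} e => by
        obtain ⟨k, hk⟩ := hcj g
        exact ⟨conj_mem h g e.1, conj_mem h g e.2.1, by rw [hk a e.1, hk b e.2.1, e.2.2]⟩
      mem := fun e => ⟨e.1, e.2.1⟩
      uniform := fun {u v e} huv he hne => by
        have h1 : φ e ≠ φ u := fun k => hne ⟨he, huv.1, k⟩
        rw [hcomm u huv.1 e he h1, hcomm v huv.2.1 e he (huv.2.2 ▸ h1), huv.2.2] }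
  have hp : ∃ a ∈ D, ∃ b ∈ D, ¬ R a b := by
    obtain ⟨a, ha, b, hb, hab⟩ := hEnc
    obtain ⟨u, hu, rfl⟩ := hsurj a ha
    obtain ⟨v, hv, rfl⟩ := hsurj b hb
    exact ⟨u, hu, v, hv, fun e => hab e.2.2⟩
  have hinj : ∀ a ∈ D, ∀ b ∈ D, φ a = φ b → a = b := fun a ha b hb e =>
    sys_trivial H hR hp ⟨ha, hb, e⟩
  -- the graph of the isomorphism
  let Γ : Subgroup (G × X) := Subgroup.closure ((fun d => (d, φ d)) '' D)
  have hact : ∀ p ∈ Γ, ∀ b ∈ D, φ (p.1 * b * p.1⁻¹) = p.2 * φ b * p.2⁻¹ := by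
    intro p hp
    induction hp using Subgroup.closure_induction with
    | mem p hp =>
      obtain ⟨d, hd, rfl⟩ := hp
      intro b hb
      show φ (d * b * d⁻¹) = φ d * φ b * (φ d)⁻¹
      rw [inv_eq h.1 hd, inv_eq hE.1 (hφ d hd)]; exact hall d hd b hb
    | one => intro b _; simp
    | mul u v _ _ hu hv =>
      intro b hb
      have e := hu _ (conj_mem h v.1 hb)
      rw [hv b hb] at e
      simpa [mul_assoc] using e
    | inv u _ hu =>
      intro b hb
      have e := hu _ (conj_mem h u.1⁻¹ hb)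
      rw [show u.1 * (u.1⁻¹ * b * u.1⁻¹⁻¹) * u.1⁻¹ = b by group] at e
      simp only [Prod.fst_inv, Prod.snd_inv]
      rw [e]; simp [mul_assoc]
  have hfst : Function.Surjective ((MonoidHom.fst G X).comp Γ.subtype) := by
    rw [← MonoidHom.range_eq_top, eq_top_iff, ← h.2.2, Subgroup.closure_le]
    exact fun d hd => ⟨⟨_, Subgroup.subset_closure ⟨d, hd, rfl⟩⟩, rfl⟩
  have hsnd : Function.Surjective ((MonoidHom.snd G X).comp Γ.subtype) := by
    rw [← MonoidHom.range_eq_top, eq_top_iff, ← hE.2.2, Subgroup.closure_le]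
    intro e he
    obtain ⟨d, hd, rfl⟩ := hsurj e he
    exact ⟨⟨_, Subgroup.subset_closure ⟨d, hd, rfl⟩⟩, rfl⟩
  have hfi : Function.Injective ((MonoidHom.fst G X).comp Γ.subtype) := by
    rw [injective_iff_map_eq_one]
    rintro ⟨⟨g, k⟩, hp⟩ (e : g = 1)
    subst e
    have hk : k ∈ Subgroup.center X := by
      refine Subgroup.mem_center_iff.mpr fun z => ?_
      have hz : z ∈ Subgroup.closure E := hE.2.2 ▸ Subgroup.mem_top z
      refine Subgroup.mem_centralizer_singleton_iff.mp ((Subgroup.closure_le _).mpr ?_ hz)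
      intro e he
      obtain ⟨d, hd, rfl⟩ := hsurj e he
      have := hact _ hp d hd
      simp only [one_mul, inv_one, mul_one] at this
      rw [SetLike.mem_coe, Subgroup.mem_centralizer_singleton_iff]
      exact eq_mul_inv_iff_mul_eq.mp this
    rw [hX, Subgroup.mem_bot] at hk
    exact Subtype.ext (Prod.ext rfl hk)
  have hsi : Function.Injective ((MonoidHom.snd G X).comp Γ.subtype) := by
    rw [injective_iff_map_eq_one]
    rintro ⟨⟨g, k⟩, hp⟩ (e : k = 1)
    subst e
    have hg : g ∈ Subgroup.center G := by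
      refine Subgroup.mem_center_iff.mpr fun z => ?_
      have hz : z ∈ Subgroup.closure D := h.2.2 ▸ Subgroup.mem_top z
      refine Subgroup.mem_centralizer_singleton_iff.mp ((Subgroup.closure_le _).mpr ?_ hz)
      intro b hb
      have := hact _ hp b hb
      simp only [one_mul, inv_one, mul_one] at this
      rw [SetLike.mem_coe, Subgroup.mem_centralizer_singleton_iff]
      exact (mul_inv_eq_iff_eq_mul.mp (hinj _ (conj_mem h g hb) b hb this)).symm
    rw [hG, Subgroup.mem_bot] at hg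
    exact Subtype.ext (Prod.ext hg rfl)
  let τ₁ := MulEquiv.ofBijective _ ⟨hfi, hfst⟩
  let τ₂ := MulEquiv.ofBijective _ ⟨hsi, hsnd⟩
  refine ⟨τ₁.symm.trans τ₂, fun d hd => ?_⟩
  have e : τ₁.symm d = ⟨_, Subgroup.subset_closure ⟨d, hd, rfl⟩⟩ :=
    τ₁.symm_apply_eq.mpr rfl
  rw [MulEquiv.trans_apply, e]
  rfl

end Cfsg.Agent.Grp.PolarRec
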