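import Cfsg.Agent.Lib.Grp.PolarRec.Five
import Cfsg.Agent.Lib.Spor.UnitClassTwo

/-! Lines of five points: the classes around a noncommuting pair are coherently lines over the
field of four elements. -/

set_option autoImplicit false
set_option linter.unusedSectionVars false

namespace Cfsg.Agent.Grp.PolarRec

open Cfsg Cfsg.Agent.Spor.ThreeTrans
open Cfsg.Agent.Spor.ThreeTrans renaming mul_self → dsq

variable {F : Type} [Field F] [Fintype F]

theorem fourth (h4 : Fintype.card F = 4) {a b w : F} (ha : a ≠ 0) (hb : b ≠ 0) (hab : a ≠ b)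
    (hw0 : w ≠ 0) (hwa : w ≠ a) (hwb : w ≠ b) : w = a + b := by
  classical
  by_contra hw
  have hs0 : a + b ≠ 0 := fun e => hab (by rw [eq_neg_of_add_eq_zero_left e, Spor.UnitTwo.neg_eq h4])
  have hsa : a + b ≠ a := fun e => hb (by simpa using e)
  have hsb : a + b ≠ b := fun e => ha (by simpa using e)
  have hle := Finset.card_le_univ ({0, a, b, w, a + b} : Finset F)
  rw [h4, Finset.card_insert_of_notMem (by simp [Ne.symm ha, Ne.symm hb, Ne.symm hw0, Ne.symm hs0]),
    Finset.card_insert_of_notMem (by simp [hab, Ne.symm hwa, Ne.symm hsa]),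
    Finset.card_insert_of_notMem (by simp [Ne.symm hwb, Ne.symm hsb]),
    Finset.card_insert_of_notMem (by simp [hw]), Finset.card_singleton] at hle
  omega

theorem cube_eq_one (h4 : Fintype.card F = 4) {a : F} (ha : a ≠ 0) : a * a * a = 1 := by
  have := FiniteField.pow_card_sub_one_eq_one a ha
  rw [h4] at this
  rw [← this]; ring

/-- A permutation fixing zero and nothing else is a multiplication. -/
theorem rot (h4 : Fintype.card F = 4) (τ : F → F) (hinj : Function.Injective τ) (h0 : τ 0 = 0)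
    (hf : ∀ v, v ≠ 0 → τ v ≠ v) : ∀ v, τ v = τ 1 * v := by
  have hc0 : τ 1 ≠ 0 := fun e => one_ne_zero (hinj (e.trans h0.symm))
  have hc1 : τ 1 ≠ 1 := hf 1 one_ne_zero
  generalize hc : τ 1 = c at hc0 hc1 ⊢
  have hne : ∀ v, v ≠ 0 → τ v ≠ 0 := fun v hv e => hv (hinj (e.trans h0.symm))
  have hsum : ∀ v, v ≠ 0 → v ≠ 1 → v ≠ c → v = 1 + c := fun v h1 h2 h3 =>
    fourth h4 one_ne_zero hc0 (Ne.symm hc1) h1 h2 h3
  have hcc : c * c = 1 + c := hsum _ (mul_ne_zero hc0 hc0)
    (fun e => hc1 (by have := cube_eq_one h4 hc0; rw [e, one_mul] at this; exact this))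
    (fun e => hc1 (mul_left_cancel₀ hc0 (e.trans (mul_one c).symm)))
  have hd0 : 1 + c ≠ 0 := fun e => hc1 (by rw [eq_neg_of_add_eq_zero_right e, Spor.UnitTwo.neg_eq h4])
  have hd1 : (1 : F) + c ≠ 1 := fun e => hc0 (by simpa using e)
  have hdc : (1 : F) + c ≠ c := fun e => one_ne_zero (α := F) (by simpa using e)
  have htc : τ c = 1 + c := by
    refine hsum _ (hne c hc0) (fun e => ?_) (hf c hc0)
    -- then the third nonzero element has no possible image
    have hsd : τ (1 + c) = 1 + c := hsum _ (hne _ hd0) (fun k => hdc (hinj (k.trans e.symm)))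
      (fun k => hd1 (hinj (k.trans hc.symm)))
    exact hf _ hd0 hsd
  have htd : τ (1 + c) = 1 := by
    by_contra k
    have := hsum _ (hne _ hd0) k fun e => hd1 (hinj (e.trans hc.symm))
    exact hf _ hd0 this
  intro v
  by_cases hv0 : v = 0
  · rw [hv0, h0, mul_zero]
  by_cases hv1 : v = 1
  · rw [hv1, mul_one, hc]
  by_cases hvc : v = c
  · rw [hvc, htc, hcc]
  · rw [hsum v hv0 hv1 hvc, htd, mul_add, mul_one, hcc, ← add_assoc, add_comm c 1, add_assoc,
      Spor.UnitTwo.add_self h4, add_zero]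

variable {G : Type*} [Group G] [Finite G] {D : Set G}

/-- A noncommuting pair in a class with five-point lines. -/
structure Base (D : Set G) (x y : G) : Prop where
  C : Ctx D
  four : ∀ a ∈ D, ∀ b ∈ perp D a, (cls D a b).ncard = 4
  hx : x ∈ D
  hy : y ∈ apart D x

/-- The members around `x` commuting with `y`, one in each class. -/
abbrev Pt (D : Set G) (x y : G) : Type _ := {p : G // p ∈ perp D x ∧ Commute y p}

variable {x y : G} (B : Base D x y)
include B

theorem Base.h : IsThreeTranspositionClass D := B.C.H.cls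

theorem noncomm_third {a b f : G} (ha : a ∈ D) (hfa : Commute f a) (hfb : ¬ Commute f b) :
    ¬ Commute f (a * b * a) := fun k => hfb (by
  have := (hfa.mul_right k).mul_right hfa
  simpa [mul_assoc, mul_self_mul B.h.1 ha, dsq B.h.1 ha] using this)

/-- The third point of two noncommuting points. -/
def Base.conj (p r : Pt D x y) : Pt D x y :=
  ⟨p.1 * r.1 * p.1, by
    have := perp_conj' B.h p.2.1.2.2.symm r.2.1
    rwa [inv_eq B.h.1 p.2.1.1] at this, (p.2.2.mul_right r.2.2).mul_right p.2.2⟩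

theorem Base.conj_val (p r : Pt D x y) : (B.conj p r).1 = p.1 * r.1 * p.1 := rfl

theorem eq_of_mem_cls {p r : Pt D x y} (h : r.1 ∈ cls D x p.1) : r = p :=
  Subtype.ext ((exists_unique_cls B.C B.hx p.2.1 B.hy).unique ⟨h, r.2.2⟩
    ⟨self_mem_cls p.2.1, p.2.2⟩)

theorem exists_rep {d : G} (hd : d ∈ perp D x) : ∃ p : Pt D x y, d ∈ cls D x p.1 := by
  obtain ⟨u, ⟨hu, hyu⟩, -⟩ := exists_unique_cls B.C B.hx hd B.hy
  have huP := cls_perp B.C B.hx hd hu
  refine ⟨⟨u, huP, hyu⟩, ?_⟩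
  rw [cls_eq B.C B.hx hd hu]; exact self_mem_cls hd

theorem comm_cls_iff {p : Pt D x y} {d f : G} (hd : d ∈ cls D x p.1) (hf : f ∈ perp D x) :
    Commute f d ↔ Commute f p.1 :=
  ⟨fun k => cls_same B.C B.hx p.2.1 hd (self_mem_cls p.2.1) hf k,
    fun k => cls_same B.C B.hx p.2.1 (self_mem_cls p.2.1) hd hf k⟩

theorem pt_third_cls {p r : Pt D x y} (hpr : ¬ Commute p.1 r.1) {d : G} (hd : d ∈ cls D x p.1) :
    p.1 * r.1 * p.1 * d * (p.1 * r.1 * p.1) ∈ cls D x r.1 := by
  have h := B.h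
  have hs := (B.conj p r).2.1
  rw [B.conj_val] at hs
  have hfix : p.1 * r.1 * p.1 * x * (p.1 * r.1 * p.1)⁻¹ = x := conj_self_eq hs.2.2.symm
  have hmove : p.1 * r.1 * p.1 * p.1 * (p.1 * r.1 * p.1)⁻¹ = r.1 := by
    rw [inv_eq h.1 hs.1]
    calc p.1 * r.1 * p.1 * p.1 * (p.1 * r.1 * p.1)
        = p.1 * r.1 * p.1 * p.1 * (r.1 * p.1 * r.1) := by rw [braid h.1 p.2.1.1 r.2.1.1 hpr]
      _ = r.1 := by simp [mul_assoc, mul_self_mul h.1 p.2.1.1, mul_self_mul h.1 r.2.1.1]
  have h1 := line_conj h (p.1 * r.1 * p.1) hd.1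
  rw [hfix, hmove, inv_eq h.1 hs.1] at h1
  refine ⟨h1, fun k => hd.2 ?_⟩
  have k' : p.1 * r.1 * p.1 * d * (p.1 * r.1 * p.1)⁻¹ = p.1 * r.1 * p.1 * x * (p.1 * r.1 * p.1)⁻¹ := by
    rw [hfix, inv_eq h.1 hs.1]; exact k
  simpa using k'

theorem pt_third_inj {p r : Pt D x y} {d e : G}
    (k : p.1 * r.1 * p.1 * d * (p.1 * r.1 * p.1) = p.1 * r.1 * p.1 * e * (p.1 * r.1 * p.1)) :
    d = e := by simpa using k

/-- A pair of class mates acts on a noncommuting class as the third point does. -/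
theorem pair_eq_third {p r : Pt D x y} (hpr : ¬ Commute p.1 r.1) {d : G} (hd : d ∈ cls D x p.1) :
    p.1 * d * r.1 * (p.1 * d)⁻¹ = p.1 * r.1 * p.1 * d * (p.1 * r.1 * p.1) := by
  have h := B.h
  have hdP := cls_perp B.C B.hx p.2.1 hd
  have hdr : ¬ Commute d r.1 := fun k => hpr ((comm_cls_iff B hd r.2.1).mp k.symm).symm
  have hpd : p.1 * d * p.1 = d := by
    rw [(line_pair B.hx p.2.1 (right_mem_line p.2.1.1) hd.1).eq, mul_assoc, dsq h.1 p.2.1.1, mul_one]
  calc p.1 * d * r.1 * (p.1 * d)⁻¹ = p.1 * (d * r.1 * d) * p.1 := by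
        rw [mul_inv_rev, inv_eq h.1 hdP.1, inv_eq h.1 p.2.1.1]; simp [mul_assoc]
    _ = p.1 * r.1 * d * r.1 * p.1 := by rw [braid h.1 hdP.1 r.2.1.1 hdr]; simp [mul_assoc]
    _ = p.1 * r.1 * (p.1 * d * p.1) * r.1 * p.1 := by rw [hpd]
    _ = _ := by simp [mul_assoc]

theorem exists_common_perp {p q : G} (hp : p ∈ perp D x) (hpq : comp D x p q) :
    Commute q p → q ∈ cls D x p ∨ ∃ r ∈ perp D x, ¬ Commute r p ∧ ¬ Commute r q := by
  induction hpq with
  | refl => exact fun _ => Or.inl (self_mem_cls hp)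
  | @tail u v _ huv ih =>
    intro hvp
    obtain ⟨hu, hv, huv⟩ := huv
    by_cases hup : Commute u p
    · rcases ih hup with hc | ⟨r, hr, hrp, hru⟩
      · exact absurd (cls_same B.C B.hx hp (self_mem_cls hp) hc hv hvp).symm huv
      by_cases hrv : Commute r v
      · refine Or.inr ⟨u * r * u, ?_, fun k => ?_, fun k => ?_⟩
        · have := perp_conj' B.h hu.2.2.symm hr
          rwa [inv_eq B.h.1 hu.1] at this
        · exact noncomm_third B hu.1 hup.symm (fun k' => hrp k'.symm) k.symm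
        · -- `v` sees `r` but not `u`
          refine noncomm_third B hr.1 hrv.symm (fun k' => huv k'.symm) ?_
          rw [← braid B.h.1 hu.1 hr.1 fun k' => hru k'.symm]
          exact k.symm
      · exact Or.inr ⟨r, hr, hrp, hrv⟩
    · exact Or.inr ⟨u, hu, hup, huv⟩

theorem exists_common {p q : Pt D x y} (hne : q ≠ p) (hc : Commute q.1 p.1) :
    ∃ r : Pt D x y, ¬ Commute p.1 r.1 ∧ ¬ Commute r.1 q.1 := by
  rcases exists_common_perp B p.2.1 (comp_all B.C.H B.hx p.2.1 q.2.1) hc with k | ⟨r, hr, hrp, hrq⟩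
  · exact absurd (eq_of_mem_cls B k) hne
  · obtain ⟨r₀, hr₀⟩ := exists_rep B hr
    exact ⟨r₀, fun k => hrp ((comm_cls_iff B hr₀ p.2.1).mpr k).symm,
      fun k => hrq ((comm_cls_iff B hr₀ q.2.1).mpr k.symm).symm⟩

/-- The two ways round a triangle agree everywhere or nowhere. -/
theorem holonomy {a b c : Pt D x y} (hab : ¬ Commute a.1 b.1) (hbc : ¬ Commute b.1 c.1)
    (hac : ¬ Commute a.1 c.1) :
    (∀ d ∈ cls D x a.1, d ≠ a.1 → b.1 * c.1 * b.1 * (a.1 * b.1 * a.1 * d * (a.1 * b.1 * a.1)) *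
        (b.1 * c.1 * b.1) = a.1 * c.1 * a.1 * d * (a.1 * c.1 * a.1)) ∨
    (∀ d ∈ cls D x a.1, d ≠ a.1 → b.1 * c.1 * b.1 * (a.1 * b.1 * a.1 * d * (a.1 * b.1 * a.1)) *
        (b.1 * c.1 * b.1) ≠ a.1 * c.1 * a.1 * d * (a.1 * c.1 * a.1)) := by
  have h := B.h
  have key : ∀ d ∈ cls D x a.1, d ≠ a.1 →
      (b.1 * c.1 * b.1 * (a.1 * b.1 * a.1 * d * (a.1 * b.1 * a.1)) *
        (b.1 * c.1 * b.1) = a.1 * c.1 * a.1 * d * (a.1 * c.1 * a.1) ↔
          Commute c.1 (a.1 * b.1 * a.1)) := by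
    intro d hd hda
    have hdP := cls_perp B.C B.hx a.2.1 hd
    set q := a.1 * d with hq
    have hqq : q * q = 1 :=
      sq_mul (dsq h.1 a.2.1.1) (dsq h.1 hdP.1) (line_pair B.hx a.2.1 (right_mem_line a.2.1.1) hd.1)
    have he := pt_third_cls B hab hd
    have hA : q * c.1 * q⁻¹ = a.1 * c.1 * a.1 * d * (a.1 * c.1 * a.1) := pair_eq_third B hac hd
    have he₁ : q * b.1 * q⁻¹ = a.1 * b.1 * a.1 * d * (a.1 * b.1 * a.1) := pair_eq_third B hab hd
    have hB := pair_eq_third B hbc he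
    rw [← he₁] at hB
    rw [← he₁, ← hB, ← hA]
    -- the translation of the third class
    have hs : a.1 * b.1 * a.1 = b.1 * a.1 * b.1 := braid h.1 a.2.1.1 b.2.1.1 hab
    have hf : b.1 * d * b.1 ∈ cls D x (a.1 * b.1 * a.1) := by
      have h1 := line_conj h b.1 hd.1
      rw [conj_self_eq b.2.1.2.2.symm, inv_eq h.1 b.2.1.1, ← hs] at h1
      refine ⟨h1, fun k => hd.2 ?_⟩
      have k' : b.1 * d * b.1⁻¹ = b.1 * x * b.1⁻¹ := by
        rw [conj_self_eq b.2.1.2.2.symm, inv_eq h.1 b.2.1.1]; exact k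
      simpa using k'
    have e₁ : a.1 * b.1 * a.1 * (b.1 * d * b.1) = b.1 * q * b.1 := by
      rw [hs]; simp [q, mul_assoc, mul_self_mul h.1 b.2.1.1]
    have e₂ : b.1 * q * b.1 = q * (q * b.1 * q⁻¹) * b.1 := by
      rw [inv_eq_of_mul_eq_one_left hqq]
      calc b.1 * q * b.1 = (q * q) * b.1 * q * b.1 := by rw [hqq, one_mul]
        _ = _ := by simp [mul_assoc]
    set e := q * b.1 * q⁻¹
    have hbe : Commute b.1 e := line_pair B.hx b.2.1 (right_mem_line b.2.1.1) (he₁ ▸ he).1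
    have hR : a.1 * b.1 * a.1 * (b.1 * d * b.1) * c.1 * (a.1 * b.1 * a.1 * (b.1 * d * b.1))⁻¹ =
        q * (b.1 * e * c.1 * (b.1 * e)⁻¹) * q⁻¹ := by
      rw [e₁, e₂, mul_assoc q e b.1, ← hbe.eq]
      simp [mul_assoc]
    constructor
    · intro k
      by_contra hc
      have hsP := (B.conj a b).2.1
      have hne : a.1 * b.1 * a.1 ≠ b.1 * d * b.1 := fun k' => hda (by
        rw [hs] at k'; simpa using k'.symm)
      obtain ⟨-, h2⟩ := pair_moves B.C B.hx hsP (self_mem_cls hsP) hf hne c.2.1 hc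
      apply h2
      rw [B.conj_val, hR, k, inv_eq_of_mul_eq_one_left hqq]
      calc q * (q * c.1 * q) * q = q * q * c.1 * (q * q) := by simp only [mul_assoc]
        _ = c.1 := by rw [hqq, one_mul, mul_one]
    · intro k
      have hsP := (B.conj a b).2.1
      have h3 := cls_same B.C B.hx hsP (self_mem_cls hsP) hf c.2.1 k
      rw [B.conj_val] at *
      have h4 := hR
      rw [conj_self_eq (k.mul_right h3).symm] at h4
      conv_rhs => rw [h4]
      rw [inv_eq_of_mul_eq_one_left hqq]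
      symm
      calc q * (q * (b.1 * e * c.1 * (b.1 * e)⁻¹) * q) * q
          = q * q * (b.1 * e * c.1 * (b.1 * e)⁻¹) * (q * q) := by simp only [mul_assoc]
        _ = _ := by rw [hqq, one_mul, mul_one]
  by_cases hc : Commute c.1 (a.1 * b.1 * a.1)
  · exact Or.inl fun d hd hda => (key d hd hda).mpr hc
  · exact Or.inr fun d hd hda k => hc ((key d hd hda).mp k)

variable (h4 : Fintype.card F = 4)
include h4

/-- Coordinates on all classes, in which every translation is linear. -/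
structure Frame (F : Type) [Field F] (D : Set G) (x y : G) where
  κ : Pt D x y → F → G
  lam : Pt D x y → Pt D x y → F
  zero : ∀ p, κ p 0 = p.1
  mem : ∀ p v, κ p v ∈ cls D x p.1
  inj : ∀ p, Function.Injective (κ p)
  surj : ∀ p, ∀ d ∈ cls D x p.1, ∃ v, κ p v = d
  move : ∀ p r v, p.1 * κ p v * r.1 * (p.1 * κ p v)⁻¹ = κ r (lam r p * v)

theorem exists_frame : Nonempty (Frame F D x y) := by
  classical
  have h := B.h
  have hne : Nonempty (Pt D x y) := by
    obtain ⟨d, hd⟩ := perp_nonempty B.C.H B.hx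
    obtain ⟨p, -⟩ := exists_rep B hd
    exact ⟨p⟩
  obtain ⟨p₀⟩ := hne
  haveI : Fintype ↥(cls D x p₀.1) := Fintype.ofFinite _
  have hc : Fintype.card F = Fintype.card ↥(cls D x p₀.1) := by
    rw [h4, ← Nat.card_eq_fintype_card, Nat.card_coe_set_eq, B.four x B.hx p₀.1 p₀.2.1]
  let e₀ := Fintype.equivOfCardEq hc
  let e₁ := (Equiv.swap (0 : F) (e₀.symm ⟨p₀.1, self_mem_cls p₀.2.1⟩)).trans e₀
  let k₀ : F → G := fun v => (e₁ v).1
  let L : Pt D x y → Pt D x y → G → G := fun a b d => a.1 * b.1 * a.1 * d * (a.1 * b.1 * a.1)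
  let mid : Pt D x y → Pt D x y := fun q =>
    if hq : q ≠ p₀ ∧ Commute q.1 p₀.1 then (exists_common B hq.1 hq.2).choose else p₀
  let κ : Pt D x y → F → G := fun q v =>
    if Commute q.1 p₀.1 then (if q = p₀ then k₀ v else L (mid q) q (L p₀ (mid q) (k₀ v)))
    else L p₀ q (k₀ v)
  have hmid : ∀ q, q ≠ p₀ → Commute q.1 p₀.1 →
      ¬ Commute p₀.1 (mid q).1 ∧ ¬ Commute (mid q).1 q.1 := fun q hq hc => by
    simp only [mid, dif_pos (And.intro hq hc)]
    exact (exists_common B hq hc).choose_spec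
  have hk0 : k₀ 0 = p₀.1 := by simp [k₀, e₁]
  have hk_mem : ∀ v, k₀ v ∈ cls D x p₀.1 := fun v => (e₁ v).2
  have hk_inj : Function.Injective k₀ := fun u v k => e₁.injective (Subtype.ext k)
  have hk_surj : ∀ d ∈ cls D x p₀.1, ∃ v, k₀ v = d := fun d hd =>
    ⟨e₁.symm ⟨d, hd⟩, by simp [k₀]⟩
  have hL0 : ∀ a b : Pt D x y, ¬ Commute a.1 b.1 → L a b a.1 = b.1 := fun a b hab => by
    show a.1 * b.1 * a.1 * a.1 * (a.1 * b.1 * a.1) = b.1
    rw [braid h.1 a.2.1.1 b.2.1.1 hab]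
    have : ¬ Commute b.1 a.1 := fun k => hab k.symm
    calc b.1 * a.1 * b.1 * a.1 * (b.1 * a.1 * b.1)
        = b.1 * a.1 * b.1 * a.1 * (a.1 * b.1 * a.1) := by rw [braid h.1 a.2.1.1 b.2.1.1 hab]
      _ = b.1 := by simp [mul_assoc, mul_self_mul h.1 a.2.1.1, mul_self_mul h.1 b.2.1.1, dsq h.1 a.2.1.1]
  have hLmem : ∀ a b : Pt D x y, ¬ Commute a.1 b.1 → ∀ d ∈ cls D x a.1, L a b d ∈ cls D x b.1 :=
    fun a b hab d hd => pt_third_cls B hab hd
  have hLinj : ∀ a b : Pt D x y, Function.Injective (L a b) := fun a b d e k => pt_third_inj B k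
  have hLL : ∀ a b : Pt D x y, ¬ Commute a.1 b.1 → ∀ d, L b a (L a b d) = d := fun a b hab d => by
    show b.1 * a.1 * b.1 * (a.1 * b.1 * a.1 * d * (a.1 * b.1 * a.1)) * (b.1 * a.1 * b.1) = d
    rw [← braid h.1 a.2.1.1 b.2.1.1 hab]
    simp [mul_assoc, mul_self_mul h.1 a.2.1.1, mul_self_mul h.1 b.2.1.1, dsq h.1 a.2.1.1,
      dsq h.1 b.2.1.1]
  have hzero : ∀ q, κ q 0 = q.1 := by
    intro q
    simp only [κ]
    split_ifs with h1 h2
    · rw [h2, hk0]
    · obtain ⟨m1, m2⟩ := hmid q h2 h1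
      rw [hk0, hL0 _ _ m1, hL0 _ _ m2]
    · rw [hk0, hL0 _ _ fun k => h1 k.symm]
  have hmem : ∀ q v, κ q v ∈ cls D x q.1 := by
    intro q v
    simp only [κ]
    split_ifs with h1 h2
    · rw [h2]; exact hk_mem v
    · obtain ⟨m1, m2⟩ := hmid q h2 h1
      exact hLmem _ _ m2 _ (hLmem _ _ m1 _ (hk_mem v))
    · exact hLmem _ _ (fun k => h1 k.symm) _ (hk_mem v)
  have hinj : ∀ q, Function.Injective (κ q) := by
    intro q u v k
    simp only [κ] at k
    split_ifs at k with h1 h2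
    · exact hk_inj k
    · exact hk_inj (hLinj _ _ (hLinj _ _ k))
    · exact hk_inj (hLinj _ _ k)
  have hsurj : ∀ q, ∀ d ∈ cls D x q.1, ∃ v, κ q v = d := by
    intro q d hd
    have : κ q '' Set.univ = cls D x q.1 := by
      refine Set.eq_of_subset_of_ncard_le (by rintro _ ⟨v, -, rfl⟩; exact hmem q v) ?_ (Set.toFinite _)
      rw [B.four x B.hx q.1 q.2.1, Set.ncard_image_of_injective _ (hinj q), Set.ncard_univ,
        Nat.card_eq_fintype_card, h4]
    obtain ⟨v, -, k⟩ := this.symm ▸ hd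
    exact ⟨v, k⟩
  -- linear transports
  let E : Pt D x y → Pt D x y → Prop := fun a b =>
    ∃ μ : F, μ ≠ 0 ∧ ∀ v, L a b (κ a v) = κ b (μ * v)
  have hsymm : ∀ a b, ¬ Commute a.1 b.1 → E a b → E b a := by
    rintro a b hab ⟨μ, hμ, k⟩
    refine ⟨μ⁻¹, inv_ne_zero hμ, fun v => ?_⟩
    rw [show κ b v = L a b (κ a (μ⁻¹ * v)) by rw [k, ← mul_assoc, mul_inv_cancel₀ hμ, one_mul],
      hLL a b hab]
  have htri : ∀ a b c, ¬ Commute a.1 b.1 → ¬ Commute b.1 c.1 → ¬ Commute a.1 c.1 →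
      E a b → E b c → E a c := by
    rintro a b c hab hbc hac ⟨μ, hμ, k1⟩ ⟨ν, hν, k2⟩
    have hex : ∀ v, ∃ w, L a c (κ a v) = κ c w := fun v => by
      obtain ⟨w, hw⟩ := hsurj c _ (hLmem a c hac _ (hmem a v))
      exact ⟨w, hw.symm⟩
    choose σ hσ using hex
    have hσinj : Function.Injective σ := fun u v k => hinj a (hLinj a c (by rw [hσ, hσ, k]))
    have hσ0 : σ 0 = 0 := hinj c (by rw [← hσ, hzero, hL0 a c hac, hzero])
    have hcomp : ∀ v, L b c (L a b (κ a v)) = κ c (ν * μ * v) := fun v => by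
      rw [k1, k2, mul_assoc]
    have hne : ∀ v, v ≠ 0 → κ a v ≠ a.1 := fun v hv k => hv (hinj a (k.trans (hzero a).symm))
    rcases holonomy B hab hbc hac with hh | hh
    · refine ⟨ν * μ, mul_ne_zero hν hμ, fun v => ?_⟩
      by_cases hv : v = 0
      · rw [hv, mul_zero, hzero, hzero, hL0 a c hac]
      · rw [← hcomp]; exact (hh _ (hmem a v) (hne v hv)).symm
    · have hτ := rot h4 (fun v => (ν * μ)⁻¹ * σ v)
        (fun u v k => hσinj (mul_left_cancel₀ (inv_ne_zero (mul_ne_zero hν hμ)) k)) (by simp [hσ0])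
        (fun v hv k => hh _ (hmem a v) (hne v hv) (by
          show L b c (L a b (κ a v)) = L a c (κ a v)
          rw [hcomp, hσ]
          congr 1
          have k' : (ν * μ)⁻¹ * σ v = v := k
          conv_lhs => rw [← k']
          rw [← mul_assoc, mul_inv_cancel₀ (mul_ne_zero hν hμ), one_mul]))
      refine ⟨σ 1, fun k => one_ne_zero (hσinj (k.trans hσ0.symm)), fun v => ?_⟩
      rw [hσ]
      congr 1
      have k' : (ν * μ)⁻¹ * σ v = (ν * μ)⁻¹ * σ 1 * v := hτ v
      rw [mul_assoc] at k'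
      exact mul_left_cancel₀ (inv_ne_zero (mul_ne_zero hν hμ)) k'
  have hE0 : ∀ q, ¬ Commute q.1 p₀.1 → E p₀ q := fun q hq => ⟨1, one_ne_zero, fun v => by
    simp [κ, hq, Commute.refl p₀.1]⟩
  have hnb : ∀ a b, ¬ Commute a.1 p₀.1 → ¬ Commute b.1 p₀.1 → ¬ Commute a.1 b.1 → E a b :=
    fun a b ha hb hab => htri a p₀ b ha (fun k => hb k.symm) hab
      (hsymm _ _ (fun k => ha k.symm) (hE0 a ha)) (hE0 b hb)
  have hcom : ∀ q r, q ≠ p₀ → Commute q.1 p₀.1 → ¬ Commute r.1 p₀.1 → ¬ Commute r.1 q.1 →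
      E r q := by
    intro q r hq hc hr hrq
    obtain ⟨m1, m2⟩ := hmid q hq hc
    have m1' : ¬ Commute (mid q).1 p₀.1 := fun k => m1 k.symm
    have hm : E (mid q) q := ⟨1, one_ne_zero, fun v => by
      simp [κ, hc, hq, m1']⟩
    by_cases hrm : Commute r.1 (mid q).1
    · -- through a conjugate
      let r' := B.conj q (mid q)
      have hr'0 : ¬ Commute r'.1 p₀.1 := fun k =>
        noncomm_third B q.2.1.1 hc.symm m1 k.symm
      have hr'q : ¬ Commute r'.1 q.1 := fun k => m2 (by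
        have := (k.symm.mul_right (Commute.refl q.1)).symm
        have h2 : Commute (q.1 * (q.1 * (mid q).1 * q.1) * q.1) q.1 :=
          (((Commute.refl q.1).mul_left k).mul_left (Commute.refl q.1))
        simpa [mul_assoc, mul_self_mul h.1 q.2.1.1, dsq h.1 q.2.1.1] using h2)
      have hr'm : ¬ Commute (mid q).1 r'.1 := fun k => m2 (by
        rw [B.conj_val, braid h.1 q.2.1.1 (mid q).2.1.1 fun k' => m2 k'.symm] at k
        have h2 : Commute (mid q).1 ((mid q).1 * ((mid q).1 * q.1 * (mid q).1) * (mid q).1) :=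
          ((Commute.refl _).mul_right k).mul_right (Commute.refl _)
        simpa [mul_assoc, mul_self_mul h.1 (mid q).2.1.1, dsq h.1 (mid q).2.1.1] using h2)
      have hrr' : ¬ Commute r.1 r'.1 := fun k => by
        rw [B.conj_val, braid h.1 q.2.1.1 (mid q).2.1.1 fun k' => m2 k'.symm] at k
        exact noncomm_third B (mid q).2.1.1 hrm hrq k
      have h1 : E r' q := htri r' (mid q) q (fun k => hr'm k.symm) m2 hr'q
        (hnb _ _ hr'0 m1' fun k => hr'm k.symm) hm
      exact htri r r' q hrr' hr'q hrq (hnb _ _ hr hr'0 hrr') h1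
    · exact htri r (mid q) q hrm m2 hrq (hnb _ _ hr m1' hrm) hm
  have hall : ∀ a b, ¬ Commute a.1 b.1 → E a b := by
    intro a b hab
    by_cases ha : Commute a.1 p₀.1
    · by_cases ha0 : a = p₀
      · subst ha0; exact hE0 b fun k => hab k.symm
      by_cases hb : Commute b.1 p₀.1
      · have hb0 : b ≠ p₀ := fun k => hab (k ▸ ha)
        obtain ⟨r, r1, r2⟩ := exists_common B ha0 ha
        by_cases hrb : Commute r.1 b.1
        · let r' := B.conj a r
          have hr'0 : ¬ Commute r'.1 p₀.1 := fun k => noncomm_third B a.2.1.1 ha.symm r1 k.symm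
          have hr'a : ¬ Commute r'.1 a.1 := fun k => r2 (by
            have h2 : Commute (a.1 * (a.1 * r.1 * a.1) * a.1) a.1 :=
              ((Commute.refl a.1).mul_left k).mul_left (Commute.refl a.1)
            simpa [mul_assoc, mul_self_mul h.1 a.2.1.1, dsq h.1 a.2.1.1] using h2)
          have hr'b : ¬ Commute r'.1 b.1 := fun k => by
            rw [B.conj_val, braid h.1 a.2.1.1 r.2.1.1 fun k' => r2 k'.symm] at k
            exact noncomm_third B r.2.1.1 hrb.symm (fun k' => hab k'.symm) k.symm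
          exact htri a r' b (fun k => hr'a k.symm) hr'b hab
            (hsymm _ _ hr'a (hcom a r' ha0 ha hr'0 hr'a)) (hcom b r' hb0 hb hr'0 hr'b)
        · have r1' : ¬ Commute r.1 p₀.1 := fun k => r1 k.symm
          exact htri a r b (fun k => r2 k.symm) hrb hab
            (hsymm _ _ r2 (hcom a r ha0 ha r1' r2)) (hcom b r hb0 hb r1' hrb)
      · exact hsymm _ _ (fun k => hab k.symm) (hcom a b ha0 ha hb fun k => hab k.symm)
    · by_cases hb : Commute b.1 p₀.1
      · by_cases hb0 : b = p₀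
        · subst hb0; exact hsymm _ _ (fun k => ha k.symm) (hE0 a ha)
        · exact hcom b a hb0 hb ha hab
      · exact hnb a b ha hb hab
  have hμ : ∀ r p, ∃ μ : F, ∀ v, p.1 * κ p v * r.1 * (p.1 * κ p v)⁻¹ = κ r (μ * v) := by
    intro r p
    by_cases hc : Commute r.1 p.1
    · refine ⟨0, fun v => ?_⟩
      rw [zero_mul, hzero, conj_self_eq]
      exact (hc.mul_right ((comm_cls_iff B (hmem p v) r.2.1).mpr hc)).symm
    · obtain ⟨μ, -, k⟩ := hall p r fun k => hc k.symm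
      exact ⟨μ, fun v => by rw [pair_eq_third B (fun k => hc k.symm) (hmem p v)]; exact k v⟩
  choose lam hlam using hμ
  exact ⟨⟨κ, lam, hzero, hmem, hinj, hsurj, fun p r v => hlam r p v⟩⟩

end Cfsg.Agent.Grp.PolarRec
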