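import Cfsg.Agent.Lib.Grp.PolarRec.Space

/-! Counting: two members over each vector, and every isotropic vector is a multiple of a row. -/

set_option autoImplicit false
set_option linter.unusedSectionVars false
set_option linter.style.haveILetI false

namespace Cfsg.Agent.Grp.PolarRec

open Cfsg Cfsg.Agent.Spor.ThreeTrans
open Cfsg.Agent.Spor.ThreeTrans renaming mul_self → dsq

variable {F : Type} [Field F] [Fintype F]

theorem exists_tr_one (h4 : Fintype.card F = 4) : ∃ w : F, w ≠ 0 ∧ w ≠ 1 ∧ w + bar h4 w = 1 := by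
  classical
  obtain ⟨w, hw⟩ : ∃ w : F, w ∉ ({0, 1} : Finset F) := by
    by_contra hcon
    push Not at hcon
    have : Fintype.card F ≤ ({0, 1} : Finset F).card :=
      Finset.card_le_card (s := Finset.univ) fun a _ => hcon a
    have := this.trans (Finset.card_insert_le _ _)
    simp only [Finset.card_singleton] at this
    omega
  simp only [Finset.mem_insert, Finset.mem_singleton, not_or] at hw
  obtain ⟨h0, h1⟩ := hw
  refine ⟨w, h0, h1, ?_⟩
  rw [bar_apply, fourth h4 one_ne_zero h0 (Ne.symm h1) (mul_ne_zero h0 h0)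
    (fun e => h1 (by have := cube_eq_one h4 h0; rwa [e, one_mul] at this))
    (fun e => h1 (mul_left_cancel₀ h0 (e.trans (mul_one w).symm))), add_comm 1 w, ← add_assoc,
    Spor.UnitTwo.add_self h4, zero_add]

theorem zero_or_one (h4 : Fintype.card F = 4) {a : F} (ha : bar h4 a = a) : a = 0 ∨ a = 1 := by
  by_cases h0 : a = 0
  · exact Or.inl h0
  · rw [bar_apply] at ha
    exact Or.inr (mul_left_cancel₀ h0 (ha.trans (mul_one a).symm))

variable {G : Type*} [Group G] [Finite G] {D : Set G} {x y : G}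
  (B : Base D x y) (h4 : Fintype.card F = 4) (Φ : Frame F D x y)
include B h4 Φ

theorem Frame.pt_eq_of_R {r r' : Pt D x y} {c : F} (hc : c ≠ 0) (h : Φ.R r = c • Φ.R r') :
    r = r' := by
  have hiff : ∀ s : Pt D x y, Commute s.1 r.1 ↔ Commute s.1 r'.1 := fun s => by
    rw [← Φ.lam_eq_zero_iff B, ← Φ.lam_eq_zero_iff B]
    have := congrFun h s
    simp only [Frame.R, Pi.smul_apply, smul_eq_mul] at this
    rw [this, mul_eq_zero]
    exact or_iff_right hc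
  refine eq_of_mem_cls B ⟨⟨r.2.1.1, fun e he => ?_⟩, r.2.1.2.1⟩
  obtain ⟨heD, hxe, hre⟩ := he
  by_cases hex : e = x
  · subst hex; exact r.2.1.2.2.symm
  have heP : e ∈ perp D x := ⟨heD, hex, hxe⟩
  obtain ⟨s, hs⟩ := exists_rep B heP
  have h1 : Commute r'.1 s.1 := (comm_cls_iff B hs r'.2.1).mp hre
  exact (comm_cls_iff B hs r.2.1).mpr ((hiff s).mpr h1.symm).symm

theorem Frame.exists_translation {w : Pt D x y → F} (hw : w ∈ Φ.V0) :
    ∃ g : G, Commute g x ∧ ∀ a ∈ apart D x, Φ.cc (g * a * g⁻¹) = Φ.cc a + w := by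
  refine Φ.V0_induction (P := fun w => ∃ g : G, Commute g x ∧
    ∀ a ∈ apart D x, Φ.cc (g * a * g⁻¹) = Φ.cc a + w) ?_ ?_ ?_ hw
  · exact ⟨1, Commute.one_left x, fun a _ => by simp⟩
  · rintro u v ⟨g, hg, hgu⟩ ⟨k, hk, hkv⟩
    refine ⟨g * k, hg.mul_left hk, fun a ha => ?_⟩
    rw [show g * k * a * (g * k)⁻¹ = g * (k * a * k⁻¹) * g⁻¹ by group,
      hgu _ (apart_conj B.h hk ha), hkv a ha, add_assoc, add_comm v u]
  · intro p c
    exact ⟨Φ.pair p c, Φ.pair_comm_x B p c, fun a ha => (Φ.cc_pair B h4 ha p c).2⟩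

theorem Frame.card_apart_eq :
    Nat.card ↥(apart D x) =
      Nat.card ↥Φ.V0 * Nat.card {a : ↥(apart D x) // Φ.cc a.1 = 0} := by
  choose g hg hg' using fun w : ↥Φ.V0 => Φ.exists_translation B h4 w.2
  rw [← Nat.card_prod]
  refine Nat.card_congr (Equiv.symm ?_)
  refine Equiv.ofBijective (fun q => ⟨g q.1 * q.2.1.1 * (g q.1)⁻¹,
    apart_conj B.h (hg q.1) q.2.1.2⟩) ⟨?_, ?_⟩
  · rintro ⟨w, ⟨a, ha⟩⟩ ⟨w', ⟨b, hb⟩⟩ e
    have e' := congrArg Subtype.val e
    have h1 := congrArg Φ.cc e'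
    simp only at h1 e'
    rw [hg' w a.1 a.2, hg' w' b.1 b.2, ha, hb, zero_add, zero_add] at h1
    obtain rfl : w = w' := Subtype.ext h1
    simp only [mul_left_inj, mul_right_inj] at e'
    obtain rfl : a = b := Subtype.ext e'
    rfl
  · rintro ⟨a, ha⟩
    let w : ↥Φ.V0 := ⟨Φ.cc a, Φ.cc_mem B h4 ha⟩
    have hb : (g w)⁻¹ * a * (g w)⁻¹⁻¹ ∈ apart D x := apart_conj B.h (hg w).inv_left ha
    have hz : Φ.cc ((g w)⁻¹ * a * (g w)⁻¹⁻¹) = 0 := by
      have := hg' w _ hb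
      rw [show g w * ((g w)⁻¹ * a * (g w)⁻¹⁻¹) * (g w)⁻¹ = a by group] at this
      exact add_eq_right.mp this.symm
    exact ⟨(w, ⟨⟨_, hb⟩, hz⟩), Subtype.ext (by group)⟩

theorem Frame.card_apart (p : Pt D x y) :
    Nat.card ↥(apart D x) = 16 * Nat.card {r : Pt D x y // ¬ Commute r.1 p.1} := by
  classical
  have h := B.h
  let S : G → Set G := fun u => {e | e ∈ D ∧ Commute u e ∧ ¬ Commute x e}
  have hfib : ∀ u ∈ perp D x, (S u).ncard = (S p.1).ncard := by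
    intro u hu
    obtain ⟨g, hg, rfl⟩ := transitive_perp B.C.H B.hx p.2.1 hu
    have hgx : Commute g x :=
      localGroup_commute (Subgroup.closure_mono (Set.subset_insert _ _) hg)
    rw [← Set.ncard_image_of_injective (S p.1) (f := fun e => g * e * g⁻¹)
      (fun u v e => by simpa using e)]
    congr 1
    ext e
    constructor
    · rintro ⟨he, h1, h2⟩
      refine ⟨g⁻¹ * e * g, ⟨by simpa using conj_mem h g⁻¹ he, ?_, fun k => h2 ?_⟩,
        by simp [mul_assoc]⟩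
      · rw [← commute_conj_iff g]; simpa [mul_assoc] using h1
      · have := (commute_conj_iff g x (g⁻¹ * e * g)).mpr k
        rw [conj_self_eq hgx] at this
        simpa [mul_assoc] using this
    · rintro ⟨v, ⟨hv, h1, h2⟩, rfl⟩
      refine ⟨conj_mem h g hv, (commute_conj_iff g _ v).mpr h1, fun k => h2 ?_⟩
      rw [← conj_self_eq hgx] at k
      exact (commute_conj_iff g x v).mp k
  have hA : Nat.card ↥(apart D x) = 4 * (S p.1).ncard := by
    let e : ↥(apart D x) ≃ Σ v : F, {a : ↥(apart D x) // Φ.cc a.1 p = v} :=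
      (Equiv.sigmaFiberEquiv fun a : ↥(apart D x) => Φ.cc a.1 p).symm
    rw [Nat.card_congr e, Nat.card_sigma]
    have : ∀ v : F, Nat.card {a : ↥(apart D x) // Φ.cc a.1 p = v} = (S p.1).ncard := fun v => by
      rw [← hfib _ (Φ.memP B p v), ← Nat.card_coe_set_eq]
      refine Nat.card_congr ⟨fun a => ⟨a.1.1, a.1.2.1, ?_, fun k => a.1.2.2 k.symm⟩,
        fun e => ⟨⟨e.1, e.2.1, fun k => e.2.2.2 k.symm⟩, ?_⟩, fun a => rfl, fun e => rfl⟩
      · exact ((Φ.cc_spec B a.1.2 p v).mpr a.2.symm).symm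
      · exact ((Φ.cc_spec B ⟨e.2.1, fun k => e.2.2.2 k.symm⟩ p v).mp e.2.2.1.symm).symm
    rw [Finset.sum_congr rfl fun v _ => this v, Finset.sum_const, Finset.card_univ, h4, smul_eq_mul]
  have hswap : (S p.1).ncard = {e | e ∈ D ∧ Commute x e ∧ ¬ Commute p.1 e}.ncard := by
    have h1 := Set.ncard_inter_add_ncard_sdiff_eq_ncard {e : G | e ∈ D ∧ Commute p.1 e}
      {e : G | e ∈ D ∧ Commute x e} (Set.toFinite _)
    have h2 := Set.ncard_inter_add_ncard_sdiff_eq_ncard {e : G | e ∈ D ∧ Commute x e}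
      {e : G | e ∈ D ∧ Commute p.1 e} (Set.toFinite _)
    rw [Set.inter_comm, Block.FischerTypes.ncard_commute_eq h p.2.1.1 B.hx] at h1
    have e1 : S p.1 = {e : G | e ∈ D ∧ Commute p.1 e} \ {e : G | e ∈ D ∧ Commute x e} := by
      ext e; simp [S]; tauto
    have e2 : {e | e ∈ D ∧ Commute x e ∧ ¬ Commute p.1 e} =
        {e : G | e ∈ D ∧ Commute x e} \ {e : G | e ∈ D ∧ Commute p.1 e} := by
      ext e; simp; tauto
    rw [e1, e2]
    omega
  have hN : {e | e ∈ D ∧ Commute x e ∧ ¬ Commute p.1 e}.ncard =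
      4 * Nat.card {r : Pt D x y // ¬ Commute r.1 p.1} := by
    have hcard : Nat.card ({r : Pt D x y // ¬ Commute r.1 p.1} × F) =
        4 * Nat.card {r : Pt D x y // ¬ Commute r.1 p.1} := by
      rw [Nat.card_prod, Nat.card_eq_fintype_card (α := F), h4, mul_comm]
    rw [← hcard, ← Nat.card_coe_set_eq]
    refine Nat.card_congr (Equiv.symm ?_)
    refine Equiv.ofBijective (fun q => ⟨Φ.κ q.1.1 q.2, (Φ.memP B _ _).1, (Φ.memP B _ _).2.2,
      fun k => q.1.2 ((Φ.comm_iff B q.1.1 p q.2).mp k).symm⟩) ⟨?_, ?_⟩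
    · rintro ⟨⟨r, hr⟩, v⟩ ⟨⟨r', hr'⟩, v'⟩ e
      have e' : Φ.κ r v = Φ.κ r' v' := congrArg Subtype.val e
      obtain rfl : r = r' := by
        refine eq_of_mem_cls B ?_
        rw [← cls_eq B.C B.hx r'.2.1 (Φ.mem r' v'), ← e', cls_eq B.C B.hx r.2.1 (Φ.mem r v)]
        exact self_mem_cls r.2.1
      obtain rfl := Φ.inj r e'
      rfl
    · rintro ⟨e, he, hxe, hpe⟩
      have heP : e ∈ perp D x := ⟨he, fun k => hpe (k ▸ p.2.1.2.2.symm), hxe⟩
      obtain ⟨r, hr⟩ := exists_rep B heP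
      obtain ⟨v, rfl⟩ := Φ.surj r e hr
      exact ⟨(⟨r, fun k => hpe ((Φ.comm_iff B r p v).mpr k.symm)⟩, v), rfl⟩
  omega

/-- The norm along a line through a row. -/
theorem Frame.norm_add {v : Pt D x y → F} (hv : v ∈ Φ.V0) (p : Pt D x y) (c : F) :
    Φ.hh h4 (v + c • Φ.R p) (v + c • Φ.R p) =
      Φ.hh h4 v v + (c * bar h4 (v p) + bar h4 c * v p) := by
  have hR := Φ.R_mem p
  have hcR := Submodule.smul_mem Φ.V0 c hR
  rw [Φ.hh_add_left h4, Φ.hh_add_right B h4 hv hv hcR, Φ.hh_add_right B h4 hcR hv hcR,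
    Φ.hh_smul_left h4, Φ.hh_smul_left h4, Φ.hh_smul_right B h4 hv c hR,
    Φ.hh_smul_right B h4 hR c hR, ← Φ.hh_swap B h4 hv hR, Φ.hh_R B h4 hv, Φ.hh_R B h4 hR]
  simp [Frame.R, Φ.lam_self B]
  ring

theorem Frame.main_count (p : Pt D x y) :
    Nat.card {a : ↥(apart D x) // Φ.cc a.1 = 0} ≤ 2 ∧
    (Nat.card {a : ↥(apart D x) // Φ.cc a.1 = 0} = 2 →
      ∀ v ∈ Φ.V0, v p = 1 → Φ.hh h4 v v = 0 → ∃ (r : Pt D x y) (c : F), v = c • Φ.R r) := by
  classical
  obtain ⟨w, -, -, hw⟩ := exists_tr_one h4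
  obtain ⟨f, hf, hfp⟩ := exists_noncomm_perp B.C B.hx p.2.1
  obtain ⟨r₀, hr₀⟩ := exists_rep B hf
  have hr₀p : ¬ Commute r₀.1 p.1 := fun k => hfp ((comm_cls_iff B hr₀ p.2.1).mpr k.symm).symm
  have hne₀ : Φ.lam p r₀ ≠ 0 := Φ.lam_ne B fun k => hr₀p k.symm
  let u : Pt D x y → F := (Φ.lam p r₀)⁻¹ • Φ.R r₀
  have hu : u ∈ Φ.V0 := Submodule.smul_mem _ _ (Φ.R_mem r₀)
  have hup : u p = 1 := by simp [u, Frame.R, hne₀]
  let S1 := {v : ↥Φ.V0 // v.1 p = 1}
  let I1 := {v : S1 // Φ.hh h4 v.1.1 v.1.1 = 0}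
  have hV : Nat.card ↥Φ.V0 = 4 * Nat.card S1 := by
    have hF : Nat.card F = 4 := by rw [Nat.card_eq_fintype_card, h4]
    rw [← hF, ← Nat.card_prod]
    refine Nat.card_congr ⟨fun v => (v.1 p, ⟨⟨v.1 + (v.1 p + 1) • u,
        add_mem v.2 (Submodule.smul_mem _ _ hu)⟩, ?_⟩),
      fun q => ⟨q.2.1.1 + (q.1 + 1) • u, add_mem q.2.1.2 (Submodule.smul_mem _ _ hu)⟩, ?_, ?_⟩
    · simp [hup, ← add_assoc, Spor.UnitTwo.add_self h4]
    · intro v
      apply Subtype.ext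
      show v.1 + (v.1 p + 1) • u + (v.1 p + 1) • u = v.1
      rw [add_assoc, ← add_smul, Spor.UnitTwo.add_self h4, zero_smul, add_zero]
    · rintro ⟨c, ⟨⟨v, hv⟩, hvp⟩⟩
      have hc : v p + (c + 1) * u p = c := by
        rw [show v p = 1 from hvp, hup, mul_one, add_left_comm, Spor.UnitTwo.add_self h4, add_zero]
      refine Prod.ext (by simpa using hc) (Subtype.ext (Subtype.ext ?_))
      simp only [Pi.add_apply, Pi.smul_apply, smul_eq_mul, hc]
      rw [add_assoc, ← add_smul, Spor.UnitTwo.add_self h4, zero_smul, add_zero]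
  let sh : S1 → S1 := fun v => ⟨⟨v.1.1 + w • Φ.R p, add_mem v.1.2 (Submodule.smul_mem _ _ (Φ.R_mem p))⟩,
    by simp [Frame.R, Φ.lam_self B, v.2]⟩
  have hsh : ∀ v, Φ.hh h4 (sh v).1.1 (sh v).1.1 = Φ.hh h4 v.1.1 v.1.1 + 1 := fun v => by
    show Φ.hh h4 (v.1.1 + w • Φ.R p) (v.1.1 + w • Φ.R p) = _
    rw [Φ.norm_add B h4 v.1.2 p w, v.2, map_one, mul_one, mul_one, hw]
  have hshsh : ∀ v, sh (sh v) = v := fun v => by
    apply Subtype.ext; apply Subtype.ext
    show v.1.1 + w • Φ.R p + w • Φ.R p = v.1.1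
    rw [add_assoc, ← add_smul, Spor.UnitTwo.add_self h4, zero_smul, add_zero]
  have hnorm : ∀ v : S1, Φ.hh h4 v.1.1 v.1.1 = 0 ∨ Φ.hh h4 v.1.1 v.1.1 = 1 := fun v =>
    zero_or_one h4 (Φ.hh_swap B h4 v.1.2 v.1.2)
  have hS : Nat.card S1 = 2 * Nat.card I1 := by
    have e := Nat.card_congr (Equiv.sumCompl fun v : S1 => Φ.hh h4 v.1.1 v.1.1 = 0)
    rw [Nat.card_sum] at e
    have e2 : Nat.card {v : S1 // ¬ Φ.hh h4 v.1.1 v.1.1 = 0} = Nat.card I1 := by
      refine Nat.card_congr ⟨fun v => ⟨sh v.1, ?_⟩, fun v => ⟨sh v.1, ?_⟩, fun v =>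
        Subtype.ext (hshsh v.1), fun v => Subtype.ext (hshsh v.1)⟩
      · rw [hsh, (hnorm v.1).resolve_left v.2, Spor.UnitTwo.add_self h4]
      · rw [hsh, v.2, zero_add]; exact one_ne_zero
    rw [← e, e2, two_mul]
  let f₁ : {r : Pt D x y // ¬ Commute r.1 p.1} → I1 := fun r =>
    ⟨⟨⟨(Φ.lam p r.1)⁻¹ • Φ.R r.1, Submodule.smul_mem _ _ (Φ.R_mem r.1)⟩, by
      simp [Frame.R, Φ.lam_ne B (r := p) (p := r.1) fun k => r.2 k.symm]⟩, by
      show Φ.hh h4 ((Φ.lam p r.1)⁻¹ • Φ.R r.1) ((Φ.lam p r.1)⁻¹ • Φ.R r.1) = 0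
      rw [Φ.hh_smul_left h4, Φ.hh_smul_right B h4 (Φ.R_mem r.1) _ (Φ.R_mem r.1),
        Φ.hh_R B h4 (Φ.R_mem r.1)]
      simp [Frame.R, Φ.lam_self B]⟩
  have hinj : Function.Injective f₁ := by
    rintro ⟨r, hr⟩ ⟨r', hr'⟩ e
    have e' : (Φ.lam p r)⁻¹ • Φ.R r = (Φ.lam p r')⁻¹ • Φ.R r' :=
      congrArg (fun z : I1 => z.1.1.1) e
    have hne : Φ.lam p r ≠ 0 := Φ.lam_ne B fun k => hr k.symm
    have hne' : Φ.lam p r' ≠ 0 := Φ.lam_ne B fun k => hr' k.symm
    have e'' : Φ.R r = (Φ.lam p r * (Φ.lam p r')⁻¹) • Φ.R r' := by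
      rw [mul_smul, ← e', smul_smul, mul_inv_cancel₀ hne, one_smul]
    exact Subtype.ext (Φ.pt_eq_of_R B h4 (mul_ne_zero hne (inv_ne_zero hne')) e'')
  have hle : Nat.card {r : Pt D x y // ¬ Commute r.1 p.1} ≤ Nat.card I1 :=
    Nat.card_le_card_of_injective f₁ hinj
  have hprod := (Φ.card_apart_eq B h4).symm.trans (Φ.card_apart B h4 p)
  have hI : 0 < Nat.card I1 := by
    have : 0 < Nat.card {r : Pt D x y // ¬ Commute r.1 p.1} :=
      Nat.card_pos_iff.mpr ⟨⟨⟨r₀, hr₀p⟩⟩, inferInstance⟩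
    omega
  refine ⟨?_, fun hj v hv hvp hvv => ?_⟩
  · by_contra hj
    have := Nat.mul_le_mul_left (Nat.card ↥Φ.V0) (show 3 ≤ _ by omega :
      3 ≤ Nat.card {a : ↥(apart D x) // Φ.cc a.1 = 0})
    rw [hprod] at this
    omega
  · rw [hj] at hprod
    have heq : Nat.card {r : Pt D x y // ¬ Commute r.1 p.1} = Nat.card I1 := by omega
    obtain ⟨⟨r, hr⟩, e⟩ := ((Nat.bijective_iff_injective_and_card f₁).mpr ⟨hinj, heq⟩).2
      ⟨⟨⟨v, hv⟩, hvp⟩, hvv⟩
    exact ⟨r, _, (congrArg (fun z : I1 => z.1.1.1) e).symm⟩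

omit h4 Φ in
theorem z_apart : x * y * x ∈ apart D x := x_apart B B.hy

omit h4 Φ in
theorem z_ne : x * y * x ≠ y := fun e => B.hy.2 (by
  show y * x = x * y
  conv_lhs => rw [← e]
  simp [mul_assoc, dsq B.h.1 B.hx])

theorem Frame.zero_fibre {a : G} (ha : a ∈ apart D x) (h0 : Φ.cc a = 0) :
    a = y ∨ a = x * y * x := by
  by_contra hno
  push Not at hno
  obtain ⟨d, hd⟩ := perp_nonempty B.C.H B.hx
  obtain ⟨p, -⟩ := exists_rep B hd
  let A0 := {a : ↥(apart D x) // Φ.cc a.1 = 0}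
  let f : Fin 3 → A0 := ![⟨⟨y, B.hy⟩, Φ.cc_y B⟩,
    ⟨⟨x * y * x, z_apart B⟩, (Φ.cc_x B B.hy).trans (Φ.cc_y B)⟩, ⟨⟨a, ha⟩, h0⟩]
  have hf : Function.Injective f := by
    intro i j e
    have e' : (f i).1.1 = (f j).1.1 := congrArg (fun z : A0 => z.1.1) e
    fin_cases i <;> fin_cases j <;> simp [f] at e' ⊢ <;>
      first
        | exact hno.1 e'
        | exact hno.1 e'.symm
        | exact hno.2 e'
        | exact hno.2 e'.symm
        | exact z_ne B e'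
        | exact z_ne B e'.symm
  have := Nat.card_le_card_of_injective f hf
  rw [Nat.card_fin] at this
  have := (Φ.main_count B h4 p).1
  simp only [A0] at *
  omega

theorem Frame.fibre {a b : G} (ha : a ∈ apart D x) (hb : b ∈ apart D x) (e : Φ.cc a = Φ.cc b) :
    b = a ∨ b = x * a * x := by
  obtain ⟨g, hg, hg'⟩ := Φ.exists_translation B h4 (Φ.cc_mem B h4 ha)
  have back : ∀ c ∈ apart D x, Φ.cc c = Φ.cc a → c = g * y * g⁻¹ ∨ c = x * (g * y * g⁻¹) * x := by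
    intro c hc hca
    have hc' := apart_conj B.h hg.inv_left hc
    have hz : Φ.cc (g⁻¹ * c * g⁻¹⁻¹) = 0 := by
      have := hg' _ hc'
      rw [show g * (g⁻¹ * c * g⁻¹⁻¹) * g⁻¹ = c by group, hca] at this
      exact add_eq_right.mp this.symm
    rcases Φ.zero_fibre B h4 hc' hz with k | k
    · left; rw [← k]; group
    · right
      have e2 : x * g = g * x := hg.symm.eq
      have e3 : g⁻¹ * x = x * g⁻¹ := hg.inv_left.eq
      calc c = g * (g⁻¹ * c * g⁻¹⁻¹) * g⁻¹ := by group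
        _ = g * x * y * (x * g⁻¹) := by rw [k]; simp [mul_assoc]
        _ = _ := by rw [← e2, ← e3]; simp [mul_assoc]
  have hxx : ∀ u : G, x * (x * u * x) * x = u := fun u => by
    simp [mul_assoc, mul_self_mul B.h.1 B.hx, dsq B.h.1 B.hx]
  rcases back a ha rfl with ka | ka <;> rcases back b hb e.symm with kb | kb
  · exact Or.inl (kb.trans ka.symm)
  · exact Or.inr (by rw [ka, kb])
  · exact Or.inr (by rw [ka, kb, hxx])
  · exact Or.inl (kb.trans ka.symm)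

/-- Every isotropic vector is a multiple of a row. -/
theorem Frame.iso_row {v : Pt D x y → F} (hv : v ∈ Φ.V0) (h0 : v ≠ 0)
    (hvv : Φ.hh h4 v v = 0) : ∃ (r : Pt D x y) (c : F), c ≠ 0 ∧ v = c • Φ.R r := by
  obtain ⟨p, hp⟩ := Function.ne_iff.mp h0
  have hp' : v p ≠ 0 := hp
  have hj : Nat.card {a : ↥(apart D x) // Φ.cc a.1 = 0} = 2 := by
    refine le_antisymm (Φ.main_count B h4 p).1 ?_
    let A0 := {a : ↥(apart D x) // Φ.cc a.1 = 0}
    let f : Fin 2 → A0 := ![⟨⟨y, B.hy⟩, Φ.cc_y B⟩,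
      ⟨⟨x * y * x, z_apart B⟩, (Φ.cc_x B B.hy).trans (Φ.cc_y B)⟩]
    have hf : Function.Injective f := by
      intro i j e
      have e' : (f i).1.1 = (f j).1.1 := congrArg (fun z : A0 => z.1.1) e
      fin_cases i <;> fin_cases j <;> simp [f] at e' ⊢ <;>
        first
          | exact z_ne B e'
          | exact z_ne B e'.symm
    have := Nat.card_le_card_of_injective f hf
    rwa [Nat.card_fin] at this
  obtain ⟨r, c, e⟩ := (Φ.main_count B h4 p).2 hj ((v p)⁻¹ • v) (Submodule.smul_mem _ _ hv)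
    (by simp [hp']) (by
      rw [Φ.hh_smul_left h4, Φ.hh_smul_right B h4 hv _ hv, hvv, mul_zero, mul_zero])
  have e' : v = (v p * c) • Φ.R r := by
    rw [mul_smul, ← e, smul_smul, mul_inv_cancel₀ hp', one_smul]
  exact ⟨r, _, fun k => h0 (by rw [e', k, zero_smul]), e'⟩

end Cfsg.Agent.Grp.PolarRec
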