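import Cfsg.Agent.Lib.Block.FischerTypes.Basic

/-! Lines of a class of 3-transpositions with a thick line: every member sees one point of a line, or all. -/

set_option autoImplicit false
set_option linter.unusedSectionVars false

namespace Cfsg.Agent.Grp.PolarRec

open Cfsg Cfsg.Agent.Spor.ThreeTrans
open Cfsg.Agent.Spor.ThreeTrans renaming mul_self → dsq

variable {G : Type*} [Group G] [Finite G] {D : Set G}

/-- The members commuting with both. -/
def cm (D : Set G) (a b : G) : Set G := {e | e ∈ D ∧ Commute a e ∧ Commute b e}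

/-- The line through two members. -/
def line (D : Set G) (a b : G) : Set G := {c | c ∈ D ∧ ∀ e ∈ cm D a b, Commute c e}

/-- The class of a commuting member, seen from `x`. -/
def cls (D : Set G) (x p : G) : Set G := line D x p \ {x}

/-- Fischer's hypotheses with a line of more than two points. -/
structure Ctx (D : Set G) : Prop where
  H : Hyp D
  thick : ∃ a ∈ D, ∃ b ∈ perp D a, ∃ c ∈ line D a b, c ≠ a ∧ c ≠ b

variable (C : Ctx D)
include C

theorem Ctx.h : IsThreeTranspositionClass D := C.H.cls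

/-- No twins. -/
theorem Ctx.tf : Block.FischerTypes.TwinFree D := fun a b hab => by
  refine sys_trivial C.H (isSys_perpTwo C.h) ?_ hab
  obtain ⟨u, hu, v, hv, huv⟩ := C.H.nc
  exact ⟨u, hu, v, hv, fun e => huv (perpTwo_commute e)⟩

omit C in
theorem cm_conj (h : IsThreeTranspositionClass D) (g a b : G) :
    cm D (g * a * g⁻¹) (g * b * g⁻¹) = (fun e => g * e * g⁻¹) '' cm D a b := by
  ext e
  constructor
  · rintro ⟨he, ha, hb⟩
    refine ⟨g⁻¹ * e * g, ⟨by simpa using conj_mem h g⁻¹ he, ?_, ?_⟩, by simp [mul_assoc]⟩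
    · rw [← commute_conj_iff g]; simpa [mul_assoc] using ha
    · rw [← commute_conj_iff g]; simpa [mul_assoc] using hb
  · rintro ⟨u, ⟨hu, ha, hb⟩, rfl⟩
    exact ⟨conj_mem h g hu, (commute_conj_iff g a u).mpr ha, (commute_conj_iff g b u).mpr hb⟩

omit C in
theorem line_conj (h : IsThreeTranspositionClass D) (g : G) {a b c : G} (hc : c ∈ line D a b) :
    g * c * g⁻¹ ∈ line D (g * a * g⁻¹) (g * b * g⁻¹) := by
  refine ⟨conj_mem h g hc.1, fun e he => ?_⟩
  rw [cm_conj h] at he
  obtain ⟨u, hu, rfl⟩ := he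
  exact (commute_conj_iff g c u).mpr (hc.2 u hu)

theorem cm_card {a b a' b' : G} (ha : a ∈ D) (hb : b ∈ perp D a) (ha' : a' ∈ D)
    (hb' : b' ∈ perp D a') : (cm D a b).ncard = (cm D a' b').ncard := by
  obtain ⟨g, rfl⟩ := transitive C.h ha ha'
  have hgb : g * b * g⁻¹ ∈ perp D (g * a * g⁻¹) := by
    rw [perp_conj C.h]; exact ⟨b, hb, rfl⟩
  obtain ⟨k, hk, rfl⟩ := transitive_perp C.H ha' hgb hb'
  have hka : Commute k (g * a * g⁻¹) :=
    localGroup_commute (Subgroup.closure_mono (Set.subset_insert _ _) hk)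
  have e : (cm D (g * a * g⁻¹) (k * (g * b * g⁻¹) * k⁻¹)) =
      cm D (k * (g * a * g⁻¹) * k⁻¹) (k * (g * b * g⁻¹) * k⁻¹) := by rw [conj_self_eq hka]
  rw [e, cm_conj C.h, cm_conj C.h, Set.ncard_image_of_injective _ fun u v e => by simpa using e,
    Set.ncard_image_of_injective _ fun u v e => by simpa using e]

omit C in
theorem left_mem_line {a b : G} (ha : a ∈ D) : a ∈ line D a b := ⟨ha, fun _ he => he.2.1⟩

omit C in
theorem right_mem_line {a b : G} (hb : b ∈ D) : b ∈ line D a b := ⟨hb, fun _ he => he.2.2⟩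

omit C in
theorem line_comm {a b u : G} (ha : a ∈ D) (hab : Commute a b) (hu : u ∈ line D a b) :
    Commute u a := hu.2 a ⟨ha, Commute.refl a, hab.symm⟩

omit C in
theorem line_comm' {a b u : G} (hb : b ∈ D) (hab : Commute a b) (hu : u ∈ line D a b) :
    Commute u b := hu.2 b ⟨hb, hab, Commute.refl b⟩

omit C in
theorem line_pair {a b u v : G} (ha : a ∈ D) (hb : b ∈ perp D a) (hu : u ∈ line D a b)
    (hv : v ∈ line D a b) : Commute u v :=
  hu.2 v ⟨hv.1, (line_comm ha hb.2.2 hv).symm, (line_comm' hb.1 hb.2.2 hv).symm⟩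

theorem line_cm {a b u v : G} (ha : a ∈ D) (hb : b ∈ perp D a) (hu : u ∈ line D a b)
    (hv : v ∈ line D a b) (huv : u ≠ v) : cm D u v = cm D a b := by
  have hsub : cm D a b ⊆ cm D u v := fun e he => ⟨he.1, hu.2 e he, hv.2 e he⟩
  exact (Set.eq_of_subset_of_ncard_le hsub
    (cm_card C ha hb hu.1 ⟨hv.1, huv.symm, line_pair ha hb hu hv⟩).ge (Set.toFinite _)).symm

theorem line_eq {a b u v : G} (ha : a ∈ D) (hb : b ∈ perp D a) (hu : u ∈ line D a b)
    (hv : v ∈ line D a b) (huv : u ≠ v) : line D u v = line D a b := by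
  ext c
  simp only [line, Set.mem_setOf_eq, line_cm C ha hb hu hv huv]

/-- A member commuting with two points of a line commutes with all. -/
theorem line_two {a b u v w f : G} (ha : a ∈ D) (hb : b ∈ perp D a) (hu : u ∈ line D a b)
    (hv : v ∈ line D a b) (huv : u ≠ v) (hf : f ∈ D) (hfu : Commute f u) (hfv : Commute f v)
    (hw : w ∈ line D a b) : Commute f w := by
  have : f ∈ cm D a b := line_cm C ha hb hu hv huv ▸ ⟨hf, hfu.symm, hfv.symm⟩
  exact (hw.2 f this).symm

theorem line_symm (a b : G) : line D a b = line D b a := by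
  ext c
  simp only [line, cm, Set.mem_setOf_eq]
  exact and_congr_right fun _ => ⟨fun k e he => k e ⟨he.1, he.2.2, he.2.1⟩,
    fun k e he => k e ⟨he.1, he.2.2, he.2.1⟩⟩

theorem exists_third {a b : G} (ha : a ∈ D) (hb : b ∈ perp D a) :
    ∃ c ∈ line D a b, c ≠ a ∧ c ≠ b := by
  obtain ⟨a₀, ha₀, b₀, hb₀, c, hc, hca, hcb⟩ := C.thick
  obtain ⟨g, rfl⟩ := transitive C.h ha₀ ha
  have hgb : g * b₀ * g⁻¹ ∈ perp D (g * a₀ * g⁻¹) := by
    rw [perp_conj C.h]; exact ⟨b₀, hb₀, rfl⟩
  obtain ⟨k, hk, rfl⟩ := transitive_perp C.H ha hgb hb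
  have hka : Commute k (g * a₀ * g⁻¹) :=
    localGroup_commute (Subgroup.closure_mono (Set.subset_insert _ _) hk)
  have e := conj_self_eq hka
  refine ⟨k * (g * c * g⁻¹) * k⁻¹, ?_, fun k' => hca ?_, fun k' => hcb (by simpa using k')⟩
  · have := line_conj C.h k (line_conj C.h g hc)
    rwa [e] at this
  · conv_rhs at k' => rw [← e]
    simpa using k'

/-! ### Classes seen from a point -/

theorem cls_perp {x p u : G} (hx : x ∈ D) (hp : p ∈ perp D x) (hu : u ∈ cls D x p) :
    u ∈ perp D x := ⟨hu.1.1, hu.2, (line_comm hx hp.2.2 hu.1).symm⟩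

omit C in
theorem self_mem_cls {x p : G} (hp : p ∈ perp D x) : p ∈ cls D x p :=
  ⟨right_mem_line hp.1, hp.2.1⟩

theorem cls_line_eq {x p u : G} (hx : x ∈ D) (hp : p ∈ perp D x) (hu : u ∈ cls D x p) :
    line D x u = line D x p := line_eq C hx hp (left_mem_line hx) hu.1 (Ne.symm hu.2)

theorem cls_eq {x p u : G} (hx : x ∈ D) (hp : p ∈ perp D x) (hu : u ∈ cls D x p) :
    cls D x u = cls D x p := by rw [cls, cls, cls_line_eq C hx hp hu]

/-- Members of one class have the same neighbours around `x`. -/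
theorem cls_same {x p u v f : G} (hx : x ∈ D) (hp : p ∈ perp D x) (hu : u ∈ cls D x p)
    (hv : v ∈ cls D x p) (hf : f ∈ perp D x) (hfu : Commute f u) : Commute f v :=
  line_two C hx hp (left_mem_line hx) hu.1 (Ne.symm hu.2) hf.1 hf.2.2.symm hfu hv.1

theorem exists_noncomm_perp {x d : G} (hx : x ∈ D) (hd : d ∈ perp D x) :
    ∃ f ∈ perp D x, ¬ Commute f d :=
  Block.FischerTypes.exists_noncentral C.h C.tf hx hd

/-- A product of two class mates moves every class not commuting with them to itself, freely. -/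
theorem pair_moves {x p d d' f : G} (hx : x ∈ D) (hp : p ∈ perp D x) (hd : d ∈ cls D x p)
    (hd' : d' ∈ cls D x p) (hne : d ≠ d') (hf : f ∈ perp D x) (hfd : ¬ Commute f d) :
    d * d' * f * (d * d')⁻¹ ∈ cls D x f ∧ d * d' * f * (d * d')⁻¹ ≠ f := by
  have h := C.h
  have hdP := cls_perp C hx hp hd
  have hd'P := cls_perp C hx hp hd'
  have hdd' : Commute d d' := line_pair hx hp hd.1 hd'.1
  have hfd' : ¬ Commute f d' := fun k => hfd (cls_same C hx hp hd' hd hf k)
  have hq : Commute (d * d') x := hdP.2.2.symm.mul_left hd'P.2.2.symm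
  have hinv : (d * d')⁻¹ = d * d' := by
    rw [mul_inv_rev, inv_eq h.1 hd'P.1, inv_eq h.1 hdP.1, hdd'.eq]
  refine ⟨⟨⟨conj_mem h _ hf.1, ?_⟩, ?_⟩, ?_⟩
  · intro e ⟨he, hxe, hfe⟩
    -- enough: `f` commutes with the conjugate of `e`
    suffices hs : Commute f (d * d' * e * (d * d')⁻¹) by
      have := (commute_conj_iff (d * d') f (d * d' * e * (d * d')⁻¹)).mpr hs
      rw [show d * d' * (d * d' * e * (d * d')⁻¹) * (d * d')⁻¹ = e by
        rw [hinv]
        have e2 : d * d' * (d * d') = 1 := by
          rw [← pow_two]; exact sq_of_commute h hdP.1 hd'P.1 hdd'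
        simp only [← mul_assoc] at e2 ⊢
        rw [e2, one_mul, mul_assoc, mul_assoc, mul_assoc,
          show d * (d' * (d * d')) = 1 by rw [← mul_assoc, ← mul_assoc, e2]]
        exact mul_one e] at this
      exact this
    by_cases hed : Commute e d
    · by_cases hex : e = x
      · subst hex; rw [conj_self_eq hq]; exact hfe
      have hed' : Commute e d' := cls_same C hx hp hd hd' ⟨he, hex, hxe⟩ hed
      rw [conj_self_eq (hed.mul_right hed').symm]; exact hfe
    · have hex : e ≠ x := fun k => hed (k ▸ hdP.2.2)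
      have heP : e ∈ perp D x := ⟨he, hex, hxe⟩
      have hed' : ¬ Commute e d' := fun k => hed (cls_same C hx hp hd' hd heP k)
      -- the conjugates of `d`, `d'` by `f` form a class
      have hfP : f * d * f⁻¹ ∈ perp D x := perp_conj' h hf.2.2.symm hdP
      have hl : f * d' * f⁻¹ ∈ cls D x (f * d * f⁻¹) := by
        refine ⟨?_, fun k => ?_⟩
        · have h1 := line_conj h f (cls_line_eq C hx hp hd ▸ hd'.1)
          rwa [conj_self_eq hf.2.2.symm] at h1
        · have h2 : f * d' * f⁻¹ = x := k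
          rw [← conj_self_eq hf.2.2.symm] at h2
          exact hd'P.2.1 (by simpa using h2)
      have hg : d' * e * d'⁻¹ ∈ perp D x := perp_conj' h hd'P.2.2.symm heP
      have h1 : Commute (d' * e * d'⁻¹) (f * d' * f⁻¹) := by
        rw [show f * d' * f⁻¹ = d' * f * d'⁻¹ by
          rw [inv_eq h.1 hf.1, inv_eq h.1 hd'P.1, braid h.1 hf.1 hd'P.1 hfd']]
        exact (commute_conj_iff d' e f).mpr hfe.symm
      have h2 := cls_same C hx hfP hl (self_mem_cls hfP) hg h1
      rw [show f * d * f⁻¹ = d * f * d⁻¹ by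
          rw [inv_eq h.1 hf.1, inv_eq h.1 hdP.1, braid h.1 hf.1 hdP.1 hfd]] at h2
      have h3 := (commute_conj_iff d _ _).mpr h2
      rw [show d * (d * f * d⁻¹) * d⁻¹ = f by
        rw [inv_eq h.1 hdP.1, ← mul_assoc, ← mul_assoc, dsq h.1 hdP.1, one_mul, mul_assoc,
          dsq h.1 hdP.1, mul_one]] at h3
      rw [show d * d' * e * (d * d')⁻¹ = d * (d' * e * d'⁻¹) * d⁻¹ by group]
      exact h3.symm
  · intro k
    have k' : d * d' * f * (d * d')⁻¹ = x := k
    rw [← conj_self_eq hq] at k'
    exact hf.2.1 (by simpa using k')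
  · intro k
    have hc : Commute f (d * d') := (mul_inv_eq_iff_eq_mul.mp k).symm
    exact hfd ((commute_mul_iff h.1 hdP.1 hd'P.1 hf.1 hne hdd').mp hc).1

omit [Finite G] C in
/-- A set with an involution without fixed points has an even number of members. -/
theorem even_of_involution {α : Type*} [Finite α] (s : Set α) (g : α → α)
    (hm : ∀ a ∈ s, g a ∈ s) (hi : ∀ a ∈ s, g (g a) = a) (hf : ∀ a ∈ s, g a ≠ a) :
    Even s.ncard := by
  classical
  have : Fintype α := Fintype.ofFinite α
  have h0 : ∑ _a ∈ s.toFinset, (1 : ZMod 2) = 0 :=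
    Finset.sum_involution (fun a _ => g a) (fun a _ => rfl)
      (fun a ha _ => hf a (Set.mem_toFinset.mp ha))
      (fun a ha => Set.mem_toFinset.mpr (hm a (Set.mem_toFinset.mp ha)))
      (fun a ha => hi a (Set.mem_toFinset.mp ha))
  rw [Finset.sum_const, nsmul_one, ZMod.natCast_eq_zero_iff_even] at h0
  rwa [Set.ncard_eq_toFinset_card']

/-- Classes have even size. -/
theorem cls_even {x f : G} (hx : x ∈ D) (hf : f ∈ perp D x) : Even (cls D x f).ncard := by
  have h := C.h
  obtain ⟨d, hd, hfd⟩ := exists_noncomm_perp C hx hf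
  obtain ⟨d', hd', hd'x, hd'd⟩ := exists_third C hx hd
  have hd'K : d' ∈ cls D x d := ⟨hd', hd'x⟩
  have hdd' : Commute d d' := line_pair hx hd (right_mem_line hd.1) hd'
  refine even_of_involution _ (fun a => d * d' * a * (d * d')⁻¹) (fun a ha => ?_) (fun a _ => ?_)
    fun a ha => ?_
  all_goals try
    have hnc : ¬ Commute a d := fun k =>
      hfd (line_two C hx hf (left_mem_line hx) ha.1 (Ne.symm ha.2) hd.1 hd.2.2.symm k.symm
        (right_mem_line hf.1))
  · rw [← cls_eq C hx hf ha]
    exact (pair_moves C hx hd (self_mem_cls hd) hd'K (Ne.symm hd'd) (cls_perp C hx hf ha) hnc).1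
  · have e : (d * d') * (d * d') = 1 := by
      rw [← pow_two]; exact sq_of_commute h hd.1 hd'.1 hdd'
    rw [inv_eq_of_mul_eq_one_left e]
    calc d * d' * (d * d' * a * (d * d')) * (d * d')
        = (d * d' * (d * d')) * a * ((d * d') * (d * d')) := by simp only [mul_assoc]
      _ = a := by rw [e, one_mul, mul_one]
  · exact (pair_moves C hx hd (self_mem_cls hd) hd'K (Ne.symm hd'd) (cls_perp C hx hf ha) hnc).2

/-- Lines have odd size. -/
theorem line_odd {a b : G} (ha : a ∈ D) (hb : b ∈ perp D a) : Odd (line D a b).ncard := by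
  rw [← Set.ncard_diff_singleton_add_one (left_mem_line ha) (Set.toFinite _)]
  exact (cls_even C ha hb).add_one

omit [Finite G] C in
/-- The fourth point of a star with three leaves. -/
def star (a b y : G) : G := y * (a * b * y * b * a)

theorem star_conj {a b y : G} (ha : a ∈ D) (hb : b ∈ D) (hy : y ∈ D) (hab : Commute a b)
    (hya : ¬ Commute y a) (hyb : ¬ Commute y b) :
    Commute y (a * b * y * b * a) ∧ star a b y * a * (star a b y)⁻¹ = b := by
  have h := C.h
  have ea := dsq h.1 ha
  have eb := dsq h.1 hb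
  have ey := dsq h.1 hy
  have ra : y * a * y = a * y * a := braid h.1 hy ha hya
  have rb : y * b * y = b * y * b := braid h.1 hy hb hyb
  have hbab : b * a * b = a := by rw [← hab.eq, mul_assoc, eb, mul_one]
  have haba : a * b * a = b := by rw [hab.eq, mul_assoc, ea, mul_one]
  set w := a * b * y * b * a with hw
  have hwD : w ∈ D := by
    have : w = a * (b * y * b) * a := by simp [w, mul_assoc]
    rw [this]; exact conj'_mem h ha (conj'_mem h hb hy)
  have h1 : y * w * y = w := by
    calc y * w * y = y * a * (b * y * b) * a * y := by simp [w, mul_assoc]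
      _ = (y * a * y) * b * (y * a * y) := by rw [← rb]; simp [mul_assoc]
      _ = a * y * (a * b * a) * y * a := by rw [ra]; simp [mul_assoc]
      _ = a * (y * b * y) * a := by rw [haba]; simp [mul_assoc]
      _ = w := by rw [rb]; simp [w, mul_assoc]
  have hc : Commute y w := by
    show y * w = w * y
    calc y * w = y * w * (y * y) := by rw [ey, mul_one]
      _ = (y * w * y) * y := by simp [mul_assoc]
      _ = w * y := by rw [h1]
  refine ⟨hc, ?_⟩
  have h2 : w * a * w = b * y * b := by
    calc w * a * w = a * b * y * b * (a * a) * a * b * y * b * a := by simp [w, mul_assoc]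
      _ = a * b * y * (b * a * b) * y * b * a := by rw [ea, mul_one]; simp [mul_assoc]
      _ = a * b * (y * a * y) * b * a := by rw [hbab]; simp [mul_assoc]
      _ = (a * b * a) * y * (a * b * a) := by rw [ra]; simp [mul_assoc]
      _ = b * y * b := by rw [haba]
  calc star a b y * a * (star a b y)⁻¹ = y * (w * a * w) * y := by
        rw [star, ← hw, mul_inv_rev, inv_eq h.1 hwD, inv_eq h.1 hy]; simp [mul_assoc]
    _ = y * (y * b * y) * y := by rw [h2, rb]
    _ = b := by simp [mul_assoc, mul_self_mul h.1 hy, ey]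

/-- Every member commutes with some point of every line. -/
theorem exists_on_line {a b y : G} (ha : a ∈ D) (hb : b ∈ perp D a) (hy : y ∈ D) :
    ∃ p ∈ line D a b, Commute y p := by
  by_contra hno
  simp only [not_exists, not_and] at hno
  have h := C.h
  have hab := hb.2.2
  have hya := hno a (left_mem_line ha)
  have hyb := hno b (right_mem_line hb.1)
  obtain ⟨hyw, e1⟩ := star_conj C ha hb.1 hy hab hya hyb
  obtain ⟨-, e2⟩ := star_conj C hb.1 ha hy hab.symm hyb hya
  have hsym : star b a y = star a b y := by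
    simp only [star]
    congr 1
    rw [← hab.eq, mul_assoc (a * b * y) a b, hab.eq, ← mul_assoc]
  rw [hsym] at e2
  set g := star a b y with hg
  set w := a * b * y * b * a with hw
  have hwD : w ∈ D := by
    have : w = a * (b * y * b) * a := by simp [w, mul_assoc]
    rw [this]; exact conj'_mem h ha (conj'_mem h hb.1 hy)
  have hgg : g * g = 1 := by
    rw [hg, star, ← hw, ← pow_two]; exact sq_of_commute h hy hwD hyw
  have hne : y ≠ w := by
    intro k
    refine hya ((commute_mul_iff h.1 ha hb.1 hy (Ne.symm hb.2.1) hab).mp ?_).1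
    show y * (a * b) = (a * b) * y
    conv_lhs => rw [k]
    simp [w, mul_assoc, mul_self_mul h.1 ha, dsq h.1 hb.1]
  have heven : Even (line D a b).ncard := by
    refine even_of_involution _ (fun c => g * c * g⁻¹) (fun c hc => ?_) (fun c _ => ?_) fun c hc k => ?_
    · have := line_conj h g hc
      rwa [e1, e2, ← line_symm C a b] at this
    · rw [inv_eq_of_mul_eq_one_left hgg]
      calc g * (g * c * g) * g = (g * g) * c * (g * g) := by simp only [mul_assoc]
        _ = c := by rw [hgg, one_mul, mul_one]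
    · refine hno c hc ((commute_mul_iff h.1 hy hwD hc.1 hne hyw).mp ?_).1.symm
      exact (mul_inv_eq_iff_eq_mul.mp k).symm
  exact (Nat.not_odd_iff_even.mpr heven) (line_odd C ha hb)

/-- A member apart from `x` commutes with exactly one member of each class. -/
theorem exists_unique_cls {x p y : G} (hx : x ∈ D) (hp : p ∈ perp D x) (hy : y ∈ apart D x) :
    ∃! u, u ∈ cls D x p ∧ Commute y u := by
  obtain ⟨u, hu, hyu⟩ := exists_on_line C hx hp hy.1
  have hux : u ≠ x := fun k => hy.2 (k ▸ hyu)
  refine ⟨u, ⟨⟨hu, hux⟩, hyu⟩, fun v hv => ?_⟩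
  by_contra hne
  exact hy.2 (line_two C hx hp hu hv.1.1 (Ne.symm hne) hy.1 hyu hv.2 (left_mem_line hx))

end Cfsg.Agent.Grp.PolarRec
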