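import Cfsg.Agent.Lib.Grp.PolarRec.Fibre

/-! The scalar of a member apart from `x` and its behaviour under the generators. -/

set_option autoImplicit false
set_option linter.unusedSectionVars false
set_option linter.style.haveILetI false

namespace Cfsg.Agent.Grp.PolarRec

open Cfsg Cfsg.Agent.Spor.ThreeTrans
open Cfsg.Agent.Spor.ThreeTrans renaming mul_self → dsq

variable {F : Type} [Field F] [Fintype F] {G : Type*} [Group G] [Finite G] {D : Set G}

theorem add_cancel_self (h4 : Fintype.card F = 4) {a b : F} : a + b = 0 ↔ a = b := by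
  rw [add_eq_zero_iff_eq_neg, Spor.UnitTwo.neg_eq h4]

theorem one_add_ne (h4 : Fintype.card F = 4) {a : F} (h : a ≠ 1) : a + 1 ≠ 0 := fun e =>
  h ((add_cancel_self h4).mp e)

theorem two_values (h4 : Fintype.card F = 4) {a b : F} (ha0 : a ≠ 0) (ha1 : a ≠ 1) (hb0 : b ≠ 0)
    (hb1 : b ≠ 1) (hab : b ≠ a) : b = a + 1 :=
  fourth h4 ha0 one_ne_zero ha1 hb0 hab hb1

/-- The third point of a noncommuting pair. -/
def zz (x y : G) : G := x * y * x

variable {x y : G} (B : Base D x y) (h4 : Fintype.card F = 4) (Φ : Frame F D x y)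
include B

theorem zz_mem : zz x y ∈ D := conj'_mem B.h B.hx B.hy.1

theorem zz_sq : zz x y * zz x y = 1 := dsq B.h.1 (zz_mem B)

theorem braid_xy : x * y * x = y * x * y := braid B.h.1 B.hx B.hy.1 fun k => B.hy.2 k.symm

theorem zz_x : zz x y * x * zz x y = y := by
  calc zz x y * x * zz x y = x * y * x * x * (y * x * y) := by rw [zz]; conv_lhs => arg 2; rw [braid_xy B]
    _ = y := by simp [mul_assoc, mul_self_mul B.h.1 B.hx, mul_self_mul B.h.1 B.hy.1]

theorem zz_y : zz x y * y * zz x y = x := by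
  calc zz x y * y * zz x y = y * x * y * y * (x * y * x) := by rw [zz]; conv_lhs => arg 1; arg 1; rw [braid_xy B]
    _ = x := by simp [mul_assoc, mul_self_mul B.h.1 B.hy.1, mul_self_mul B.h.1 B.hx]

theorem x_zz : x * zz x y * x = y := by
  simp [zz, mul_assoc, mul_self_mul B.h.1 B.hx, dsq B.h.1 B.hx]

theorem zz_comm_pt (p : Pt D x y) : Commute (zz x y) p.1 :=
  (p.2.1.2.2.mul_left p.2.2).mul_left p.2.1.2.2

theorem comm_conj {d a b : G} (hd : d * d = 1) : Commute (d * a * d) b ↔ Commute a (d * b * d) := by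
  have hi : d⁻¹ = d := inv_eq_of_mul_eq_one_right hd
  have h := commute_conj_iff d a (d * b * d)
  rw [show d * (d * b * d) * d⁻¹ = b by
    rw [hi]
    calc d * (d * b * d) * d = d * d * b * (d * d) := by simp only [mul_assoc]
      _ = b := by rw [hd, one_mul, mul_one], hi] at h
  exact h

theorem not_comm_zz_x : ¬ Commute (zz x y) x := fun k => B.hy.2 (by
  have h := ((Commute.refl x).mul_left k).mul_left (Commute.refl x)
  rwa [x_zz B] at h)

theorem not_comm_y_zz {a : G} (ha : a ∈ apart D x) (h1 : Commute a y) : ¬ Commute a (zz x y) :=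
  fun h2 => ha.2 (by
    have h := (h1.mul_right h2).mul_right h1
    rwa [show y * zz x y * y = x by
      rw [zz, braid_xy B]; simp [mul_assoc, mul_self_mul B.h.1 B.hy.1, dsq B.h.1 B.hy.1]] at h)

theorem zconj_apart {a : G} (ha : a ∈ apart D x) (h : ¬ Commute a y) :
    zz x y * a * zz x y ∈ apart D x :=
  ⟨conj'_mem B.h (zz_mem B) ha.1, fun k => h (by
    have := (comm_conj B (zz_sq B)).mp k
    rwa [zz_x B] at this)⟩

theorem zz_zz (a : G) : zz x y * (zz x y * a * zz x y) * zz x y = a := by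
  simp [mul_assoc, mul_self_mul B.h.1 (zz_mem B), dsq B.h.1 (zz_mem B)]

include h4

omit h4 in
theorem Frame.not_comm_y {p : Pt D x y} {v : F} (hv : v ≠ 0) : ¬ Commute y (Φ.κ p v) :=
  fun k => hv (((Φ.cc_spec B B.hy p v).mp k).trans (congrFun (Φ.cc_y B) p))

omit h4 in
theorem Frame.not_comm_zz {p : Pt D x y} {v : F} (hv : v ≠ 0) : ¬ Commute (zz x y) (Φ.κ p v) :=
  fun k => Φ.not_comm_y B hv (by
    have h := ((Φ.memP B p v).2.2.mul_left k).mul_left (Φ.memP B p v).2.2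
    rwa [x_zz B] at h)

omit h4 in
theorem Frame.zconj_kappa {p : Pt D x y} {v : F} (hv : v ≠ 0) :
    zz x y * Φ.κ p v * zz x y = x * Φ.κ p v * y * Φ.κ p v * x := by
  have hd := Φ.memP B p v
  have e : x * Φ.κ p v * x = Φ.κ p v := by rw [hd.2.2.eq, mul_assoc, dsq B.h.1 B.hx, mul_one]
  calc zz x y * Φ.κ p v * zz x y = x * y * (x * Φ.κ p v * x) * y * x := by simp [zz, mul_assoc]
    _ = x * (y * Φ.κ p v * y) * x := by rw [e]; simp [mul_assoc]
    _ = x * (Φ.κ p v * y * Φ.κ p v) * x := by rw [braid B.h.1 B.hy.1 hd.1 (Φ.not_comm_y B hv)]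
    _ = _ := by simp [mul_assoc]

omit h4 in
theorem Frame.zconj_kappa_apart {p : Pt D x y} {v : F} (hv : v ≠ 0) :
    zz x y * Φ.κ p v * zz x y ∈ apart D x ∧ Commute (zz x y * Φ.κ p v * zz x y) y := by
  refine ⟨⟨conj'_mem B.h (zz_mem B) (Φ.memP B p v).1, fun k => Φ.not_comm_y B (p := p) hv ?_⟩, ?_⟩
  · have h := (comm_conj B (zz_sq B)).mp k
    rw [zz_x B] at h
    exact h.symm
  · rw [comm_conj B (zz_sq B), zz_y B]
    exact (Φ.memP B p v).2.2.symm

theorem Frame.cc_zconj {p : Pt D x y} {v : F} (hv : v ≠ 0) :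
    Φ.cc (zz x y * Φ.κ p v * zz x y) = v • Φ.R p := by
  rw [Φ.zconj_kappa B hv, show x * Φ.κ p v * y * Φ.κ p v * x = x * (Φ.κ p v * y * Φ.κ p v) * x by
    simp [mul_assoc], Φ.cc_x B (perp_apart B (Φ.memP B p v) B.hy), Φ.cc_perp B h4 B.hy, Φ.cc_y B]
  simp

omit h4 in
theorem Frame.comm_y_cases {a : G} (ha : a ∈ apart D x) (h : Commute a y) (hne : a ≠ y) :
    ∃ (p : Pt D x y) (v : F), v ≠ 0 ∧ a = zz x y * Φ.κ p v * zz x y := by
  set e := zz x y * a * zz x y with he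
  have heP : e ∈ perp D x := by
    refine ⟨conj'_mem B.h (zz_mem B) ha.1, fun k => hne ?_, Commute.symm ?_⟩
    · rw [← zz_zz B a, ← he, k, zz_x B]
    · rw [comm_conj B (zz_sq B), zz_x B]; exact h
  obtain ⟨p, hp⟩ := exists_rep B heP
  obtain ⟨v, hv⟩ := Φ.surj p e hp
  refine ⟨p, v, fun k => ha.2 ?_, by rw [hv, he, zz_zz B]⟩
  rw [← zz_zz B a, ← he, ← hv, k, Φ.zero, (zz_comm_pt B p).eq, mul_assoc, zz_sq B, mul_one]
  exact p.2.1.2.2.symm

theorem Frame.hh_iso_zero {p : Pt D x y} (c : F) : Φ.hh h4 (c • Φ.R p) (c • Φ.R p) = 0 := by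
  rw [Φ.hh_smul_left h4, Φ.hh_smul_right B h4 (Φ.R_mem p) c (Φ.R_mem p),
    Φ.hh_R B h4 (Φ.R_mem p)]
  simp [Frame.R, Φ.lam_self B]

/-- The members seeing `y` or the third point are those over isotropic vectors. -/
theorem Frame.iso_iff {a : G} (ha : a ∈ apart D x) :
    Φ.hh h4 (Φ.cc a) (Φ.cc a) = 0 ↔ (Commute a y ∨ Commute a (zz x y)) := by
  have key : ∀ b ∈ apart D x, Commute b y → Φ.hh h4 (Φ.cc b) (Φ.cc b) = 0 := by
    intro b hb hby
    by_cases hne : b = y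
    · rw [hne, Φ.cc_y B]; simp [Frame.hh]
    · obtain ⟨p, v, hv, rfl⟩ := Φ.comm_y_cases B hb hby hne
      rw [Φ.cc_zconj B h4 hv]; exact Φ.hh_iso_zero B h4 v
  constructor
  · intro h
    by_cases h0 : Φ.cc a = 0
    · rcases Φ.zero_fibre B h4 ha h0 with rfl | rfl
      · exact Or.inl (Commute.refl _)
      · exact Or.inr (Commute.refl _)
    obtain ⟨r, c, hc, e⟩ := Φ.iso_row B h4 (Φ.cc_mem B h4 ha) h0 h
    obtain ⟨hA, hy'⟩ := Φ.zconj_kappa_apart B (p := r) hc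
    rcases Φ.fibre B h4 hA ha ((Φ.cc_zconj B h4 hc).trans e.symm) with k | k
    · exact Or.inl (k ▸ hy')
    · refine Or.inr ?_
      rw [k, comm_conj B (dsq B.h.1 B.hx), x_zz B]
      exact hy'
  · rintro (h | h)
    · exact key a ha h
    · rw [← Φ.cc_x B ha]
      refine key _ (x_apart B ha) ?_
      rw [comm_conj B (dsq B.h.1 B.hx)]
      exact h

theorem Frame.cc_ne_zero {a : G} (ha : a ∈ apart D x) (h1 : ¬ Commute a y)
    (h2 : ¬ Commute a (zz x y)) : Φ.cc a ≠ 0 := fun e => by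
  refine not_or.mpr ⟨h1, h2⟩ ((Φ.iso_iff B h4 ha).mp ?_)
  rw [e]; simp [Frame.hh]

theorem Frame.norm_one_of {a : G} (ha : a ∈ apart D x) (h1 : ¬ Commute a y)
    (h2 : ¬ Commute a (zz x y)) : Φ.hh h4 (Φ.cc a) (Φ.cc a) = 1 :=
  (zero_or_one h4 (Φ.hh_swap B h4 (Φ.cc_mem B h4 ha) (Φ.cc_mem B h4 ha))).resolve_left fun e =>
    not_or.mpr ⟨h1, h2⟩ ((Φ.iso_iff B h4 ha).mp e)

omit h4 in
theorem Frame.cc_zero_iff {a : G} (ha : a ∈ apart D x) (p : Pt D x y) :
    Φ.cc a p = 0 ↔ Commute a p.1 := by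
  rw [eq_comm, ← Φ.cc_spec B ha p 0, Φ.zero]

/-- Conjugation by the third point multiplies the coordinates. -/
theorem Frame.exists_nu {a : G} (ha : a ∈ apart D x) (h1 : ¬ Commute a y)
    (h2 : ¬ Commute a (zz x y)) :
    ∃ ν : F, ν ≠ 0 ∧ ν ≠ 1 ∧ Φ.cc (zz x y * a * zz x y) = ν • Φ.cc a := by
  have hb := zconj_apart B ha h1
  set m := Φ.cc a with hm
  set m' := Φ.cc (zz x y * a * zz x y) with hm'
  have hsupp : ∀ p, m' p = 0 ↔ m p = 0 := fun p => by
    rw [Φ.cc_zero_iff B hb, Φ.cc_zero_iff B ha, comm_conj B (zz_sq B), (zz_comm_pt B p).eq,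
      mul_assoc, zz_sq B, mul_one]
  have hne1 : ∀ p, m p ≠ 0 → m' p ≠ m p := by
    intro p hp e
    apply h2
    set u := Φ.κ p (m p)
    have hu : Commute a u := Φ.cc_comm B ha p
    have hu' : Commute a (zz x y * u * zz x y) := by
      rw [← comm_conj B (zz_sq B)]
      have := Φ.cc_comm B hb p
      rwa [← hm', e] at this
    have hb2 := braid B.h.1 (zz_mem B) (Φ.memP B p (m p)).1 (Φ.not_comm_zz B hp)
    have h := (hu.mul_right hu').mul_right hu
    rwa [show u * (zz x y * u * zz x y) * u = zz x y by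
      rw [hb2]; simp [u, mul_assoc, mul_self_mul B.h.1 (Φ.memP B p (m p)).1,
        dsq B.h.1 (Φ.memP B p (m p)).1]] at h
  let ν : Pt D x y → F := fun p => m' p * (m p)⁻¹
  have hν : ∀ p, m p ≠ 0 → m' p = ν p * m p ∧ ν p ≠ 0 ∧ ν p ≠ 1 := fun p hp => by
    refine ⟨(inv_mul_cancel_right₀ hp _).symm, mul_ne_zero (mt (hsupp p).mp hp) (inv_ne_zero hp),
      fun k => hne1 p hp ?_⟩
    rw [(inv_mul_cancel_right₀ hp (m' p)).symm, show m' p * (m p)⁻¹ = 1 from k, one_mul]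
  have hmV := Φ.cc_mem B h4 ha
  have hm'V := Φ.cc_mem B h4 hb
  have hnb : ∀ s p : Pt D x y, ¬ Commute s.1 p.1 → m s ≠ 0 → m p ≠ 0 → ν s = ν p := by
    intro s p hc hs hp
    have e1 : Φ.lam s (B.conj p s) * m (B.conj p s) = m s + m p * Φ.lam s p := by
      have := Φ.reflect B h4 hmV hc
      simpa [Frame.tv, Frame.R, hm] using this
    have e2 : Φ.lam s (B.conj p s) * m' (B.conj p s) = m' s + m' p * Φ.lam s p := by
      have := Φ.reflect B h4 hm'V hc
      simpa [Frame.tv, Frame.R, hm'] using this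
    obtain ⟨k1, s0, s1⟩ := hν s hs
    obtain ⟨k2, p0, p1⟩ := hν p hp
    have hY : m p * Φ.lam s p ≠ 0 := mul_ne_zero hp (Φ.lam_ne B hc)
    rw [k1, k2] at e2
    by_contra hne
    by_cases hr : m (B.conj p s) = 0
    · rw [hr, mul_zero] at e1
      rw [(hsupp _).mpr hr, mul_zero] at e2
      have : (ν s + ν p) * m s = 0 := by
        linear_combination -(ν p) * e1 - e2 - Spor.UnitTwo.add_self h4 (ν p * (m p * Φ.lam s p))
      rcases mul_eq_zero.mp this with k | k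
      · exact hne ((add_cancel_self h4).mp k)
      · exact hs k
    · obtain ⟨k3, r0, r1⟩ := hν _ hr
      rw [k3] at e2
      have hcase : ν (B.conj p s) = ν s ∨ ν (B.conj p s) = ν p := by
        by_contra hno
        push Not at hno
        exact hno.2 ((two_values h4 s0 s1 r0 r1 hno.1).trans
          (two_values h4 s0 s1 p0 p1 (Ne.symm hne)).symm)
      rcases hcase with k | k <;> rw [k] at e2
      · refine hne (mul_right_cancel₀ hY ?_)
        linear_combination e2 - ν s * e1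
      · refine hne (mul_right_cancel₀ hs ?_)
        linear_combination ν p * e1 - e2
  have hall : ∀ s p : Pt D x y, m s ≠ 0 → m p ≠ 0 → ν s = ν p := by
    intro s p hs hp
    by_cases hsp : s = p
    · rw [hsp]
    by_cases hc : Commute s.1 p.1
    · obtain ⟨t, t1, t2⟩ := exists_common B hsp hc
      by_cases ht : m t = 0
      · have n1 : ¬ Commute (B.conj t p).1 p.1 := fun k => noncomm_conj_right B t1 k.symm
        have n2 : ¬ Commute s.1 (B.conj t p).1 := fun k => by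
          rw [B.conj_val, braid B.h.1 t.2.1.1 p.2.1.1 fun k' => t1 k'.symm] at k
          exact noncomm_third B p.2.1.1 hc (fun k' => t2 k'.symm) k
        have hs' : m (B.conj t p) ≠ 0 := by
          intro k
          have := Φ.reflect B h4 hmV (noncomm_conj_left B (p := t) (r := p) t1)
          rw [conj_conj' B t p] at this
          simp [Frame.tv, ← hm, ht, k, hp] at this
          exact n1 ((Φ.lam_eq_zero_iff B).mp this)
        exact (hnb s _ n2 hs hs').trans (hnb _ p n1 hs' hp)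
      · exact (hnb s t (fun k => t2 k.symm) hs ht).trans (hnb t p (fun k => t1 k.symm) ht hp)
    · exact hnb s p hc hs hp
  obtain ⟨p, hp⟩ := Function.ne_iff.mp (Φ.cc_ne_zero B h4 ha h1 h2)
  refine ⟨ν p, (hν p hp).2.1, (hν p hp).2.2, funext fun s => ?_⟩
  rw [Pi.smul_apply, smul_eq_mul]
  by_cases hs : m s = 0
  · rw [hs, mul_zero]; exact (hsupp s).mpr hs
  · rw [hall p s hp hs]; exact (hν s hs).1

omit B h4 in
/-- The scalar. -/
noncomputable def Frame.nu (Φ : Frame F D x y) (a : G) : F := by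
  classical exact if Commute a y then 0 else if Commute a (zz x y) then 1 else
    if h : ∃ ν : F, Φ.cc (zz x y * a * zz x y) = ν • Φ.cc a then h.choose else 0

omit B h4 in
theorem Frame.nu_of_y {a : G} (h : Commute a y) : Φ.nu a = 0 := by simp [Frame.nu, h]

omit h4 in
theorem Frame.nu_of_zz {a : G} (ha : a ∈ apart D x) (h : Commute a (zz x y)) : Φ.nu a = 1 := by
  have : ¬ Commute a y := fun k => not_comm_y_zz B ha k h
  simp [Frame.nu, h, this]

theorem Frame.nu_eq {a : G} (ha : a ∈ apart D x) (h1 : ¬ Commute a y)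
    (h2 : ¬ Commute a (zz x y)) {c : F}
    (h : Φ.cc (zz x y * a * zz x y) = c • Φ.cc a) : Φ.nu a = c := by
  simp only [Frame.nu, if_neg h1, if_neg h2]
  rw [dif_pos ⟨c, h⟩]
  generalize_proofs hex
  exact smul_left_injective F (Φ.cc_ne_zero B h4 ha h1 h2) (hex.choose_spec.symm.trans h)

theorem Frame.nu_generic {a : G} (ha : a ∈ apart D x) (h1 : ¬ Commute a y)
    (h2 : ¬ Commute a (zz x y)) : Φ.nu a ≠ 0 ∧ Φ.nu a ≠ 1 := by
  obtain ⟨ν, n0, n1, e⟩ := Φ.exists_nu B h4 ha h1 h2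
  rw [Φ.nu_eq B h4 ha h1 h2 e]
  exact ⟨n0, n1⟩

theorem Frame.nu_zero_iff {a : G} (ha : a ∈ apart D x) : Φ.nu a = 0 ↔ Commute a y := by
  refine ⟨fun h => by_contra fun k => ?_, Φ.nu_of_y⟩
  by_cases k2 : Commute a (zz x y)
  · rw [Φ.nu_of_zz B ha k2] at h; exact one_ne_zero h
  · exact (Φ.nu_generic B h4 ha k k2).1 h

theorem Frame.nu_one_iff {a : G} (ha : a ∈ apart D x) :
    Φ.nu a = 1 ↔ Commute a (zz x y) := by
  refine ⟨fun h => by_contra fun k => ?_, Φ.nu_of_zz B ha⟩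
  by_cases k1 : Commute a y
  · rw [Φ.nu_of_y k1] at h; exact zero_ne_one h
  · exact (Φ.nu_generic B h4 ha k1 k).2 h

theorem Frame.nu_spec {a : G} (ha : a ∈ apart D x) (h1 : ¬ Commute a y) :
    Φ.cc (zz x y * a * zz x y) = Φ.nu a • Φ.cc a := by
  by_cases h2 : Commute a (zz x y)
  · rw [Φ.nu_of_zz B ha h2, one_smul, h2.symm.eq, mul_assoc, zz_sq B, mul_one]
  · obtain ⟨ν, -, -, e⟩ := Φ.exists_nu B h4 ha h1 h2
    rw [Φ.nu_eq B h4 ha h1 h2 e, e]

theorem Frame.nu_zconj {a : G} (ha : a ∈ apart D x) (h1 : ¬ Commute a y) :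
    Φ.nu (zz x y * a * zz x y) = (Φ.nu a)⁻¹ := by
  by_cases h2 : Commute a (zz x y)
  · rw [h2.symm.eq, mul_assoc, zz_sq B, mul_one, Φ.nu_of_zz B ha h2, inv_one]
  refine Φ.nu_eq B h4 (zconj_apart B ha h1) (fun k => ha.2 ?_) (fun k => h2 ?_) ?_
  · have := (comm_conj B (zz_sq B)).mp k
    rwa [zz_y B] at this
  · have := (comm_conj B (zz_sq B)).mp k
    rwa [zz_sq B, one_mul] at this
  · rw [zz_zz B, Φ.nu_spec B h4 ha h1, smul_smul,
      inv_mul_cancel₀ (Φ.nu_generic B h4 ha h1 h2).1, one_smul]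

theorem Frame.nu_trace {a : G} (ha : a ∈ apart D x) :
    Φ.nu a + bar h4 (Φ.nu a) = Φ.hh h4 (Φ.cc a) (Φ.cc a) := by
  by_cases h1 : Commute a y
  · rw [Φ.nu_of_y h1, map_zero, add_zero, (Φ.iso_iff B h4 ha).mpr (Or.inl h1)]
  by_cases h2 : Commute a (zz x y)
  · rw [Φ.nu_of_zz B ha h2, map_one, Spor.UnitTwo.add_self h4,
      (Φ.iso_iff B h4 ha).mpr (Or.inr h2)]
  obtain ⟨n0, n1⟩ := Φ.nu_generic B h4 ha h1 h2
  rw [Φ.norm_one_of B h4 ha h1 h2, bar_apply,
    fourth h4 one_ne_zero n0 (Ne.symm n1) (mul_ne_zero n0 n0)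
      (fun e => n1 (by have := cube_eq_one h4 n0; rwa [e, one_mul] at this))
      (fun e => n1 (mul_left_cancel₀ n0 (e.trans (mul_one _).symm))),
    add_comm (1 : F), ← add_assoc, Spor.UnitTwo.add_self h4, zero_add]

theorem Frame.four_conj {p : Pt D x y} {u v : F} (hu : u ≠ 0) (hv : v ≠ 0) (huv : u ≠ v) :
    Φ.κ p u * (zz x y * Φ.κ p v * zz x y) * Φ.κ p u = Φ.κ p (u + v) * y * Φ.κ p (u + v) := by
  have h := B.h
  have hne : ∀ w, w ≠ 0 → Φ.κ p w ≠ p.1 := fun w hw e => hw (Φ.inj p (e.trans (Φ.zero p).symm))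
  obtain ⟨g1, g2, g3, g4, -⟩ := star_quad B.C B.hx p.2.1 (Φ.mem p u) (Φ.mem p v) (hne u hu)
    (hne v hv) (fun e => huv (Φ.inj p e)) B.hy p.2.2
  have hq := quint_comm B.C B.hx (Φ.memP B p u).1 (Φ.memP B p v).1 B.hy.1 (Φ.memP B p u).2.2
    (Φ.memP B p v).2.2 (line_pair B.hx p.2.1 (Φ.mem p u).1 (Φ.mem p v).1) B.hy.2
    (Φ.not_comm_y B hu) (Φ.not_comm_y B hv)
  obtain ⟨t, ht⟩ := Φ.surj p _ g1
  have hts : t = u + v := fourth h4 hu hv huv (fun e => g4 (by rw [← ht, e, Φ.zero]))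
    (fun e => g2 (by rw [← ht, e])) (fun e => g3 (by rw [← ht, e]))
  rw [← ht, hts] at hq
  rw [Φ.zconj_kappa B hv]
  set U := Φ.κ p u
  set V := Φ.κ p v
  set T := Φ.κ p (u + v)
  have hxU : Commute x U := (Φ.memP B p u).2.2
  have hxV : Commute x V := (Φ.memP B p v).2.2
  have hUV : Commute U V := line_pair B.hx p.2.1 (Φ.mem p u).1 (Φ.mem p v).1
  have eU := dsq h.1 (Φ.memP B p u).1
  have eV := dsq h.1 (Φ.memP B p v).1
  have eT := dsq h.1 (Φ.memP B p (u + v)).1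
  set W := x * U * V
  have hW : W * W = 1 := sq_mul (sq_mul (dsq h.1 B.hx) eU hxU) eV (hxV.mul_left hUV)
  have hW1 : U * (x * V) = W := by
    rw [← mul_assoc, ← hxU.eq]
  have hW2 : (V * x) * U = W := by
    rw [← hxV.eq, mul_assoc, hUV.symm.eq, ← mul_assoc]
  have key : y * (W * T) = W * T * y := hq.eq
  calc U * (x * V * y * V * x) * U = (U * (x * V)) * y * ((V * x) * U) := by simp only [mul_assoc]
    _ = W * y * W := by rw [hW1, hW2]
    _ = W * (y * (W * T)) * T := by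
        simp only [mul_assoc]; rw [eT, mul_one]
    _ = W * W * T * y * T := by rw [key]; simp only [mul_assoc]
    _ = T * y * T := by rw [hW, one_mul]

/-- The criterion against the members seeing `y`. -/
theorem Frame.comm_zconj_iff {a : G} (ha : a ∈ apart D x) (p : Pt D x y) {v : F} (hv : v ≠ 0) :
    Commute a (zz x y * Φ.κ p v * zz x y) ↔ Φ.nu a + bar h4 (Φ.cc a p) * v = 0 := by
  rw [← comm_conj B (zz_sq B)]
  by_cases h1 : Commute a y
  · rw [Φ.nu_of_y h1, zero_add, mul_eq_zero, or_iff_left hv, map_eq_zero]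
    by_cases hay : a = y
    · rw [hay, Φ.cc_y B, zz_y B]
      exact ⟨fun _ => rfl, fun _ => (Φ.memP B p v).2.2⟩
    obtain ⟨r, w, hw, rfl⟩ := Φ.comm_y_cases B ha h1 hay
    rw [zz_zz B, Φ.cc_zconj B h4 hw, Pi.smul_apply, smul_eq_mul, mul_eq_zero, or_iff_right hw,
      Φ.comm_iff₂ B p r v w, Frame.R, Φ.lam_eq_zero_iff B]
    exact Commute.symm_iff
  · rw [Φ.cc_spec B (zconj_apart B ha h1) p v, Φ.nu_spec B h4 ha h1, Pi.smul_apply, smul_eq_mul,
      add_cancel_self h4]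
    have n0 : Φ.nu a ≠ 0 := fun k => h1 ((Φ.nu_zero_iff B h4 ha).mp k)
    by_cases hM : Φ.cc a p = 0
    · rw [hM, mul_zero, map_zero, zero_mul]
      exact ⟨fun k => absurd k hv, fun k => absurd k n0⟩
    · constructor
      · intro k
        rw [k, mul_left_comm, bar_mul_self h4 hM, mul_one]
      · intro k
        rw [k, mul_comm (bar h4 _) v, mul_assoc, bar_mul_self h4 hM, mul_one]

theorem Frame.cc_yconj {a : G} (ha : a ∈ apart D x) (h1 : ¬ Commute a y)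
    (h2 : ¬ Commute a (zz x y)) :
    y * a * y ∈ apart D x ∧ Φ.cc (y * a * y) = (Φ.nu a + 1) • Φ.cc a := by
  have hyy := dsq B.h.1 B.hy.1
  have hA : y * a * y ∈ apart D x := ⟨conj'_mem B.h B.hy.1 ha.1, fun k => h2 (by
    have := (comm_conj B hyy).mp k
    rwa [← braid_xy B] at this)⟩
  refine ⟨hA, funext fun p => ((Φ.cc_spec B hA p _).mp ?_).symm⟩
  rw [Pi.smul_apply, smul_eq_mul]
  obtain ⟨n0, n1⟩ := Φ.nu_generic B h4 ha h1 h2
  set ν := Φ.nu a
  set M := Φ.cc a p with hM'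
  by_cases hM : M = 0
  · rw [hM, mul_zero, Φ.zero]
    have h3 : Commute a p.1 := (Φ.cc_zero_iff B ha p).mp hM
    exact (p.2.2.mul_left h3).mul_left p.2.2
  have hvne : ν * M ≠ 0 := mul_ne_zero n0 hM
  have hne : M ≠ ν * M := fun e => n1 (mul_right_cancel₀ hM (e.symm.trans (one_mul M).symm))
  have c1 : Commute a (Φ.κ p M) := Φ.cc_comm B ha p
  have c2 : Commute a (zz x y * Φ.κ p (ν * M) * zz x y) :=
    (Φ.comm_zconj_iff B h4 ha p hvne).mpr (by
      rw [← hM', mul_left_comm, bar_mul_self h4 hM, mul_one, Spor.UnitTwo.add_self h4])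
  have c3 := (c1.mul_right c2).mul_right c1
  have e : M + ν * M = (ν + 1) * M := by ring
  rw [Φ.four_conj B h4 hM hvne hne, e] at c3
  have hT : (ν + 1) * M ≠ 0 := mul_ne_zero (one_add_ne h4 n1) hM
  rw [← braid B.h.1 B.hy.1 (Φ.memP B p _).1 (Φ.not_comm_y B hT), ← comm_conj B hyy] at c3
  exact c3

theorem Frame.nu_x {a : G} (ha : a ∈ apart D x) : Φ.nu (x * a * x) = Φ.nu a + 1 := by
  have hxx := dsq B.h.1 B.hx
  have hxA := x_apart B ha
  have k1 : Commute (x * a * x) y ↔ Commute a (zz x y) := comm_conj B hxx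
  have k2 : Commute (x * a * x) (zz x y) ↔ Commute a y := by rw [comm_conj B hxx, x_zz B]
  by_cases h1 : Commute a y
  · rw [Φ.nu_of_y h1, zero_add, Φ.nu_of_zz B hxA (k2.mpr h1)]
  by_cases h2 : Commute a (zz x y)
  · rw [Φ.nu_of_zz B ha h2, Φ.nu_of_y (k1.mpr h2), Spor.UnitTwo.add_self h4]
  obtain ⟨hyA, e⟩ := Φ.cc_yconj B h4 ha h1 h2
  refine Φ.nu_eq B h4 hxA (mt k1.mp h2) (mt k2.mp h1) ?_
  have e2 : zz x y * (x * a * x) * zz x y = x * (y * a * y) * x := by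
    simp [zz, mul_assoc, mul_self_mul B.h.1 B.hx]
  rw [e2, Φ.cc_x B hyA, e, Φ.cc_x B ha]

theorem Frame.nu_point {a : G} (ha : a ∈ apart D x) (p : Pt D x y) :
    Φ.nu (p.1 * a * p.1) = Φ.nu a := by
  have pp := dsq B.h.1 p.2.1.1
  have hA := point_apart B ha p
  have k1 : Commute (p.1 * a * p.1) y ↔ Commute a y := by
    rw [comm_conj B pp, p.2.2.symm.eq, mul_assoc, pp, mul_one]
  have k2 : Commute (p.1 * a * p.1) (zz x y) ↔ Commute a (zz x y) := by
    rw [comm_conj B pp, (zz_comm_pt B p).symm.eq, mul_assoc, pp, mul_one]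
  by_cases h1 : Commute a y
  · rw [Φ.nu_of_y h1, Φ.nu_of_y (k1.mpr h1)]
  by_cases h2 : Commute a (zz x y)
  · rw [Φ.nu_of_zz B ha h2, Φ.nu_of_zz B hA (k2.mpr h2)]
  refine Φ.nu_eq B h4 hA (mt k1.mp h1) (mt k2.mp h2) ?_
  have hz := zconj_apart B ha h1
  have e : zz x y * (p.1 * a * p.1) * zz x y = p.1 * (zz x y * a * zz x y) * p.1 := by
    have := (zz_comm_pt B p).eq
    calc zz x y * (p.1 * a * p.1) * zz x y
        = (zz x y * p.1) * a * (p.1 * zz x y) := by simp only [mul_assoc]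
      _ = (p.1 * zz x y) * a * (zz x y * p.1) := by rw [this]
      _ = _ := by simp only [mul_assoc]
  rw [e, Φ.cc_point B h4 hz (Φ.cc_mem B h4 hz), Φ.cc_point B h4 ha (Φ.cc_mem B h4 ha),
    Φ.nu_spec B h4 ha h1]
  funext r
  simp [Frame.tv]
  ring

theorem Frame.kappa_conj {p r : Pt D x y} (hc : ¬ Commute p.1 r.1) (v w : F) :
    Φ.κ r w * Φ.κ p v * Φ.κ r w =
      Φ.κ (B.conj r p) (Φ.lam (B.conj r p) p * (v + Φ.lam p r * w)) := by
  have h := Φ.shift B h4 r p w v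
  rw [← Φ.point_move B h4 hc, ← h, Frame.pair, mul_inv_rev, inv_eq B.h.1 r.2.1.1,
    inv_eq B.h.1 (Φ.memP B r w).1]
  simp [mul_assoc, mul_self_mul B.h.1 r.2.1.1, dsq B.h.1 r.2.1.1]

theorem Frame.comm_kappa_y {a : G} (ha : a ∈ apart D x) (p : Pt D x y) (v : F) :
    Commute (Φ.κ p v * a * Φ.κ p v) y ↔
      Φ.nu a + (bar h4 (Φ.cc a p) + bar h4 v) * v = 0 := by
  have dd := dsq B.h.1 (Φ.memP B p v).1
  by_cases hv : v = 0
  · rw [hv, mul_zero, add_zero, Φ.zero, Φ.nu_zero_iff B h4 ha,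
      comm_conj B (dsq B.h.1 p.2.1.1), p.2.2.symm.eq, mul_assoc, dsq B.h.1 p.2.1.1, mul_one]
  rw [comm_conj B dd, show Φ.κ p v * y * Φ.κ p v = x * (zz x y * Φ.κ p v * zz x y) * x by
    rw [Φ.zconj_kappa B hv]; simp [mul_assoc, mul_self_mul B.h.1 B.hx, dsq B.h.1 B.hx],
    ← comm_conj B (dsq B.h.1 B.hx), Φ.comm_zconj_iff B h4 (x_apart B ha) p hv, Φ.nu_x B h4 ha,
    Φ.cc_x B ha, add_mul, bar_mul_self h4 hv, add_assoc, add_comm (1 : F)]

theorem Frame.comm_kappa_zz {a : G} (ha : a ∈ apart D x) (p : Pt D x y) (v : F) :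
    Commute (Φ.κ p v * a * Φ.κ p v) (zz x y) ↔
      Φ.nu a + (bar h4 (Φ.cc a p) + bar h4 v) * v = 1 := by
  have dd := dsq B.h.1 (Φ.memP B p v).1
  by_cases hv : v = 0
  · rw [hv, mul_zero, add_zero, Φ.zero, Φ.nu_one_iff B h4 ha,
      comm_conj B (dsq B.h.1 p.2.1.1), (zz_comm_pt B p).symm.eq, mul_assoc, dsq B.h.1 p.2.1.1,
      mul_one]
  rw [comm_conj B dd,
    ← braid B.h.1 (zz_mem B) (Φ.memP B p v).1 (Φ.not_comm_zz B hv),
    Φ.comm_zconj_iff B h4 ha p hv, add_mul, bar_mul_self h4 hv, ← add_assoc, add_eq_right]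

theorem Frame.nu_kappa_support {a : G} (ha : a ∈ apart D x) (p : Pt D x y) {v : F} (hv : v ≠ 0)
    (hM : Φ.cc a p ≠ 0) :
    Φ.nu (Φ.κ p v * a * Φ.κ p v) = Φ.nu a + (bar h4 (Φ.cc a p) + bar h4 v) * v := by
  set d := Φ.κ p v with hd
  have dd := dsq B.h.1 (Φ.memP B p v).1
  have hb := perp_apart B (Φ.memP B p v) ha
  by_cases h1 : Commute (d * a * d) y
  · rw [Φ.nu_of_y h1, (Φ.comm_kappa_y B h4 ha p v).mp h1]
  by_cases h2 : Commute (d * a * d) (zz x y)
  · rw [Φ.nu_of_zz B hb h2, (Φ.comm_kappa_zz B h4 ha p v).mp h2]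
  obtain ⟨g0, g1⟩ := Φ.nu_generic B h4 hb h1 h2
  set g := Φ.nu (d * a * d) with hg
  set M := Φ.cc a p with hMd
  have hbp : Φ.cc (d * a * d) p = M := by
    rw [Φ.cc_perp B h4 ha]; simp [Frame.R, Φ.lam_self B, hMd]
  have hgM : g * M ≠ 0 := mul_ne_zero g0 hM
  have c : Commute a (d * (zz x y * Φ.κ p (g * M) * zz x y) * d) := by
    rw [← comm_conj B dd]
    exact (Φ.comm_zconj_iff B h4 hb p hgM).mpr (by
      rw [hbp, ← hg, mul_left_comm, bar_mul_self h4 hM, mul_one, Spor.UnitTwo.add_self h4])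
  by_cases heq : g * M = v
  · rw [heq, ← hd, braid B.h.1 (zz_mem B) (Φ.memP B p v).1 (Φ.not_comm_zz B hv)] at c
    have dd' : d * d = 1 := dd
    have hz : Commute a (zz x y) := by
      simpa [← hd, mul_assoc, mul_self_mul B.h.1 (hd.symm ▸ (Φ.memP B p v).1 : d ∈ D), dd', mul_one] using c
    rw [Φ.nu_of_zz B ha hz, add_mul, bar_mul_self h4 hv, add_left_comm,
      Spor.UnitTwo.add_self h4, add_zero]
    rw [← heq, mul_left_comm, bar_mul_self h4 hM, mul_one]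
  · have ht : v + g * M ≠ 0 := fun e => heq ((add_cancel_self h4).mp e).symm
    rw [hd, Φ.four_conj B h4 hv hgM (Ne.symm heq),
      ← comm_conj B (dsq B.h.1 (Φ.memP B p (v + g * M)).1), Φ.comm_kappa_y B h4 ha,
      ← hMd, add_mul, bar_mul_self h4 ht, mul_add, mul_left_comm, bar_mul_self h4 hM, mul_one] at c
    rw [add_mul, bar_mul_self h4 hv]
    refine ((add_cancel_self h4).mp ?_).symm
    linear_combination c

theorem Frame.nu_kappa_far {a : G} (ha : a ∈ apart D x) (p : Pt D x y) {v : F} (hv : v ≠ 0)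
    (hM : Φ.cc a p = 0) (h1 : ¬ Commute (Φ.κ p v * a * Φ.κ p v) y)
    (h2 : ¬ Commute (Φ.κ p v * a * Φ.κ p v) (zz x y)) {r : Pt D x y} (hr : Φ.cc a r ≠ 0)
    (hrp : Commute r.1 p.1) : Φ.nu (Φ.κ p v * a * Φ.κ p v) = Φ.nu a + 1 := by
  set d := Φ.κ p v with hd
  have dd := dsq B.h.1 (Φ.memP B p v).1
  have hb := perp_apart B (Φ.memP B p v) ha
  obtain ⟨g0, -⟩ := Φ.nu_generic B h4 hb h1 h2
  set g := Φ.nu (d * a * d) with hg
  set M := Φ.cc a r with hMr
  have hbr : Φ.cc (d * a * d) r = M := by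
    rw [Φ.cc_perp B h4 ha]; simp [Frame.R, Φ.lam_comm B hrp, hMr]
  have hgM : g * M ≠ 0 := mul_ne_zero g0 hr
  set i := zz x y * Φ.κ r (g * M) * zz x y with hi
  set w := d * i * d with hw
  obtain ⟨hiA, -⟩ := Φ.zconj_kappa_apart B (p := r) hgM
  have hwA : w ∈ apart D x := perp_apart B (Φ.memP B p v) hiA
  have c : Commute a w := by
    rw [hw, ← comm_conj B dd]
    exact (Φ.comm_zconj_iff B h4 hb r hgM).mpr (by
      rw [hbr, ← hg, mul_left_comm, bar_mul_self h4 hr, mul_one, Spor.UnitTwo.add_self h4])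
  have hccw : Φ.cc w = (g * M) • Φ.R r + v • Φ.R p := by
    rw [hw, Φ.cc_perp B h4 hiA, Φ.cc_zconj B h4 hgM]
    simp [Frame.R, Φ.lam_comm B hrp.symm]
  have hwz : Commute w (zz x y) := by
    rw [hw, comm_conj B dd, ← braid B.h.1 (zz_mem B) (Φ.memP B p v).1 (Φ.not_comm_zz B hv), hi,
      comm_conj B (zz_sq B), zz_zz B]
    exact (Φ.comm_iff₂ B p r v (g * M)).mpr hrp
  have hxw := x_apart B hwA
  have hxwy : Commute (x * w * x) y := by rw [comm_conj B (dsq B.h.1 B.hx)]; exact hwz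
  have hne : x * w * x ≠ y := by
    intro e
    have h0 : (g * M) • Φ.R r + v • Φ.R p = 0 := by
      rw [← hccw, ← Φ.cc_x B hwA, e, Φ.cc_y B]
    have e2 : Φ.R r = ((g * M)⁻¹ * v) • Φ.R p := funext fun s => by
      have := congrFun h0 s
      simp only [Pi.add_apply, Pi.smul_apply, smul_eq_mul, Pi.zero_apply, add_cancel_self h4] at this ⊢
      rw [mul_assoc, ← this, ← mul_assoc, inv_mul_cancel₀ hgM, one_mul]
    exact hr (by rw [hMr, Φ.pt_eq_of_R B h4 (mul_ne_zero (inv_ne_zero hgM) hv) e2]; exact hM)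
  obtain ⟨r', w', hw', e⟩ := Φ.comm_y_cases B hxw hxwy hne
  have hccw' : Φ.cc w = w' • Φ.R r' := by rw [← Φ.cc_x B hwA, e, Φ.cc_zconj B h4 hw']
  have c' : Commute (x * a * x) (x * w * x) := by
    have := (commute_conj_iff x a w).mpr c
    rwa [inv_eq B.h.1 B.hx] at this
  rw [e, Φ.comm_zconj_iff B h4 (x_apart B ha) r' hw', Φ.nu_x B h4 ha, Φ.cc_x B ha,
    add_cancel_self h4] at c'
  have hmV := Φ.cc_mem B h4 ha
  have e1 : Φ.hh h4 (Φ.cc a) (Φ.cc w) = bar h4 w' * Φ.cc a r' := by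
    rw [hccw', Φ.hh_smul_right B h4 hmV _ (Φ.R_mem r'), Φ.hh_R B h4 hmV]
  have e2 : Φ.hh h4 (Φ.cc a) (Φ.cc w) = bar h4 g := by
    rw [hccw, Φ.hh_add_right B h4 hmV (Submodule.smul_mem _ _ (Φ.R_mem r))
        (Submodule.smul_mem _ _ (Φ.R_mem p)),
      Φ.hh_smul_right B h4 hmV _ (Φ.R_mem r), Φ.hh_smul_right B h4 hmV _ (Φ.R_mem p),
      Φ.hh_R B h4 hmV, Φ.hh_R B h4 hmV, hM, mul_zero, add_zero, ← hMr, map_mul, mul_assoc,
      bar_mul_self h4 hr, mul_one]
  have e3 := congrArg (bar h4) (e1.symm.trans e2)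
  rw [map_mul, bar_bar h4, bar_bar h4, mul_comm] at e3
  rw [c', e3]

theorem Frame.exists_both {m : Pt D x y → F} (hm : m ∈ Φ.V0) (hm0 : m ≠ 0) (p : Pt D x y)
    (hmp : m p = 0) {v : F} (hv : v ≠ 0) (hm' : m + v • Φ.R p ≠ 0)
    (hfar : ∀ r : Pt D x y, m r ≠ 0 → ¬ Commute r.1 p.1) :
    ∃ r, m r ≠ 0 ∧ (m + v • Φ.R p) r ≠ 0 := by
  by_contra hno
  push Not at hno
  set m' := m + v • Φ.R p with hm'e
  have hm'V : m' ∈ Φ.V0 := add_mem hm (Submodule.smul_mem _ _ (Φ.R_mem p))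
  obtain ⟨r, hr⟩ := Function.ne_iff.mp hm0
  obtain ⟨t, ht⟩ := Function.ne_iff.mp hm'
  simp only [Pi.zero_apply] at hr ht
  have ht0 : m t = 0 := by_contra fun k => ht (hno t k)
  have htp : ¬ Commute t.1 p.1 := fun k => ht (by simp [m', ht0, Frame.R, Φ.lam_comm B k])
  -- a point of the first support commutes with `t`
  have step : ∀ s, m s ≠ 0 → Commute t.1 s.1 := by
    intro s hs
    by_contra hc
    have e1 : Φ.lam t (B.conj s t) * m (B.conj s t) = m s * Φ.lam t s := by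
      have := Φ.reflect B h4 hm (p := s) (s := t) hc
      simpa [Frame.tv, Frame.R, ht0] using this
    have e2 : Φ.lam t (B.conj s t) * m' (B.conj s t) = m' t := by
      have := Φ.reflect B h4 hm'V (p := s) (s := t) hc
      simpa [Frame.tv, hno s hs] using this
    have k1 : m (B.conj s t) ≠ 0 := fun k => by
      rw [k, mul_zero] at e1
      exact mul_ne_zero hs (Φ.lam_ne B hc) e1.symm
    rw [hno _ k1, mul_zero] at e2
    exact ht e2.symm
  have hrp := hfar r hr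
  have k1 : m (B.conj p r) ≠ 0 := fun k => by
    have := Φ.reflect B h4 hm (p := p) (s := r) hrp
    simp [Frame.tv, hmp, k] at this
    exact hr this.symm
  exact noncomm_third B r.2.1.1 (step r hr) htp (by
    have := step _ k1
    rwa [B.conj_val, braid B.h.1 p.2.1.1 r.2.1.1 fun k => hrp k.symm] at this)

/-- The scalar under a member around `x`. -/
theorem Frame.nu_kappa {a : G} (ha : a ∈ apart D x) (p : Pt D x y) (v : F) :
    Φ.nu (Φ.κ p v * a * Φ.κ p v) = Φ.nu a + (bar h4 (Φ.cc a p) + bar h4 v) * v := by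
  by_cases hv : v = 0
  · rw [hv, Φ.zero, Φ.nu_point B h4 ha p, mul_zero, add_zero]
  by_cases hM : Φ.cc a p ≠ 0
  · exact Φ.nu_kappa_support B h4 ha p hv hM
  rw [not_ne_iff] at hM
  have hb := perp_apart B (Φ.memP B p v) ha
  by_cases h1 : Commute (Φ.κ p v * a * Φ.κ p v) y
  · rw [Φ.nu_of_y h1, (Φ.comm_kappa_y B h4 ha p v).mp h1]
  by_cases h2 : Commute (Φ.κ p v * a * Φ.κ p v) (zz x y)
  · rw [Φ.nu_of_zz B hb h2, (Φ.comm_kappa_zz B h4 ha p v).mp h2]
  have hT : Φ.nu a + (bar h4 (Φ.cc a p) + bar h4 v) * v = Φ.nu a + 1 := by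
    rw [hM, map_zero, zero_add, bar_mul_self h4 hv]
  rw [hT]
  by_cases hex : ∃ r : Pt D x y, Φ.cc a r ≠ 0 ∧ Commute r.1 p.1
  · obtain ⟨r, hr, hrp⟩ := hex
    exact Φ.nu_kappa_far B h4 ha p hv hM h1 h2 hr hrp
  have hfar : ∀ r : Pt D x y, Φ.cc a r ≠ 0 → ¬ Commute r.1 p.1 := fun r hr k => hex ⟨r, hr, k⟩
  have a1 : ¬ Commute a y := fun k => h2 ((Φ.comm_kappa_zz B h4 ha p v).mpr (by
    rw [hT, Φ.nu_of_y k, zero_add]))
  have a2 : ¬ Commute a (zz x y) := fun k => h1 ((Φ.comm_kappa_y B h4 ha p v).mpr (by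
    rw [hT, Φ.nu_of_zz B ha k, Spor.UnitTwo.add_self h4]))
  set m := Φ.cc a with hm
  have hmV := Φ.cc_mem B h4 ha
  have hccb : Φ.cc (Φ.κ p v * a * Φ.κ p v) = m + v • Φ.R p := by
    rw [Φ.cc_perp B h4 ha, ← hm, hM, zero_add]
  obtain ⟨r, hr, hr'⟩ := Φ.exists_both B h4 hmV (Φ.cc_ne_zero B h4 ha a1 a2) p hM hv
    (hccb ▸ Φ.cc_ne_zero B h4 hb h1 h2) hfar
  have hrp := hfar r hr
  have hpr : ¬ Commute p.1 r.1 := fun k => hrp k.symm
  -- write the member as a conjugate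
  set s := B.conj r p with hs
  set c := Φ.lam s p * (v + Φ.lam p r) with hc
  set e := Φ.κ r 1 with he
  set f := Φ.κ s c with hf
  have hfe : e * Φ.κ p v * e = f := by
    rw [he, Φ.kappa_conj B h4 hpr, mul_one]
  have eP := Φ.memP B r (1 : F)
  have ee := dsq B.h.1 eP.1
  have hd : Φ.κ p v = e * f * e := by
    rw [← hfe]
    simp [e, mul_assoc, mul_self_mul B.h.1 eP.1, ee]
  set a1' := e * a * e with ha1
  have hA1 : a1' ∈ apart D x := perp_apart B eP ha
  set a2' := f * a1' * f with ha2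
  have hA2 : a2' ∈ apart D x := perp_apart B (Φ.memP B s c) hA1
  have hb' : Φ.κ p v * a * Φ.κ p v = e * a2' * e := by
    rw [hd]; simp [a1', a2', mul_assoc]
  have hsne : ¬ Commute s.1 r.1 := noncomm_conj_left B hpr
  have hm_s : m s = Φ.lam s r * m r := by
    have := Φ.reflect B h4 hmV (p := r) (s := s) hsne
    rw [conj_conj' B r p] at this
    simp [Frame.tv, Frame.R, hM, ← hm] at this
    linear_combination -this - (Spor.UnitTwo.add_self h4 (Φ.lam s r * m r)) +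
      (m r * Φ.lam s r - Φ.lam s r * m r)
  have hcc1 : Φ.cc a1' = m + (m r + 1) • Φ.R r := Φ.cc_perp B h4 ha r 1
  have h1s : Φ.cc a1' s = Φ.lam s r := by
    rw [hcc1, Pi.add_apply, Pi.smul_apply, smul_eq_mul, hm_s, Frame.R]
    linear_combination Spor.UnitTwo.add_self h4 (Φ.lam s r * m r)
  have h1r : Φ.cc a1' r = m r := by
    rw [hcc1]; simp [Frame.R, Φ.lam_self B]
  have hrow : Φ.lam r s * Φ.lam s p = Φ.lam r p := by
    have := Φ.row_third B h4 hpr r
    rwa [Φ.lam_self B, zero_mul, add_zero] at this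
  have hss : Φ.lam r s * Φ.lam s r = 1 := by
    rw [Φ.lam_symm B h4 s r]; exact bar_mul_self h4 (Φ.lam_ne B hsne)
  have h2r : Φ.cc a2' r = (m + v • Φ.R p) r := by
    rw [ha2, Φ.cc_perp B h4 hA1, Pi.add_apply, Pi.smul_apply, smul_eq_mul, h1r, h1s, Frame.R,
      Pi.add_apply, Pi.smul_apply, smul_eq_mul, Frame.R, hc]
    have hpp : Φ.lam r p * Φ.lam p r = 1 := by
      rw [Φ.lam_symm B h4 r p]; exact mul_bar h4 (Φ.lam_ne B hrp)
    linear_combination hss + (v + Φ.lam p r) * hrow + hpp + Spor.UnitTwo.add_self h4 (1 : F)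
  -- the three steps
  have n1 := Φ.nu_kappa_support B h4 ha r (v := 1) one_ne_zero hr
  have n2 : Φ.nu a2' = Φ.nu a1' + (bar h4 (Φ.cc a1' s) + bar h4 c) * c := by
    by_cases hc0 : c = 0
    · rw [ha2, hf, hc0, Φ.zero, Φ.nu_point B h4 hA1, mul_zero, add_zero]
    · exact Φ.nu_kappa_support B h4 hA1 s hc0 (by rw [h1s]; exact Φ.lam_ne B hsne)
  have n3 := Φ.nu_kappa_support B h4 hA2 r (v := 1) one_ne_zero (by rw [h2r]; exact hr')
  rw [← ha1] at n1
  rw [hb', n3, n2, n1, h1s, h2r, ← hm, Pi.add_apply, Pi.smul_apply, smul_eq_mul, Frame.R,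
    ← Φ.lam_symm B h4 s r]
  -- the field identity
  have hcc : (Φ.lam r s + bar h4 c) * c =
      Φ.lam r p * (v + Φ.lam p r) + bar h4 (v + Φ.lam p r) * (v + Φ.lam p r) := by
    have hsp : bar h4 (Φ.lam s p) * Φ.lam s p = 1 :=
      bar_mul_self h4 (Φ.lam_ne B fun k => noncomm_conj_right B hpr k.symm)
    rw [hc, map_mul]
    linear_combination (v + Φ.lam p r) * hrow +
      (bar h4 (v + Φ.lam p r) * (v + Φ.lam p r)) * hsp
  have hpp : Φ.lam r p * Φ.lam p r = 1 := by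
    rw [Φ.lam_symm B h4 r p]; exact mul_bar h4 (Φ.lam_ne B hrp)
  rw [hcc]
  simp only [map_add, map_mul, map_one, ← Φ.lam_symm B h4 p r, ← Φ.lam_symm B h4 r p]
  linear_combination bar_mul_self h4 hv + 2 * hpp +
    Spor.UnitTwo.add_self h4 (bar h4 (m r)) + Spor.UnitTwo.add_self h4 (bar h4 v * Φ.lam p r) +
    Spor.UnitTwo.add_self h4 (Φ.lam r p * v) + 2 * Spor.UnitTwo.add_self h4 (1 : F)

end Cfsg.Agent.Grp.PolarRec
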