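import Cfsg.Agent.Lib.Grp.PolarRec.Coord

/-! The hermitian space of a frame and the coordinates of the members apart from `x`. -/

set_option autoImplicit false
set_option linter.unusedSectionVars false
set_option linter.style.haveILetI false

namespace Cfsg.Agent.Grp.PolarRec

open Cfsg Cfsg.Agent.Spor.ThreeTrans
open Cfsg.Agent.Spor.ThreeTrans renaming mul_self → dsq

variable {F : Type} [Field F] [Fintype F] {G : Type*} [Group G] [Finite G] {D : Set G}

/-- The squaring map, as the conjugation of the field. -/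
noncomputable def bar (h4 : Fintype.card F = 4) : F →+* F := Classical.qFrob (Spor.UnitTwo.card_sq h4)

theorem bar_apply (h4 : Fintype.card F = 4) (a : F) : bar h4 a = a * a := by
  rw [bar, Classical.qFrob_apply, pow_two]

theorem bar_bar (h4 : Fintype.card F = 4) (a : F) : bar h4 (bar h4 a) = a :=
  Classical.qFrob_qFrob _ a

theorem mul_bar (h4 : Fintype.card F = 4) {a : F} (ha : a ≠ 0) : a * bar h4 a = 1 :=
  Spor.UnitTwo.norm_one h4 ha

theorem bar_mul_self (h4 : Fintype.card F = 4) {a : F} (ha : a ≠ 0) : bar h4 a * a = 1 := by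
  rw [mul_comm]; exact mul_bar h4 ha

noncomputable instance instFintypePt {x y : G} : Fintype (Pt D x y) := Fintype.ofFinite _

variable {x y : G} (B : Base D x y) (h4 : Fintype.card F = 4) (Φ : Frame F D x y)
include B h4

omit h4 in
theorem Frame.memP (p : Pt D x y) (v : F) : Φ.κ p v ∈ perp D x :=
  cls_perp B.C B.hx p.2.1 (Φ.mem p v)

omit h4 in
theorem Frame.comm_iff (p r : Pt D x y) (v : F) : Commute r.1 (Φ.κ p v) ↔ Commute r.1 p.1 :=
  comm_cls_iff B (Φ.mem p v) r.2.1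

omit h4 in
theorem Frame.comm_iff₂ (p r : Pt D x y) (v w : F) :
    Commute (Φ.κ r w) (Φ.κ p v) ↔ Commute r.1 p.1 := by
  rw [comm_cls_iff B (Φ.mem p v) (Φ.memP B r w), Commute.symm_iff, Frame.comm_iff B Φ r p w,
    Commute.symm_iff]

/-- The product of two mates. -/
def Frame.pair (p : Pt D x y) (v : F) : G := p.1 * Φ.κ p v

omit h4 in
theorem Frame.pair_sq (p : Pt D x y) (v : F) : Φ.pair p v * Φ.pair p v = 1 :=
  sq_mul (dsq B.h.1 p.2.1.1) (dsq B.h.1 (Φ.memP B p v).1)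
    (line_pair B.hx p.2.1 (right_mem_line p.2.1.1) (Φ.mem p v).1)

omit h4 in
theorem Frame.pair_inv (p : Pt D x y) (v : F) : (Φ.pair p v)⁻¹ = Φ.pair p v :=
  inv_eq_of_mul_eq_one_right (Φ.pair_sq B p v)

omit h4 in
theorem Frame.pair_comm_x (p : Pt D x y) (v : F) : Commute (Φ.pair p v) x :=
  p.2.1.2.2.symm.mul_left (Φ.memP B p v).2.2.symm

omit h4 in
theorem Frame.pair_zero (p : Pt D x y) : Φ.pair p 0 = 1 := by
  rw [Frame.pair, Φ.zero, dsq B.h.1 p.2.1.1]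

omit h4 in
theorem Frame.lam_comm {r p : Pt D x y} (hc : Commute r.1 p.1) : Φ.lam r p = 0 := by
  have h := Φ.move p r 1
  rw [conj_self_eq (hc.mul_right ((Φ.comm_iff B p r 1).mpr hc)).symm, mul_one] at h
  exact Φ.inj r (h.symm.trans (Φ.zero r).symm)

omit h4 in
theorem Frame.lam_self (p : Pt D x y) : Φ.lam p p = 0 := Φ.lam_comm B (Commute.refl _)

omit h4 in
theorem Frame.lam_ne {r p : Pt D x y} (hc : ¬ Commute r.1 p.1) : Φ.lam r p ≠ 0 := fun k => by
  have h := Φ.move p r 1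
  rw [k, zero_mul, Φ.zero] at h
  have hne : p.1 ≠ Φ.κ p 1 := fun e => one_ne_zero (Φ.inj p (e.symm.trans (Φ.zero p).symm))
  exact (pair_moves B.C B.hx p.2.1 (self_mem_cls p.2.1) (Φ.mem p 1) hne r.2.1 hc).2 h

omit h4 in
theorem Frame.lam_eq_zero_iff {r p : Pt D x y} : Φ.lam r p = 0 ↔ Commute r.1 p.1 :=
  ⟨fun k => by_contra fun hc => Φ.lam_ne B hc k, fun hc => Φ.lam_comm B hc⟩

theorem Frame.lam_symm (r p : Pt D x y) : Φ.lam p r = bar h4 (Φ.lam r p) := by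
  by_cases hc : Commute r.1 p.1
  · rw [Φ.lam_comm B hc, Φ.lam_comm B hc.symm, map_zero]
  have hpr : ¬ Commute p.1 r.1 := fun k => hc k.symm
  have h1 := Φ.move p r 1
  rw [pair_eq_third B hpr (Φ.mem p 1), mul_one] at h1
  have h2 := Φ.move r p (Φ.lam r p)
  rw [pair_eq_third B hc (Φ.mem r _), ← h1, ← braid B.h.1 p.2.1.1 r.2.1.1 hpr] at h2
  have e : p.1 * r.1 * p.1 * (p.1 * r.1 * p.1) = 1 := dsq B.h.1 (B.conj p r).2.1.1
  have h3 : p.1 * r.1 * p.1 * (p.1 * r.1 * p.1 * Φ.κ p 1 * (p.1 * r.1 * p.1)) * (p.1 * r.1 * p.1)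
      = Φ.κ p 1 := by
    generalize p.1 * r.1 * p.1 = t at e ⊢
    calc t * (t * Φ.κ p 1 * t) * t = t * t * Φ.κ p 1 * (t * t) := by simp only [mul_assoc]
      _ = Φ.κ p 1 := by rw [e, one_mul, mul_one]
  rw [h3] at h2
  have h5 := Φ.inj p h2
  calc Φ.lam p r = Φ.lam p r * (Φ.lam r p * bar h4 (Φ.lam r p)) := by
        rw [mul_bar h4 (Φ.lam_ne B hc), mul_one]
    _ = _ := by rw [← mul_assoc, ← h5, one_mul]

/-- A pair of mates translates every class. -/
theorem Frame.shift (p r : Pt D x y) (v w : F) :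
    Φ.pair p v * Φ.κ r w * (Φ.pair p v)⁻¹ = Φ.κ r (w + Φ.lam r p * v) := by
  by_cases hv : v = 0
  · rw [hv, Φ.pair_zero B, mul_zero, add_zero]; simp
  by_cases hc : Commute r.1 p.1
  · rw [Φ.lam_comm B hc, zero_mul, add_zero, conj_self_eq]
    have h1 : Commute (Φ.κ r w) p.1 := by
      have := (Φ.comm_iff₂ B p r 0 w).mpr hc
      rwa [Φ.zero] at this
    exact (h1.mul_right ((Φ.comm_iff₂ B p r v w).mpr hc)).symm
  set δ := Φ.lam r p * v with hδ
  have hδ0 : δ ≠ 0 := mul_ne_zero (Φ.lam_ne B hc) hv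
  have hne : p.1 ≠ Φ.κ p v := fun e => hv (Φ.inj p (e.symm.trans (Φ.zero p).symm))
  have hnc : ∀ z, ¬ Commute (Φ.κ r z) p.1 := fun z k => hc (by
    have := Φ.comm_iff₂ B p r 0 z
    rw [Φ.zero] at this
    exact this.mp k)
  have hex : ∀ z, ∃ z', z' ≠ z ∧ Φ.pair p v * Φ.κ r z * (Φ.pair p v)⁻¹ = Φ.κ r z' := fun z => by
    obtain ⟨h1, h2⟩ := pair_moves B.C B.hx p.2.1 (self_mem_cls p.2.1) (Φ.mem p v) hne
      (Φ.memP B r z) (hnc z)
    rw [cls_eq B.C B.hx r.2.1 (Φ.mem r z)] at h1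
    obtain ⟨z', hz'⟩ := Φ.surj r _ h1
    exact ⟨z', fun k => h2 (by rw [← hz', k]), hz'.symm⟩
  choose g hg hg' using hex
  have h0 : g 0 = δ := Φ.inj r (by rw [← hg', Φ.zero]; exact Φ.move p r v)
  have hinv : ∀ z, g (g z) = z := fun z => Φ.inj r (by
    rw [← hg', ← hg', Φ.pair_inv B]
    calc Φ.pair p v * (Φ.pair p v * Φ.κ r z * Φ.pair p v) * Φ.pair p v
        = Φ.pair p v * Φ.pair p v * Φ.κ r z * (Φ.pair p v * Φ.pair p v) := by simp only [mul_assoc]
      _ = _ := by rw [Φ.pair_sq B, one_mul, mul_one])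
  rw [hg']
  congr 1
  by_cases hw0 : w = 0
  · rw [hw0, h0, zero_add]
  by_cases hwδ : w = δ
  · rw [hwδ, ← h0, hinv, h0, Spor.UnitTwo.add_self h4]
  exact fourth h4 hw0 hδ0 hwδ (fun k => hwδ (by rw [← hinv w, k, h0]))
    (hg w) (fun k => hw0 (by
      have := congrArg g k
      rwa [hinv, ← h0, hinv] at this))

theorem Frame.point_move_comm {p r : Pt D x y} (hc : Commute r.1 p.1) (w : F) :
    p.1 * Φ.κ r w * p.1 = Φ.κ r w := by
  have : Commute p.1 (Φ.κ r w) := (Φ.comm_iff B r p w).mpr hc.symm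
  rw [this.eq, mul_assoc, dsq B.h.1 p.2.1.1, mul_one]

omit h4 in
theorem conj_conj' (p r : Pt D x y) : B.conj p (B.conj p r) = r := Subtype.ext (by
  show p.1 * (p.1 * r.1 * p.1) * p.1 = r.1
  simp [mul_assoc, mul_self_mul B.h.1 p.2.1.1, dsq B.h.1 p.2.1.1])

omit h4 in
theorem noncomm_conj_left {p r : Pt D x y} (hc : ¬ Commute r.1 p.1) :
    ¬ Commute (B.conj p r).1 p.1 := fun k => hc (by
  have h2 : Commute (p.1 * (p.1 * r.1 * p.1) * p.1) p.1 :=
    ((Commute.refl p.1).mul_left k).mul_left (Commute.refl p.1)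
  simpa [mul_assoc, mul_self_mul B.h.1 p.2.1.1, dsq B.h.1 p.2.1.1] using h2)

omit h4 in
theorem noncomm_conj_right {p r : Pt D x y} (hc : ¬ Commute r.1 p.1) :
    ¬ Commute r.1 (B.conj p r).1 := fun k => hc (by
  rw [B.conj_val, braid B.h.1 p.2.1.1 r.2.1.1 fun k' => hc k'.symm] at k
  have h2 : Commute r.1 (r.1 * (r.1 * p.1 * r.1) * r.1) :=
    ((Commute.refl _).mul_right k).mul_right (Commute.refl _)
  simpa [mul_assoc, mul_self_mul B.h.1 r.2.1.1, dsq B.h.1 r.2.1.1] using h2)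

theorem Frame.point_move {p r : Pt D x y} (hc : ¬ Commute r.1 p.1) (w : F) :
    p.1 * Φ.κ r w * p.1 = Φ.κ (B.conj p r) (Φ.lam (B.conj p r) r * w) := by
  have h1 := Φ.move r (B.conj p r) w
  rw [pair_eq_third B (noncomm_conj_right B hc) (Φ.mem r w)] at h1
  rw [← h1]
  have e : r.1 * (B.conj p r).1 * r.1 = p.1 := by
    rw [B.conj_val, braid B.h.1 p.2.1.1 r.2.1.1 fun k => hc k.symm]
    simp [mul_assoc, mul_self_mul B.h.1 r.2.1.1, dsq B.h.1 r.2.1.1]
  rw [e]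

/-- Rows of the third point. -/
theorem Frame.row_third {p t : Pt D x y} (hpt : ¬ Commute p.1 t.1) (r : Pt D x y) :
    Φ.lam r (B.conj t p) * Φ.lam (B.conj t p) p = Φ.lam r p + Φ.lam r t * Φ.lam t p := by
  set s := B.conj t p
  have hs := Φ.point_move B h4 (p := t) hpt 1
  rw [mul_one] at hs
  set q := Φ.pair p 1 with hq
  have he : q * t.1 * q⁻¹ = Φ.κ t (Φ.lam t p) := by
    have := Φ.move p t 1
    rwa [mul_one] at this
  have hsf : Φ.pair s (Φ.lam s p) = q * Φ.pair t (Φ.lam t p) := by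
    rw [Frame.pair, Frame.pair, ← hs, ← he, Φ.pair_inv B]
    have hte : Commute t.1 (q * t.1 * q) := by
      have := line_pair B.hx t.2.1 (right_mem_line t.2.1.1) (Φ.mem t (Φ.lam t p)).1
      rwa [← he, Φ.pair_inv B] at this
    rw [hte.eq, B.conj_val]
    calc t.1 * p.1 * t.1 * (t.1 * Φ.κ p 1 * t.1) = t.1 * q * t.1 := by
          simp [q, Frame.pair, mul_assoc, mul_self_mul B.h.1 t.2.1.1]
      _ = q * q * t.1 * q * t.1 := by rw [Φ.pair_sq B, one_mul]
      _ = q * (q * t.1 * q * t.1) := by simp only [mul_assoc]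
  have h1 := Φ.shift B h4 s r (Φ.lam s p) 0
  rw [hsf, zero_add, Φ.zero,
    show q * Φ.pair t (Φ.lam t p) * r.1 * (q * Φ.pair t (Φ.lam t p))⁻¹ =
      q * (Φ.pair t (Φ.lam t p) * r.1 * (Φ.pair t (Φ.lam t p))⁻¹) * q⁻¹ by group,
    show Φ.pair t (Φ.lam t p) * r.1 * (Φ.pair t (Φ.lam t p))⁻¹ =
      Φ.κ r (Φ.lam r t * Φ.lam t p) from Φ.move t r _, Φ.shift B h4, mul_one] at h1
  rw [← Φ.inj r h1, add_comm]

/-! ### The space -/

omit B h4 in
/-- The row of a point. -/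
def Frame.R (Φ : Frame F D x y) (p : Pt D x y) : Pt D x y → F := fun r => Φ.lam r p

omit B h4 in
/-- The span map of the rows. -/
noncomputable def Frame.T (Φ : Frame F D x y) : (Pt D x y → F) →ₗ[F] (Pt D x y → F) :=
  Fintype.linearCombination F Φ.R

omit B h4 in
/-- The span of the rows. -/
noncomputable def Frame.V0 (Φ : Frame F D x y) : Submodule F (Pt D x y → F) := LinearMap.range Φ.T

omit B h4 in
theorem Frame.T_apply (c : Pt D x y → F) (r : Pt D x y) : Φ.T c r = ∑ p, c p * Φ.lam r p := by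
  simp [Frame.T, Frame.R, Fintype.linearCombination_apply, Finset.sum_apply]

omit B h4 in
theorem Frame.R_mem (p : Pt D x y) : Φ.R p ∈ Φ.V0 := by
  classical
  exact ⟨Pi.single p 1, by rw [Frame.T, Fintype.linearCombination_apply_single, one_smul]⟩

omit B h4 in
theorem Frame.V0_induction {P : (Pt D x y → F) → Prop} (h0 : P 0)
    (hadd : ∀ v w, P v → P w → P (v + w)) (hR : ∀ p (c : F), P (c • Φ.R p))
    {v : Pt D x y → F} (hv : v ∈ Φ.V0) : P v := by
  classical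
  obtain ⟨c, rfl⟩ := hv
  rw [Frame.T, Fintype.linearCombination_apply]
  exact Finset.sum_induction _ P hadd h0 fun p _ => hR p (c p)

omit B h4 in
/-- The transvection at a point. -/
def Frame.tv (Φ : Frame F D x y) (p : Pt D x y) (v : Pt D x y → F) : Pt D x y → F :=
  v + v p • Φ.R p

/-- The reflection identity in the span. -/
theorem Frame.reflect {v : Pt D x y → F} (hv : v ∈ Φ.V0) {p s : Pt D x y}
    (hc : ¬ Commute s.1 p.1) :
    Φ.lam s (B.conj p s) * v (B.conj p s) = Φ.tv p v s := by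
  refine Φ.V0_induction (P := fun v => Φ.lam s (B.conj p s) * v (B.conj p s) = Φ.tv p v s)
    (by simp [Frame.tv]) ?_ ?_ hv
  · intro v w hv hw
    simp only [Frame.tv, Pi.add_apply, Pi.smul_apply, smul_eq_mul] at hv hw ⊢
    linear_combination hv + hw
  · intro t c
    have := congrArg (bar h4) (Φ.row_third B h4 (p := s) (t := p) hc t)
    rw [map_mul, map_add, map_mul, ← Φ.lam_symm B h4, ← Φ.lam_symm B h4, ← Φ.lam_symm B h4,
      ← Φ.lam_symm B h4, ← Φ.lam_symm B h4] at this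
    simp only [Frame.tv, Frame.R, Pi.add_apply, Pi.smul_apply, smul_eq_mul]
    linear_combination c * this

omit B h4 in
/-- A chosen preimage under the span map. -/
noncomputable def Frame.coef (Φ : Frame F D x y) (w : Pt D x y → F) : Pt D x y → F :=
  Function.invFun Φ.T w

omit B h4 in
theorem Frame.T_coef {w : Pt D x y → F} (hw : w ∈ Φ.V0) : Φ.T (Φ.coef w) = w :=
  Function.invFun_eq hw

omit B h4 in
/-- The hermitian form. -/
noncomputable def Frame.hh (Φ : Frame F D x y) (h4 : Fintype.card F = 4)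
    (v w : Pt D x y → F) : F :=
  ∑ p, v p * bar h4 (Φ.coef w p)

theorem Frame.hh_rep {v : Pt D x y → F} (hv : v ∈ Φ.V0) (c : Pt D x y → F) :
    Φ.hh h4 v (Φ.T c) = ∑ p, v p * bar h4 (c p) := by
  obtain ⟨d, rfl⟩ := hv
  have key : ∀ e : Pt D x y → F, ∑ p, Φ.T d p * bar h4 (e p) = ∑ r, d r * bar h4 (Φ.T e r) := by
    intro e
    simp only [Frame.T_apply, Finset.sum_mul, map_sum, map_mul, Finset.mul_sum, ← Φ.lam_symm B h4]
    rw [Finset.sum_comm]
    refine Finset.sum_congr rfl fun r _ => Finset.sum_congr rfl fun p _ => ?_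
    ring
  rw [Frame.hh, key, key, Φ.T_coef ⟨c, rfl⟩]

theorem Frame.hh_R {v : Pt D x y → F} (hv : v ∈ Φ.V0) (p : Pt D x y) :
    Φ.hh h4 v (Φ.R p) = v p := by
  classical
  have : Φ.R p = Φ.T (Pi.single p 1) := by
    rw [Frame.T, Fintype.linearCombination_apply_single, one_smul]
  rw [this, Φ.hh_rep B h4 hv]
  simp [Pi.single_apply, apply_ite (bar h4)]

omit B in
theorem Frame.hh_add_left (u v w : Pt D x y → F) :
    Φ.hh h4 (u + v) w = Φ.hh h4 u w + Φ.hh h4 v w := by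
  simp [Frame.hh, add_mul, Finset.sum_add_distrib]

omit B in
theorem Frame.hh_smul_left (c : F) (v w : Pt D x y → F) :
    Φ.hh h4 (c • v) w = c * Φ.hh h4 v w := by
  simp [Frame.hh, Finset.mul_sum, mul_assoc]

theorem Frame.hh_add_right {v : Pt D x y → F} (hv : v ∈ Φ.V0) {u w : Pt D x y → F}
    (hu : u ∈ Φ.V0) (hw : w ∈ Φ.V0) : Φ.hh h4 v (u + w) = Φ.hh h4 v u + Φ.hh h4 v w := by
  obtain ⟨a, rfl⟩ := hu
  obtain ⟨b, rfl⟩ := hw
  rw [← map_add, Φ.hh_rep B h4 hv, Φ.hh_rep B h4 hv, Φ.hh_rep B h4 hv]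
  simp [mul_add, Finset.sum_add_distrib]

theorem Frame.hh_smul_right {v : Pt D x y → F} (hv : v ∈ Φ.V0) (c : F) {w : Pt D x y → F}
    (hw : w ∈ Φ.V0) : Φ.hh h4 v (c • w) = bar h4 c * Φ.hh h4 v w := by
  obtain ⟨a, rfl⟩ := hw
  rw [← map_smul, Φ.hh_rep B h4 hv, Φ.hh_rep B h4 hv, Finset.mul_sum]
  simp [mul_left_comm]

theorem Frame.hh_swap {v w : Pt D x y → F} (hv : v ∈ Φ.V0) (hw : w ∈ Φ.V0) :
    bar h4 (Φ.hh h4 v w) = Φ.hh h4 w v := by
  refine Φ.V0_induction (P := fun v => v ∈ Φ.V0 ∧ bar h4 (Φ.hh h4 v w) = Φ.hh h4 w v) ?_ ?_ ?_ hv |>.2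
  · refine ⟨zero_mem _, ?_⟩
    have h0 := Φ.hh_smul_right B h4 hw 0 hw
    rw [zero_smul, map_zero, zero_mul] at h0
    rw [h0]
    simp [Frame.hh]
  · rintro a b ⟨ha, ea⟩ ⟨hb, eb⟩
    exact ⟨add_mem ha hb, by rw [Φ.hh_add_left h4, map_add, ea, eb, Φ.hh_add_right B h4 hw ha hb]⟩
  · intro p c
    refine ⟨Submodule.smul_mem _ c (Φ.R_mem p), ?_⟩
    rw [Φ.hh_smul_left h4, map_mul, Φ.hh_smul_right B h4 hw c (Φ.R_mem p), Φ.hh_R B h4 hw p]
    congr 1
    -- both sides are the coordinate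
    obtain ⟨d, rfl⟩ := hw
    rw [Φ.hh_rep B h4 (Φ.R_mem p), map_sum, Φ.T_apply]
    simp [Frame.R, mul_comm, bar_bar h4, ← Φ.lam_symm B h4]

theorem Frame.hh_nondeg {v : Pt D x y → F} (hv : v ∈ Φ.V0) (h : ∀ w ∈ Φ.V0, Φ.hh h4 v w = 0) :
    v = 0 := funext fun p => by rw [← Φ.hh_R B h4 hv p]; exact h _ (Φ.R_mem p)

/-! ### Coordinates of the members apart from `x` -/

omit B h4 in
/-- The coordinates of a member apart from `x`. -/
noncomputable def Frame.cc (Φ : Frame F D x y) (a : G) (p : Pt D x y) : F := by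
  classical exact if h : ∃ v, Commute a (Φ.κ p v) then h.choose else 0

omit h4 in
theorem Frame.cc_spec {a : G} (ha : a ∈ apart D x) (p : Pt D x y) (v : F) :
    Commute a (Φ.κ p v) ↔ v = Φ.cc a p := by
  obtain ⟨u, ⟨hu, hau⟩, huniq⟩ := exists_unique_cls B.C B.hx p.2.1 ha
  obtain ⟨w, hw⟩ := Φ.surj p u hu
  have hex : ∃ v, Commute a (Φ.κ p v) := ⟨w, hw.symm ▸ hau⟩
  have hall : ∀ v, Commute a (Φ.κ p v) → v = w := fun v k =>
    Φ.inj p (by rw [hw]; exact huniq _ ⟨Φ.mem p v, k⟩)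
  have e : Φ.cc a p = w := by
    rw [Frame.cc, dif_pos hex]; exact hall _ hex.choose_spec
  rw [e]
  exact ⟨hall v, fun k => k ▸ hw.symm ▸ hau⟩

omit h4 in
theorem Frame.cc_comm {a : G} (ha : a ∈ apart D x) (p : Pt D x y) :
    Commute a (Φ.κ p (Φ.cc a p)) := (Φ.cc_spec B ha p _).mpr rfl

omit h4 in
theorem Frame.cc_y : Φ.cc y = 0 := funext fun p =>
  ((Φ.cc_spec B B.hy p 0).mp (by rw [Φ.zero]; exact p.2.2)).symm

omit h4 in
theorem x_apart {a : G} (ha : a ∈ apart D x) : x * a * x ∈ apart D x := by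
  have := apart_conj B.h (Commute.refl x) ha
  rwa [inv_eq B.h.1 B.hx] at this

omit h4 in
theorem Frame.cc_x {a : G} (ha : a ∈ apart D x) : Φ.cc (x * a * x) = Φ.cc a := funext fun p => by
  refine ((Φ.cc_spec B (x_apart B ha) p _).mp ?_).symm
  have h := (Φ.memP B p (Φ.cc a p)).2.2.symm
  exact ((h.mul_right (Φ.cc_comm B ha p).symm).mul_right h).symm

theorem Frame.cc_pair {a : G} (ha : a ∈ apart D x) (p : Pt D x y) (v : F) :
    Φ.pair p v * a * (Φ.pair p v)⁻¹ ∈ apart D x ∧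
      Φ.cc (Φ.pair p v * a * (Φ.pair p v)⁻¹) = Φ.cc a + v • Φ.R p := by
  have hA := apart_conj B.h (Φ.pair_comm_x B p v) ha
  refine ⟨hA, funext fun r => ((Φ.cc_spec B hA r _).mp ?_).symm⟩
  rw [Pi.add_apply, Pi.smul_apply, smul_eq_mul, Frame.R, mul_comm v, ← Φ.shift B h4,
    commute_conj_iff]
  exact Φ.cc_comm B ha r

omit h4 in
theorem point_apart {a : G} (ha : a ∈ apart D x) (p : Pt D x y) : p.1 * a * p.1 ∈ apart D x := by
  have := apart_conj B.h p.2.1.2.2.symm ha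
  rwa [inv_eq B.h.1 p.2.1.1] at this

/-- A point acts on coordinates as its transvection, once they lie in the span. -/
theorem Frame.cc_point {a : G} (ha : a ∈ apart D x) (hm : Φ.cc a ∈ Φ.V0) (p : Pt D x y) :
    Φ.cc (p.1 * a * p.1) = Φ.tv p (Φ.cc a) := funext fun s => by
  refine ((Φ.cc_spec B (point_apart B ha p) s _).mp ?_).symm
  by_cases hc : Commute s.1 p.1
  · have : Φ.tv p (Φ.cc a) s = Φ.cc a s := by
      simp [Frame.tv, Frame.R, Φ.lam_comm B hc]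
    rw [this]
    have h1 : Commute p.1 (Φ.κ s (Φ.cc a s)) := (Φ.comm_iff B s p _).mpr hc.symm
    exact ((h1.mul_left (Φ.cc_comm B ha s)).mul_left h1)
  · have e := Φ.point_move B h4 (r := B.conj p s) (p := p) (noncomm_conj_left B hc)
      (Φ.cc a (B.conj p s))
    rw [conj_conj' B p s, Φ.reflect B h4 hm hc] at e
    rw [← e]
    have := (commute_conj_iff p.1 a (Φ.κ (B.conj p s) (Φ.cc a (B.conj p s)))).mpr
      (Φ.cc_comm B ha _)
    rwa [inv_eq B.h.1 p.2.1.1] at this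

omit h4 in
theorem perp_apart {a d : G} (hd : d ∈ perp D x) (ha : a ∈ apart D x) : d * a * d ∈ apart D x := by
  have := apart_conj B.h hd.2.2.symm ha
  rwa [inv_eq B.h.1 hd.1] at this

theorem Frame.cc_kappa {a : G} (ha : a ∈ apart D x) (hm : Φ.cc a ∈ Φ.V0) (p : Pt D x y) (v : F) :
    Φ.cc (Φ.κ p v * a * Φ.κ p v) = Φ.cc a + (Φ.cc a p + v) • Φ.R p := by
  obtain ⟨h1, h2⟩ := Φ.cc_pair B h4 ha p v
  have e : Φ.κ p v * a * Φ.κ p v = p.1 * (Φ.pair p v * a * (Φ.pair p v)⁻¹) * p.1 := by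
    rw [Frame.pair, mul_inv_rev, inv_eq B.h.1 p.2.1.1, inv_eq B.h.1 (Φ.memP B p v).1]
    simp [mul_assoc, mul_self_mul B.h.1 p.2.1.1, dsq B.h.1 p.2.1.1]
  have hm' : Φ.cc a + v • Φ.R p ∈ Φ.V0 := add_mem hm (Submodule.smul_mem _ v (Φ.R_mem p))
  rw [e, Φ.cc_point B h4 h1 (h2.symm ▸ hm') p, h2, Frame.tv]
  funext r
  simp [Frame.R, Φ.lam_self B]
  ring

theorem Frame.cc_mem {a : G} (ha : a ∈ apart D x) : Φ.cc a ∈ Φ.V0 := by
  obtain ⟨g, hg, rfl⟩ := transitive_apart B.C.H B.hx B.hy ha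
  have key : ∀ a ∈ apart D x, Φ.cc a ∈ Φ.V0 → g * a * g⁻¹ ∈ apart D x ∧ Φ.cc (g * a * g⁻¹) ∈ Φ.V0 := by
    clear ha
    induction hg using Subgroup.closure_induction_left with
    | one => intro a ha hm; simpa using ⟨ha, hm⟩
    | mul_left d hd g _ ih =>
      intro a ha hm
      obtain ⟨h1, h2⟩ := ih a ha hm
      have e : d * g * a * (d * g)⁻¹ = d * (g * a * g⁻¹) * d⁻¹ := by group
      rw [e]
      rcases hd with rfl | hd
      · rw [inv_eq B.h.1 B.hx]
        exact ⟨x_apart B h1, (Φ.cc_x B h1).symm ▸ h2⟩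
      · rw [inv_eq B.h.1 hd.1]
        obtain ⟨p, hp⟩ := exists_rep B hd
        obtain ⟨v, rfl⟩ := Φ.surj p d hp
        exact ⟨perp_apart B hd h1, (Φ.cc_kappa B h4 h1 h2 p v).symm ▸
          add_mem h2 (Submodule.smul_mem _ _ (Φ.R_mem p))⟩
    | inv_mul_cancel d hd g _ ih =>
      intro a ha hm
      obtain ⟨h1, h2⟩ := ih a ha hm
      have hd2 : d⁻¹ = d := by
        rcases hd with rfl | hd
        · exact inv_eq B.h.1 B.hx
        · exact inv_eq B.h.1 hd.1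
      have e : d⁻¹ * g * a * (d⁻¹ * g)⁻¹ = d * (g * a * g⁻¹) * d⁻¹ := by
        simp only [hd2, mul_inv_rev, mul_assoc]
      rw [e]
      rcases hd with rfl | hd
      · rw [inv_eq B.h.1 B.hx]
        exact ⟨x_apart B h1, (Φ.cc_x B h1).symm ▸ h2⟩
      · rw [inv_eq B.h.1 hd.1]
        obtain ⟨p, hp⟩ := exists_rep B hd
        obtain ⟨v, rfl⟩ := Φ.surj p d hp
        exact ⟨perp_apart B hd h1, (Φ.cc_kappa B h4 h1 h2 p v).symm ▸
          add_mem h2 (Submodule.smul_mem _ _ (Φ.R_mem p))⟩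
  exact (key y B.hy (by rw [Φ.cc_y B]; exact zero_mem _)).2

theorem Frame.cc_perp {a : G} (ha : a ∈ apart D x) (p : Pt D x y) (v : F) :
    Φ.cc (Φ.κ p v * a * Φ.κ p v) = Φ.cc a + (Φ.cc a p + v) • Φ.R p :=
  Φ.cc_kappa B h4 ha (Φ.cc_mem B h4 ha) p v

end Cfsg.Agent.Grp.PolarRec
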