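import Cfsg.Agent.Lib.Grp.PolarRec.Nu
import Cfsg.Agent.Lib.Grp.PolarRec.Iso
import Cfsg.Agent.Lib.Block.FischerTypes.U6Count
import Cfsg.Agent.Lib.Classical.NormalForms
import Cfsg.Agent.S0283

/-! Lines of five points: the projective special unitary group over the field of four elements. -/

set_option autoImplicit false
set_option linter.unusedSectionVars false
set_option linter.style.haveILetI false

namespace Cfsg.Agent.Grp.PolarRec

open Cfsg Cfsg.Agent.Spor.ThreeTrans Cfsg.Agent.Block.FischerTypes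
open Cfsg.Agent.Spor.ThreeTrans renaming mul_self → dsq
open Cfsg.Agent.Block.FischerTypes.U6 (root root_congr root_smul root_commute roots roots_class')

variable {F : Type} [Field F] [Fintype F] {G : Type*} [Group G] [Finite G] {D : Set G} {x y : G}
  (B : Base D x y) (h4 : Fintype.card F = 4) (Φ : Frame F D x y)

/-- The form on the space. -/
noncomputable def Frame.form (Φ : Frame F D x y) (h4 : Fintype.card F = 4) (u w : F × ↥Φ.V0 × F) : F :=
  u.1 * bar h4 w.2.2 + u.2.2 * bar h4 w.1 + Φ.hh h4 u.2.1.1 w.2.1.1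

include B

/-- The vector of a member. -/
noncomputable def Frame.vec (b : G) : F × ↥Φ.V0 × F := by
  classical exact
  if b = x then (1, 0, 0) else
  if h : b ∈ apart D x then (bar h4 (Φ.nu b), ⟨Φ.cc b, Φ.cc_mem B h4 h⟩, 1) else
  if h : ∃ q : Pt D x y × F, Φ.κ q.1 q.2 = b then
    (bar h4 h.choose.2, ⟨Φ.R h.choose.1, Φ.R_mem _⟩, 0) else 0

include h4

theorem Frame.vec_x : Φ.vec B h4 x = (1, 0, 0) := by simp [Frame.vec]

theorem Frame.vec_apart {b : G} (hb : b ∈ apart D x) :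
    Φ.vec B h4 b = (bar h4 (Φ.nu b), ⟨Φ.cc b, Φ.cc_mem B h4 hb⟩, 1) := by
  have hne : b ≠ x := fun k => hb.2 (k ▸ Commute.refl x)
  rw [Frame.vec, if_neg hne, dif_pos hb]

theorem Frame.vec_kappa (p : Pt D x y) (v : F) :
    Φ.vec B h4 (Φ.κ p v) = (bar h4 v, ⟨Φ.R p, Φ.R_mem p⟩, 0) := by
  classical
  have hP := Φ.memP B p v
  have hA : Φ.κ p v ∉ apart D x := fun k => k.2 hP.2.2.symm
  have hex : ∃ q : Pt D x y × F, Φ.κ q.1 q.2 = Φ.κ p v := ⟨(p, v), rfl⟩
  have key : ∀ (q : Pt D x y) (w : F), Φ.κ q w = Φ.κ p v → q = p ∧ w = v := by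
    intro q w e
    obtain rfl : q = p := by
      refine eq_of_mem_cls B ?_
      rw [← cls_eq B.C B.hx p.2.1 (Φ.mem p v), ← e, cls_eq B.C B.hx q.2.1 (Φ.mem q w)]
      exact self_mem_cls q.2.1
    exact ⟨rfl, Φ.inj q e⟩
  obtain ⟨e1, e2⟩ := key _ _ hex.choose_spec
  rw [Frame.vec, if_neg hP.2.1, dif_neg hA, dif_pos hex]
  simp only [e1, e2]

omit B h4 in
theorem smul_space (c : F) (a : F) (m : ↥Φ.V0) (b : F) :
    c • ((a, m, b) : F × ↥Φ.V0 × F) = (c * a, c • m, c * b) := rfl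

omit h4 in
theorem Frame.member_cases {b : G} (hb : b ∈ D) :
    b = x ∨ (∃ p v, b = Φ.κ p v) ∨ b ∈ apart D x := by
  by_cases hx : b = x
  · exact Or.inl hx
  by_cases hc : Commute x b
  · obtain ⟨p, hp⟩ := exists_rep B (⟨hb, hx, hc⟩ : b ∈ perp D x)
    obtain ⟨v, hv⟩ := Φ.surj p b hp
    exact Or.inr (Or.inl ⟨p, v, hv.symm⟩)
  · exact Or.inr (Or.inr ⟨hb, fun k => hc k.symm⟩)

theorem Frame.vec_ne {b : G} (hb : b ∈ D) : Φ.vec B h4 b ≠ 0 := by
  rcases Φ.member_cases B hb with rfl | ⟨p, v, rfl⟩ | h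
  · rw [Φ.vec_x B h4]; exact fun e => one_ne_zero (congrArg Prod.fst e)
  · rw [Φ.vec_kappa B h4]
    intro e
    obtain ⟨r, hr, hrp⟩ := exists_noncomm_perp B.C B.hx p.2.1
    obtain ⟨r₀, hr₀⟩ := exists_rep B hr
    have e2 : Φ.R p = 0 := congrArg (fun z : F × ↥Φ.V0 × F => (z.2.1 : Pt D x y → F)) e
    have := (Φ.lam_eq_zero_iff B).mp (congrFun e2 r₀)
    exact hrp ((comm_cls_iff B hr₀ p.2.1).mpr this.symm).symm
  · rw [Φ.vec_apart B h4 h]; exact fun e => one_ne_zero (congrArg (fun z => z.2.2) e)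

theorem Frame.vec_iso {b : G} (hb : b ∈ D) :
    Φ.form h4 (Φ.vec B h4 b) (Φ.vec B h4 b) = 0 := by
  rcases Φ.member_cases B hb with rfl | ⟨p, v, rfl⟩ | h
  · rw [Φ.vec_x B h4]; simp [Frame.form, Frame.hh]
  · rw [Φ.vec_kappa B h4]
    simp [Frame.form, Φ.hh_R B h4 (Φ.R_mem p), Frame.R, Φ.lam_self B]
  · rw [Φ.vec_apart B h4 h]
    simp only [Frame.form, map_one, mul_one, one_mul, bar_bar h4]
    rw [add_comm (bar h4 _), Φ.nu_trace B h4 h, Spor.UnitTwo.add_self h4]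

theorem Frame.equiv_x {b : G} (hb : b ∈ D) :
    ∃ k : F, k ≠ 0 ∧ Φ.vec B h4 (x * b * x) =
      k • (Φ.vec B h4 b + Φ.form h4 (Φ.vec B h4 b) (Φ.vec B h4 x) • Φ.vec B h4 x) := by
  refine ⟨1, one_ne_zero, ?_⟩
  rw [one_smul, Φ.vec_x B h4]
  have hxx := dsq B.h.1 B.hx
  rcases Φ.member_cases B hb with rfl | ⟨p, v, rfl⟩ | h
  · rw [hxx, one_mul, Φ.vec_x B h4]; simp [Frame.form, Frame.hh]
  · have hc := (Φ.memP B p v).2.2
    rw [hc.eq, mul_assoc, hxx, mul_one, Φ.vec_kappa B h4]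
    have h0 : Φ.hh h4 (Φ.R p) 0 = 0 := by
      have := Φ.hh_smul_right B h4 (Φ.R_mem p) 0 (Φ.R_mem p)
      rwa [zero_smul, map_zero, zero_mul] at this
    simp [Frame.form, h0]
  · rw [Φ.vec_apart B h4 (x_apart B h), Φ.vec_apart B h4 h]
    have h0 : Φ.hh h4 (Φ.cc b) 0 = 0 := by
      have := Φ.hh_smul_right B h4 (Φ.cc_mem B h4 h) 0 (Φ.cc_mem B h4 h)
      rwa [zero_smul, map_zero, zero_mul] at this
    refine Prod.ext ?_ (Prod.ext (Subtype.ext ?_) ?_) <;>
      simp [Frame.form, h0, Φ.cc_x B h, Φ.nu_x B h4 h]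

theorem Frame.vec_zz : Φ.vec B h4 (zz x y) = (1, 0, 1) := by
  have hz : zz x y ∈ apart D x := x_apart B B.hy
  rw [Φ.vec_apart B h4 hz, Φ.nu_of_zz B hz (Commute.refl _), map_one]
  refine Prod.ext rfl (Prod.ext (Subtype.ext ?_) rfl)
  exact (Φ.cc_x B B.hy).trans (Φ.cc_y B)

theorem Frame.swap_formula (a : F) (m : ↥Φ.V0) (b : F) :
    ((a, m, b) : F × ↥Φ.V0 × F) + Φ.form h4 (a, m, b) (1, 0, 1) • (1, 0, 1) = (b, m, a) := by
  have h0 : Φ.hh h4 m.1 0 = 0 := by
    have := Φ.hh_smul_right B h4 m.2 0 m.2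
    rwa [zero_smul, map_zero, zero_mul] at this
  have e : Φ.form h4 (a, m, b) (1, 0, 1) = a + b := by simp [Frame.form, h0]
  rw [e, smul_space]
  refine Prod.ext ?_ (Prod.ext ?_ ?_) <;> simp
  · linear_combination Spor.UnitTwo.add_self h4 a
  · linear_combination Spor.UnitTwo.add_self h4 b

theorem Frame.equiv_zz {b : G} (hb : b ∈ D) :
    ∃ k : F, k ≠ 0 ∧ Φ.vec B h4 (zz x y * b * zz x y) =
      k • (Φ.vec B h4 b + Φ.form h4 (Φ.vec B h4 b) (Φ.vec B h4 (zz x y)) • Φ.vec B h4 (zz x y)) := by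
  rw [Φ.vec_zz B h4]
  have hy0 : Φ.vec B h4 y = (0, 0, 1) := by
    rw [Φ.vec_apart B h4 B.hy, Φ.nu_of_y (Commute.refl y), map_zero]
    exact Prod.ext rfl (Prod.ext (Subtype.ext (Φ.cc_y B)) rfl)
  rcases Φ.member_cases B hb with rfl | ⟨p, v, rfl⟩ | h
  · refine ⟨1, one_ne_zero, ?_⟩
    rw [zz_x B, hy0, Φ.vec_x B h4, Φ.swap_formula B h4, one_smul]
  · by_cases hv : v = 0
    · refine ⟨1, one_ne_zero, ?_⟩
      rw [hv, Φ.zero, (zz_comm_pt B p).eq, mul_assoc, zz_sq B, mul_one, ← Φ.zero p,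
        Φ.vec_kappa B h4, Φ.swap_formula B h4, one_smul, map_zero]
    · refine ⟨v, hv, ?_⟩
      obtain ⟨hA, hyc⟩ := Φ.zconj_kappa_apart B (p := p) hv
      rw [Φ.vec_apart B h4 hA, Φ.vec_kappa B h4, Φ.swap_formula B h4, smul_space,
        Φ.nu_of_y hyc, map_zero]
      refine Prod.ext (by simp) (Prod.ext (Subtype.ext ?_) (mul_bar h4 hv).symm)
      exact Φ.cc_zconj B h4 hv
  · by_cases h1 : Commute b y
    · by_cases hby : b = y
      · refine ⟨1, one_ne_zero, ?_⟩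
        rw [hby, zz_y B, hy0, Φ.vec_x B h4, Φ.swap_formula B h4, one_smul]
      obtain ⟨p, v, hv, e⟩ := Φ.comm_y_cases B h h1 hby
      refine ⟨bar h4 v, (map_ne_zero _).mpr hv, ?_⟩
      rw [Φ.vec_apart B h4 h, Φ.swap_formula B h4, smul_space, Φ.nu_of_y h1, map_zero, mul_one,
        mul_zero]
      rw [show zz x y * b * zz x y = Φ.κ p v by rw [e, zz_zz B], Φ.vec_kappa B h4]
      refine Prod.ext rfl (Prod.ext (Subtype.ext ?_) rfl)
      show Φ.R p = bar h4 v • Φ.cc b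
      rw [e, Φ.cc_zconj B h4 hv, smul_smul, bar_mul_self h4 hv, one_smul]
    · have n0 : Φ.nu b ≠ 0 := fun k => h1 ((Φ.nu_zero_iff B h4 h).mp k)
      refine ⟨Φ.nu b, n0, ?_⟩
      rw [Φ.vec_apart B h4 h, Φ.swap_formula B h4, Φ.vec_apart B h4 (zconj_apart B h h1),
        smul_space, Φ.nu_zconj B h4 h h1]
      refine Prod.ext ?_ (Prod.ext (Subtype.ext ?_) (mul_bar h4 n0).symm)
      · show bar h4 (Φ.nu b)⁻¹ = Φ.nu b * 1
        rw [inv_eq_of_mul_eq_one_right (mul_bar h4 n0), bar_bar h4, mul_one]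
      · exact Φ.nu_spec B h4 h h1

theorem Frame.equiv_kappa (p : Pt D x y) (v : F) {b : G} (hb : b ∈ D) :
    ∃ k : F, k ≠ 0 ∧ Φ.vec B h4 (Φ.κ p v * b * Φ.κ p v) =
      k • (Φ.vec B h4 b + Φ.form h4 (Φ.vec B h4 b) (Φ.vec B h4 (Φ.κ p v)) • Φ.vec B h4 (Φ.κ p v)) := by
  have dP := Φ.memP B p v
  have dd := dsq B.h.1 dP.1
  rw [Φ.vec_kappa B h4 p v]
  rcases Φ.member_cases B hb with rfl | ⟨r, w, rfl⟩ | h
  · refine ⟨1, one_ne_zero, ?_⟩
    rw [dP.2.2.symm.eq, mul_assoc, dd, mul_one, Φ.vec_x B h4, one_smul]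
    simp [Frame.form, Frame.hh]
  · rw [Φ.vec_kappa B h4 r w]
    have eH : Φ.form h4 (bar h4 w, ⟨Φ.R r, Φ.R_mem r⟩, (0 : F)) (bar h4 v, ⟨Φ.R p, Φ.R_mem p⟩, (0 : F))
        = Φ.lam p r := by
      simp [Frame.form, Φ.hh_R B h4 (Φ.R_mem r), Frame.R]
    rw [eH, smul_space]
    by_cases hc : Commute r.1 p.1
    · refine ⟨1, one_ne_zero, ?_⟩
      have hcd : Commute (Φ.κ p v) (Φ.κ r w) := (Φ.comm_iff₂ B r p w v).mpr hc.symm
      rw [hcd.eq, mul_assoc, dd, mul_one, Φ.vec_kappa B h4, Φ.lam_comm B hc.symm, one_smul]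
      refine Prod.ext ?_ (Prod.ext (Subtype.ext ?_) ?_) <;> simp
    · set s := B.conj p r with hs
      have hl : Φ.lam s r ≠ 0 := Φ.lam_ne B fun k => noncomm_conj_right B hc k.symm
      refine ⟨bar h4 (Φ.lam s r), (map_ne_zero _).mpr hl, ?_⟩
      rw [Φ.kappa_conj B h4 hc w v, ← hs, Φ.vec_kappa B h4]
      refine Prod.ext ?_ (Prod.ext (Subtype.ext ?_) ?_)
      · show bar h4 (Φ.lam s r * (w + Φ.lam r p * v)) = _
        rw [map_mul, map_add, map_mul, ← Φ.lam_symm B h4 r p]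
        simp
      · funext q
        have e := Φ.row_third B h4 hc q
        rw [← hs] at e
        show Φ.lam q s = bar h4 (Φ.lam s r) * (Φ.lam q r + Φ.lam p r * Φ.lam q p)
        rw [mul_comm (Φ.lam p r), ← e, mul_left_comm, bar_mul_self h4 hl, mul_one]
      · simp
  · refine ⟨1, one_ne_zero, ?_⟩
    rw [one_smul, Φ.vec_apart B h4 (perp_apart B dP h), Φ.vec_apart B h4 h, smul_space]
    have eH : Φ.form h4 (bar h4 (Φ.nu b), ⟨Φ.cc b, Φ.cc_mem B h4 h⟩, (1 : F))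
        (bar h4 v, ⟨Φ.R p, Φ.R_mem p⟩, (0 : F)) = Φ.cc b p + v := by
      simp [Frame.form, Φ.hh_R B h4 (Φ.cc_mem B h4 h), bar_bar h4, add_comm]
    rw [eH]
    refine Prod.ext ?_ (Prod.ext (Subtype.ext ?_) ?_)
    · show bar h4 (Φ.nu (Φ.κ p v * b * Φ.κ p v)) = bar h4 (Φ.nu b) + (Φ.cc b p + v) * bar h4 v
      rw [Φ.nu_kappa B h4 h p v, map_add, map_mul, map_add, bar_bar h4, bar_bar h4]
    · exact Φ.cc_perp B h4 h p v
    · simp

theorem Frame.vec_surj {u : F × ↥Φ.V0 × F} (hu : u ≠ 0) (h0 : Φ.form h4 u u = 0) :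
    ∃ b ∈ D, ∃ c : F, c ≠ 0 ∧ Φ.vec B h4 b = c • u := by
  obtain ⟨a, ⟨m, hm⟩, β⟩ := u
  simp only [Frame.form] at h0
  by_cases hβ : β = 0
  · subst hβ
    have hmm : Φ.hh h4 m m = 0 := by simpa using h0
    by_cases hm0 : m = 0
    · subst hm0
      have ha : a ≠ 0 := fun k => hu (by rw [k]; rfl)
      refine ⟨x, B.hx, a⁻¹, inv_ne_zero ha, ?_⟩
      rw [Φ.vec_x B h4, smul_space]
      exact Prod.ext (inv_mul_cancel₀ ha).symm (Prod.ext (Subtype.ext (smul_zero _).symm) (mul_zero _).symm)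
    · obtain ⟨r, c, hc, rfl⟩ := Φ.iso_row B h4 hm hm0 hmm
      refine ⟨Φ.κ r (bar h4 (c⁻¹ * a)), (Φ.memP B r _).1, c⁻¹, inv_ne_zero hc, ?_⟩
      rw [Φ.vec_kappa B h4, bar_bar h4, smul_space]
      refine Prod.ext rfl (Prod.ext (Subtype.ext ?_) (mul_zero _).symm)
      show Φ.R r = c⁻¹ • c • Φ.R r
      rw [smul_smul, inv_mul_cancel₀ hc, one_smul]
  · have hm1 : β⁻¹ • m ∈ Φ.V0 := Submodule.smul_mem _ _ hm
    obtain ⟨g, hg, hg'⟩ := Φ.exists_translation B h4 hm1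
    have hA := apart_conj B.h hg B.hy
    have hcc : Φ.cc (g * y * g⁻¹) = β⁻¹ • m := by rw [hg' y B.hy, Φ.cc_y B, zero_add]
    set b := g * y * g⁻¹ with hb
    set t := bar h4 (Φ.nu b) + β⁻¹ * a
    have ht : bar h4 t = t := by
      have hn := Φ.nu_trace B h4 hA
      have hβb : bar h4 β⁻¹ = β := by
        rw [inv_eq_of_mul_eq_one_right (mul_bar h4 hβ), bar_bar h4]
      have hN : bar h4 β * β = 1 := bar_mul_self h4 hβ
      rw [hcc, Φ.hh_smul_left h4, Φ.hh_smul_right B h4 hm _ hm, hβb] at hn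
      have hinv : β⁻¹ * β = 1 := inv_mul_cancel₀ hβ
      have hib : β⁻¹ = bar h4 β := inv_eq_of_mul_eq_one_right (mul_bar h4 hβ)
      simp only [t, map_add, map_mul, bar_bar h4, hβb]
      rw [hib] at hn ⊢
      linear_combination hn + h0 + Spor.UnitTwo.add_self h4 (Φ.hh h4 m m * (bar h4 β * β)) * 0
        + Φ.hh h4 m m * hN - Spor.UnitTwo.add_self h4 (bar h4 (Φ.nu b))
        - Spor.UnitTwo.add_self h4 (bar h4 β * a)
    rcases zero_or_one h4 ht with k | k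
    · refine ⟨b, hA.1, β⁻¹, inv_ne_zero hβ, ?_⟩
      rw [Φ.vec_apart B h4 hA, smul_space]
      exact Prod.ext ((add_cancel_self h4).mp k) (Prod.ext (Subtype.ext hcc) (inv_mul_cancel₀ hβ).symm)
    · refine ⟨x * b * x, (x_apart B hA).1, β⁻¹, inv_ne_zero hβ, ?_⟩
      rw [Φ.vec_apart B h4 (x_apart B hA), smul_space]
      refine Prod.ext ?_ (Prod.ext (Subtype.ext ((Φ.cc_x B hA).trans hcc)) (inv_mul_cancel₀ hβ).symm)
      show bar h4 (Φ.nu (x * b * x)) = β⁻¹ * a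
      rw [Φ.nu_x B h4 hA, map_add, map_one]
      refine (add_cancel_self h4).mp ?_
      linear_combination k + Spor.UnitTwo.add_self h4 (1 : F)

theorem gen_S : Subgroup.closure ({x, zz x y} ∪ perp D x) = ⊤ := by
  rw [eq_top_iff, ← B.h.2.2, Subgroup.closure_le]
  set K := Subgroup.closure ({x, zz x y} ∪ perp D x)
  have hx : x ∈ K := Subgroup.subset_closure (Or.inl (Or.inl rfl))
  have hz : zz x y ∈ K := Subgroup.subset_closure (Or.inl (Or.inr rfl))
  have hy : y ∈ K := by rw [← x_zz B]; exact mul_mem (mul_mem hx hz) hx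
  have hl : localGroup D x ≤ K := (Subgroup.closure_le _).mpr (by
    rintro e (rfl | he)
    · exact hx
    · exact Subgroup.subset_closure (Or.inr he))
  intro b hb
  by_cases hbx : b = x
  · rw [hbx]; exact hx
  by_cases hc : Commute x b
  · exact Subgroup.subset_closure (Or.inr ⟨hb, hbx, hc⟩)
  obtain ⟨g, hg, e⟩ := transitive_apart B.C.H B.hx B.hy (b₀ := b) ⟨hb, fun k => hc k.symm⟩
  rw [SetLike.mem_coe, ← e]
  exact mul_mem (mul_mem (hl hg) hy) (inv_mem (hl hg))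

include Φ in
theorem Frame.exists_unitary (hG : Subgroup.center G = ⊥) :
    ∃ (n : ℕ) (τ : G ≃* PSU n F 2), 4 ≤ n ∧ τ '' D = roots h4 n := by
  classical
  have hz : ∀ {v : Pt D x y → F}, v ∈ Φ.V0 → Φ.hh h4 v 0 = 0 := fun {v} hv => by
    have := Φ.hh_smul_right B h4 hv 0 hv
    rwa [zero_smul, map_zero, zero_mul] at this
  let Bl : (F × ↥Φ.V0 × F) →ₛₗ[bar h4] (F × ↥Φ.V0 × F) →ₗ[F] F := LinearMap.mk₂'ₛₗ (bar h4) (RingHom.id F)
    (fun u v => Φ.form h4 v u)
    (fun u u' v => by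
      simp only [Frame.form, Prod.fst_add, Prod.snd_add, map_add, Submodule.coe_add,
        Φ.hh_add_right B h4 v.2.1.2 u.2.1.2 u'.2.1.2]; ring)
    (fun c u v => by
      simp only [Frame.form, Prod.smul_fst, Prod.smul_snd, smul_eq_mul, map_mul, SetLike.val_smul,
        Φ.hh_smul_right B h4 v.2.1.2 c u.2.1.2]; ring)
    (fun u v v' => by
      simp only [Frame.form, Prod.fst_add, Prod.snd_add, Submodule.coe_add, Φ.hh_add_left h4]; ring)
    (fun c u v => by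
      simp only [Frame.form, Prod.smul_fst, Prod.smul_snd, smul_eq_mul, SetLike.val_smul,
        Φ.hh_smul_left h4, RingHom.id_apply]; ring)
  have hBl : ∀ u v, Bl u v = Φ.form h4 v u := fun _ _ => rfl
  have hS : Bl.IsSymm := ⟨fun u v => by
    rw [hBl, hBl]
    simp only [Frame.form, map_add, map_mul, bar_bar h4, Φ.hh_swap B h4 v.2.1.2 u.2.1.2]; ring⟩
  set n := Module.finrank F (F × ↥Φ.V0 × F) with hn
  have hnd : ∀ w ∈ (⊤ : Submodule F (F × ↥Φ.V0 × F)), w ≠ 0 → ∃ u ∈ (⊤ : Submodule F (F × ↥Φ.V0 × F)), Bl w u ≠ 0 := by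
    intro w _ hw
    by_contra hno
    simp only [Submodule.mem_top, true_and, not_exists, not_not] at hno
    obtain ⟨a, ⟨m, hm⟩, β⟩ := w
    have h1 : β = 0 := by
      have := hno (1, 0, 0)
      simp [hBl, Frame.form, Frame.hh] at this
      exact this
    have h2 : a = 0 := by
      have := hno (0, 0, 1)
      simp [hBl, Frame.form, Frame.hh] at this
      exact this
    refine hw ?_
    have h3 : m = 0 := Φ.hh_nondeg B h4 hm fun u hu => by
      have := hno (0, ⟨u, hu⟩, 0)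
      simp [hBl, Frame.form] at this
      rw [← Φ.hh_swap B h4 hu hm, this, map_zero]
    subst h1; subst h2; subst h3
    rfl
  obtain ⟨bs, -, hbs⟩ := Classical.exists_orthonormal_family_herm Bl
    (Classical.qFrob_ne_id (Spor.UnitTwo.card_sq h4)) (bar_bar h4) hS n ⊤ hnd
    (finrank_top F (F × ↥Φ.V0 × F))
  let f : (Fin n → F) →ₗ[F] (F × ↥Φ.V0 × F) := Fintype.linearCombination F bs
  have hform : ∀ c d, Φ.form h4 (f c) (f d) = hermForm n F 2 c d := by
    intro c d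
    rw [← hBl]
    simp only [f, Fintype.linearCombination_apply, map_sum, LinearMap.map_smulₛₗ, RingHom.id_apply,
      LinearMap.sum_apply, LinearMap.smul_apply, smul_eq_mul, hbs, hermForm, mul_ite, mul_one,
      mul_zero, Finset.sum_ite_eq, Finset.sum_ite_eq', Finset.mem_univ, if_true, bar_apply, pow_two]
  have hfi : Function.Injective f := (injective_iff_map_eq_zero f).mpr fun c hc => funext fun i => by
    have h1 := hform c (Pi.single i 1)
    rw [hc, Classical.hermForm_single_right (Spor.UnitTwo.card_sq h4)] at h1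
    rw [Pi.zero_apply, ← h1]
    simp [Frame.form, Frame.hh]
  let L := LinearEquiv.ofInjectiveOfFinrankEq f hfi (by rw [Module.finrank_pi, Fintype.card_fin])
  have hL : ∀ c, L c = f c := fun c => rfl
  -- at least four dimensions
  have hn4 : 4 ≤ n := by
    have h2 : 2 ≤ Module.finrank F ↥Φ.V0 := by
      obtain ⟨p, -⟩ := exists_rep B (perp_nonempty B.C.H B.hx).some_mem
      obtain ⟨r, hr, hrp⟩ := exists_noncomm_perp B.C B.hx p.2.1
      obtain ⟨r₀, hr₀⟩ := exists_rep B hr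
      have hne : ¬ Commute r₀.1 p.1 := fun k =>
        hrp ((comm_cls_iff B hr₀ p.2.1).mpr k.symm).symm
      let w : Fin 2 → ↥Φ.V0 := ![⟨Φ.R p, Φ.R_mem p⟩, ⟨Φ.R r₀, Φ.R_mem r₀⟩]
      have hli : LinearIndependent F w := by
        rw [Fintype.linearIndependent_iff]
        intro c hc
        have e : c 0 • Φ.R p + c 1 • Φ.R r₀ = 0 := by
          have := congrArg Subtype.val hc
          simpa [Fin.sum_univ_two, w] using this
        have e1 := congrFun e p
        have e2 := congrFun e r₀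
        simp [Frame.R, Φ.lam_self B] at e1 e2
        intro i
        fin_cases i
        · exact e2.resolve_right (Φ.lam_ne B hne)
        · exact e1.resolve_right (Φ.lam_ne B fun k => hne k.symm)
      have := hli.fintype_card_le_finrank
      simpa using this
    rw [hn, Module.finrank_prod, Module.finrank_prod, Module.finrank_self]
    omega
  -- the map
  have hiso : ∀ b : G, hermForm n F 2 (if b ∈ D then L.symm (Φ.vec B h4 b) else 0)
      (if b ∈ D then L.symm (Φ.vec B h4 b) else 0) = 0 := by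
    intro b
    split_ifs with hb
    · rw [← hform, ← hL, L.apply_symm_apply]; exact Φ.vec_iso B h4 hb
    · simp [hermForm]
  let φ : G → PSU n F 2 := fun b => root h4 (hiso b)
  have hvec : ∀ {b}, b ∈ D → (if b ∈ D then L.symm (Φ.vec B h4 b) else 0) = L.symm (Φ.vec B h4 b) :=
    fun hb => if_pos hb
  have hne : ∀ {b}, b ∈ D → L.symm (Φ.vec B h4 b) ≠ 0 := fun hb k =>
    Φ.vec_ne B h4 hb (L.symm.injective (k.trans (map_zero _).symm))
  have hφ : ∀ d ∈ D, φ d ∈ roots h4 n := fun d hd =>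
    ⟨_, by rw [hvec hd]; exact hne hd, hiso d, rfl⟩
  have hsurj : ∀ e ∈ roots h4 n, ∃ d ∈ D, φ d = e := by
    rintro _ ⟨v, hv0, hv, rfl⟩
    obtain ⟨b, hb, c, hc, e⟩ := Φ.vec_surj B h4 (u := L v)
      (fun k => hv0 (L.injective (k.trans (map_zero _).symm))) (by rw [hL, hform]; exact hv)
    refine ⟨b, hb, ?_⟩
    have e' : (if b ∈ D then L.symm (Φ.vec B h4 b) else 0) = c • v := by
      rw [hvec hb, e, map_smul, L.symm_apply_apply]
    show root h4 (hiso b) = root h4 hv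
    rw [root_congr h4 (hiso b) (e' ▸ hiso b) e']
    exact root_smul h4 hv hc _
  have heq : ∀ s ∈ ({x, zz x y} ∪ perp D x : Set G), ∀ b ∈ D, φ (s * b * s) = φ s * φ b * φ s := by
    intro s hs b hb
    have hsD : s ∈ D ∧ ∃ k : F, k ≠ 0 ∧ Φ.vec B h4 (s * b * s) =
        k • (Φ.vec B h4 b + Φ.form h4 (Φ.vec B h4 b) (Φ.vec B h4 s) • Φ.vec B h4 s) := by
      rcases hs with (rfl | rfl) | hs
      · exact ⟨B.hx, Φ.equiv_x B h4 hb⟩
      · exact ⟨zz_mem B, Φ.equiv_zz B h4 hb⟩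
      · obtain ⟨p, hp⟩ := exists_rep B hs
        obtain ⟨v, rfl⟩ := Φ.surj p s hp
        exact ⟨hs.1, Φ.equiv_kappa B h4 p v hb⟩
    obtain ⟨hsD, k, hk, e⟩ := hsD
    have hbb := conj'_mem B.h hsD hb
    set us := if s ∈ D then L.symm (Φ.vec B h4 s) else 0 with hus
    set ub := if b ∈ D then L.symm (Φ.vec B h4 b) else 0 with hub
    have e1 : (if s * b * s ∈ D then L.symm (Φ.vec B h4 (s * b * s)) else 0) =
        k • (ub + hermForm n F 2 ub us • us) := by
      rw [hvec hbb, e, hus, hub, hvec hsD, hvec hb]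
      rw [show hermForm n F 2 (L.symm (Φ.vec B h4 b)) (L.symm (Φ.vec B h4 s)) =
        Φ.form h4 (Φ.vec B h4 b) (Φ.vec B h4 s) by
          rw [← hform, ← hL, ← hL, L.apply_symm_apply, L.apply_symm_apply]]
      simp only [map_smul, map_add]
    have e2 : Spor.UnitTwo.tv h4 (hiso s) * Spor.UnitTwo.tv h4 (hiso b) * Spor.UnitTwo.tv h4 (hiso s) =
        Spor.UnitTwo.tv h4 (v := ub + hermForm n F 2 ub us • us) (by
          have := Classical.PSUAut.su_form (Spor.UnitTwo.tv h4 (hiso s)) ub ub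
          rw [Spor.UnitTwo.suVal_tv h4, Spor.UnitTwo.T_apply h4] at this
          exact this.trans (hiso b)) := by
      have := Spor.UnitTwo.suVal_conj h4 (Spor.UnitTwo.tv h4 (hiso s)) (hiso b)
      rw [inv_eq_of_mul_eq_one_right (Spor.UnitTwo.tv_mul_self h4 (hiso s))] at this
      rw [this]
      refine Classical.suVal_ext ?_
      simp only [Spor.UnitTwo.suVal_tv h4, Spor.UnitTwo.T_apply h4]
      rfl
    show root h4 (hiso (s * b * s)) = root h4 (hiso s) * root h4 (hiso b) * root h4 (hiso s)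
    rw [root_congr h4 (hiso (s * b * s)) (e1 ▸ hiso (s * b * s)) e1]
    unfold root
    rw [← map_mul, ← map_mul, e2]
    exact congrArg _ (Classical.suVal_ext (Spor.UnitTwo.T_smul h4 hk _))
  have hE := roots_class' (n := n) h4 hn4
  haveI := Cfsg.Agent.S0283.result (F := F) (q := 2) (Spor.UnitTwo.card_sq h4) n (by omega) (by omega)
  have hnab : ∃ a ∈ roots h4 n, ∃ b ∈ roots h4 n, ¬ Commute a b := by
    obtain ⟨d, hd, hc⟩ : ∃ d ∈ D, d ∈ apart D x := ⟨y, B.hy.1, B.hy⟩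
    refine ⟨φ x, hφ x B.hx, φ y, hφ y B.hy.1, fun k => ?_⟩
    rw [show φ x = root h4 (hiso x) from rfl, show φ y = root h4 (hiso y) from rfl,
      root_commute h4 (by omega) (hiso x) (hiso y) (by rw [hvec B.hx]; exact hne B.hx)
        (by rw [hvec B.hy.1]; exact hne B.hy.1)] at k
    rw [hvec B.hx, hvec B.hy.1, ← hform, ← hL, ← hL, L.apply_symm_apply, L.apply_symm_apply,
      Φ.vec_x B h4, Φ.vec_apart B h4 B.hy] at k
    have h0 : Φ.hh h4 0 (Φ.cc y) = 0 := by simp [Frame.hh]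
    simp [Frame.form, h0] at k
  obtain ⟨a, ha, b, hb, hab⟩ := hnab
  have hX : Subgroup.center (PSU n F 2) = ⊥ :=
    (Subgroup.Normal.eq_bot_or_eq_top inferInstance).resolve_right fun ht =>
      hab (Subgroup.mem_center_iff.mp (ht ▸ Subgroup.mem_top b) a)
  obtain ⟨τ, hτ⟩ := iso_of_equivariant hE hX ⟨a, ha, b, hb, fun e => hab (e ▸ Commute.refl a)⟩
    B.C.H hG φ hφ hsurj (S := ({x, zz x y} ∪ perp D x : Set G))
    (by
      rintro e ((rfl | rfl) | he)
      exacts [B.hx, zz_mem B, he.1])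
    (gen_S B h4) heq
  refine ⟨n, τ, hn4, Set.Subset.antisymm ?_ ?_⟩
  · rintro _ ⟨d, hd, rfl⟩
    rw [hτ d hd]; exact hφ d hd
  · intro e he
    obtain ⟨d, hd, rfl⟩ := hsurj e he
    exact ⟨d, hd, hτ d hd⟩

end Cfsg.Agent.Grp.PolarRec
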